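import Cfsg.Agent.OreSU.Core

/-!
# Factorisations of non-scalar invertible matrices into two classes

`A = R * H` with prescribed characteristic polynomials, the one of `R` having an irreducible factor of
codimension one or two, and `H` cyclic.
-/

set_option autoImplicit false
set_option linter.unusedSectionVars false
set_option linter.unusedSimpArgs false

namespace CfsgLib.OreSU

open Matrix Polynomial
open CfsgLib.LevCover
open CfsgLib.SourourProduct (blk blk_mul blk_ext blk_injective blk_mulVec_e₀ e₀ eq_blk exists_frame one_eq_blk Indep3)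

attribute [-simp] Fin.succ_zero_eq_one Fin.succ_zero_eq_one'

theorem det_col_single {S : Type*} [CommRing S] {n : ℕ} (M : Matrix (Fin (n + 1)) (Fin (n + 1)) S)
    (h : ∀ i : Fin n, M i.succ 0 = 0) : M.det = M 0 0 * (M.submatrix Fin.succ Fin.succ).det := by
  rw [det_succ_column_zero, Fin.sum_univ_succ]
  simp [h]

theorem det_two_col {S : Type*} [CommRing S] {n : ℕ} (M : Matrix (Fin (n + 2)) (Fin (n + 2)) S)
    (h0 : ∀ i : Fin n, M i.succ.succ 0 = 0) (h1 : ∀ i : Fin n, M i.succ.succ (Fin.succ 0) = 0) :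
    M.det = (M 0 0 * M (Fin.succ 0) (Fin.succ 0) - M (Fin.succ 0) 0 * M 0 (Fin.succ 0)) *
      (M.submatrix (fun i : Fin n => i.succ.succ) (fun i : Fin n => i.succ.succ)).det := by
  rw [det_succ_column_zero, Fin.sum_univ_succ, Fin.sum_univ_succ]
  simp only [h0, mul_zero, zero_mul, Finset.sum_const_zero, add_zero]
  rw [det_col_single (M.submatrix (Fin.succAbove 0) Fin.succ) (fun i => by simpa using h1 i),
    det_col_single (M.submatrix (Fin.succAbove (Fin.succ 0)) Fin.succ) (fun i => by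
      simpa [Fin.succ_succAbove_succ] using h1 i)]
  have e1 : ((M.submatrix (Fin.succAbove (Fin.succ (0 : Fin (n + 1)))) Fin.succ).submatrix Fin.succ Fin.succ) =
      M.submatrix (fun i : Fin n => i.succ.succ) (fun i : Fin n => i.succ.succ) := by
    ext i j; simp [Fin.succ_succAbove_succ]
  have e2 : ((M.submatrix (Fin.succAbove (0 : Fin (n + 2))) Fin.succ).submatrix Fin.succ Fin.succ) =
      M.submatrix (fun i : Fin n => i.succ.succ) (fun i : Fin n => i.succ.succ) := by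
    ext i j; simp
  rw [e1, e2]
  simp
  ring

variable {K : Type*} [Field K]

theorem charpoly_blk_upper {k : ℕ} (x : K) (r : Fin k → K) (G : Matrix (Fin k) (Fin k) K) :
    (blk x r 0 G).charpoly = (X - C x) * G.charpoly := by
  rw [Matrix.charpoly, det_col_single _ (fun i => by simp [charmatrix_apply, Fin.succ_ne_zero]), Matrix.charpoly]
  congr 1
  congr 1
  ext i j
  simp [charmatrix_apply, Matrix.diagonal_apply]

theorem charpoly_blk_two {k : ℕ} (x z s : K) (r : Fin (k + 1) → K) (ψ : Fin k → K)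
    (G : Matrix (Fin k) (Fin k) K) :
    (blk x r (s • e₀) (blk z ψ 0 G)).charpoly = ((X - C x) * (X - C z) - C (s * r 0)) * G.charpoly := by
  rw [Matrix.charpoly, det_two_col _ (fun i => by simp [charmatrix_apply, Fin.succ_ne_zero])
    (fun i => by simp [charmatrix_apply, Fin.succ_ne_zero, Fin.succ_inj]),
    Matrix.charpoly]
  congr 1
  · simp [charmatrix_apply, Fin.succ_ne_zero, (Fin.succ_ne_zero _).symm]
  · congr 1
    ext i j
    simp [charmatrix_apply, Matrix.diagonal_apply]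

theorem det_blk_two {k : ℕ} (x z s : K) (r : Fin (k + 1) → K) (ψ : Fin k → K)
    (G : Matrix (Fin k) (Fin k) K) :
    (blk x r (s • e₀) (blk z ψ 0 G)).det = (x * z - s * r 0) * G.det := by
  rw [det_two_col _ (fun i => by simp [Fin.succ_ne_zero])
    (fun i => by simp)]
  congr 1
  · simp

theorem cycAt_smul_vec {n : ℕ} {M : Matrix (Fin n) (Fin n) K} {c : Fin n → K} (h : CycAt M c) {s : K}
    (hs : s ≠ 0) : CycAt M (s • c) := by
  rw [cycAt_iff] at h ⊢
  intro z hz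
  refine h z fun j => ?_
  have := hz j
  rw [mulVec_smul, dotProduct_smul, smul_eq_mul, mul_eq_zero] at this
  exact this.resolve_left hs

theorem cyc_of_conj {n : ℕ} {M T T' : Matrix (Fin n) (Fin n) K} {e : Fin n → K} (h : CycAt M e)
    (hT : T * T' = 1) (hT' : T' * T = 1) : Cyc (T' * M * T) :=
  cyc_of_isCyc ⟨_, h.conj (T := T') (T' := T) hT hT'⟩

/-- Cyclicity from a characteristic polynomial with two coprime irreducible factors. -/
theorem cyc_of_two_factors {n : ℕ} {M : Matrix (Fin n) (Fin n) K} {p q : K[X]} (hM : M.charpoly = p * q)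
    (hp : Irreducible p) (hq : Irreducible q) (hco : IsCoprime p q) : Cyc M := by
  have key : ∀ p q : K[X], Irreducible q → q ∣ M.charpoly → IsCoprime p q → aeval M p ≠ 0 := by
    intro p q hq hdvd hco h0
    haveI := Fact.mk hq
    let L := AdjoinRoot q
    let x : L := AdjoinRoot.root q
    set ML : Matrix (Fin n) (Fin n) L := M.map (algebraMap K L) with hML
    have hxq : aeval x q = 0 := by
      show aeval (AdjoinRoot.root q) q = 0
      rw [AdjoinRoot.aeval_eq, AdjoinRoot.mk_self]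
    have hroot : ML.charpoly.eval x = 0 := by
      obtain ⟨r, hr⟩ := hdvd
      rw [hML, charpoly_map, eval_map, ← aeval_def, hr, map_mul, hxq, zero_mul]
    rw [eval_charpoly] at hroot
    obtain ⟨v, hv0, hv⟩ := Matrix.exists_mulVec_eq_zero_iff.2 hroot
    rw [sub_mulVec, scalar_apply, ← smul_one_eq_diagonal, smul_mulVec, one_mulVec, sub_eq_zero] at hv
    have hpow : ∀ r : K[X], (aeval M r).map (algebraMap K L) *ᵥ v = aeval x r • v := by
      intro r
      induction r using Polynomial.induction_on with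
      | C c =>
        rw [aeval_C, aeval_C, Matrix.algebraMap_eq_diagonal, Matrix.diagonal_map (map_zero _)]
        funext i
        simp [mulVec_diagonal]
      | add r r' h h' => rw [map_add, map_add, Matrix.map_add _ (map_add _), add_mulVec, h, h', add_smul]
      | monomial m c ih =>
        rw [pow_succ, ← mul_assoc, map_mul, map_mul _ _ X, aeval_X, aeval_X, Matrix.map_mul, ← mulVec_mulVec,
          ← hML, ← hv, mulVec_smul, ih, smul_smul, mul_comm]
    obtain ⟨a, b, hab⟩ := hco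
    have h1 := congrArg (aeval x) hab
    have h2 := hpow p
    rw [h0, Matrix.map_zero _ (map_zero _), zero_mulVec] at h2
    rw [map_add, map_mul, map_mul, (smul_eq_zero.1 h2.symm).resolve_right hv0, hxq, mul_zero, mul_zero,
      add_zero, map_one] at h1
    exact zero_ne_one h1
  have hp' := key p q hq ⟨p, by rw [hM, mul_comm]⟩ hco
  have hq' := key q p hp ⟨q, hM⟩ hco.symm
  obtain ⟨v, hv⟩ : ∃ v, aeval M p *ᵥ v ≠ 0 := by
    by_contra h; push Not at h
    exact hp' (Matrix.ext_iff_mulVec.2 fun v => by rw [h v, zero_mulVec])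
  obtain ⟨w, hw⟩ : ∃ v, aeval M q *ᵥ v ≠ 0 := by
    by_contra h; push Not at h
    exact hq' (Matrix.ext_iff_mulVec.2 fun v => by rw [h v, zero_mulVec])
  obtain ⟨e, he1, he2⟩ : ∃ e, aeval M p *ᵥ e ≠ 0 ∧ aeval M q *ᵥ e ≠ 0 := by
    by_cases h1 : aeval M q *ᵥ v = 0
    · by_cases h2 : aeval M p *ᵥ w = 0
      · exact ⟨v + w, by rwa [mulVec_add, h2, add_zero], by rwa [mulVec_add, h1, zero_add]⟩
      · exact ⟨w, h2, hw⟩
    · exact ⟨v, hv, h1⟩
  refine ⟨e, fun r hr hre => ?_⟩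
  by_contra hr0
  rw [Fintype.card_fin] at hr
  have hnd : r.natDegree < n := (natDegree_lt_iff_degree_lt hr0).2 hr
  have hdeg : p.natDegree + q.natDegree = n := by
    rw [← natDegree_mul hp.ne_zero hq.ne_zero, ← hM, charpoly_natDegree_eq_dim, Fintype.card_fin]
  have hpq : aeval M (p * q) *ᵥ e = 0 := by rw [← hM, Matrix.aeval_self_charpoly, zero_mulVec]
  rcases hp.isCoprime_or_dvd r with hpr | hpr <;> rcases hq.isCoprime_or_dvd r with hqr | hqr
  · obtain ⟨a, b, hab⟩ := hpr.mul_left hqr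
    have h1 := congrArg (fun f => aeval M f *ᵥ e) hab
    simp only [map_add, map_mul, map_one, add_mulVec, one_mulVec] at h1
    rw [← mulVec_mulVec e (aeval M b), hre, mulVec_zero, add_zero, ← mulVec_mulVec, ← map_mul, hpq,
      mulVec_zero] at h1
    exact he1 (by rw [← h1, mulVec_zero])
  · obtain ⟨r', rfl⟩ := hqr
    obtain ⟨a, b, hab⟩ := (IsCoprime.mul_right_iff.1 hpr).2
    have h1 := congrArg (fun f => aeval M (q * f) *ᵥ e) hab
    simp only [mul_one] at h1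
    rw [show q * (a * p + b * r') = a * (p * q) + b * (q * r') by ring, map_add, map_mul, map_mul _ b,
      add_mulVec, ← mulVec_mulVec, ← mulVec_mulVec e (aeval M b), hpq, hre, mulVec_zero, mulVec_zero,
      add_zero] at h1
    exact he2 h1.symm
  · obtain ⟨r', rfl⟩ := hpr
    obtain ⟨a, b, hab⟩ := (IsCoprime.mul_right_iff.1 hqr).2
    have h1 := congrArg (fun f => aeval M (p * f) *ᵥ e) hab
    simp only [mul_one] at h1
    rw [show p * (a * q + b * r') = a * (p * q) + b * (p * r') by ring, map_add, map_mul, map_mul _ b,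
      add_mulVec, ← mulVec_mulVec, ← mulVec_mulVec e (aeval M b), hpq, hre, mulVec_zero, mulVec_zero,
      add_zero] at h1
    exact he1 h1.symm
  · have := natDegree_le_of_dvd (hco.mul_dvd hpr hqr) hr0
    rw [natDegree_mul hp.ne_zero hq.ne_zero] at this
    omega

theorem exists_update_unit {k : ℕ} {N : Matrix (Fin (k + 1)) (Fin (k + 1)) K} {c : Fin (k + 1) → K}
    (h : ∀ z : Fin (k + 1) → K, z ᵥ* N = 0 → z ⬝ᵥ c = 0 → z = 0) :
    ∃ φ, (N + vecMulVec c φ).det ≠ 0 := by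
  by_contra hall
  push Not at hall
  have hz : ∀ φ, ∃ z : Fin (k + 1) → K, z ⬝ᵥ c = 1 ∧ z ᵥ* N = -φ := by
    intro φ
    obtain ⟨z, hz0, hz⟩ := Matrix.exists_vecMul_eq_zero_iff.2 (hall φ)
    rw [vecMul_add, vecMul_vecMulVec] at hz
    have hzc : z ⬝ᵥ c ≠ 0 := fun h0 => hz0 (h z (by simpa [h0] using hz) h0)
    refine ⟨(z ⬝ᵥ c)⁻¹ • z, by rw [smul_dotProduct, smul_eq_mul, inv_mul_cancel₀ hzc], ?_⟩
    rw [smul_vecMul, eq_neg_of_add_eq_zero_left hz, smul_neg, smul_smul, inv_mul_cancel₀ hzc, one_smul]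
  have hs : Function.Surjective (Matrix.vecMulLinear N) := fun φ => by
    obtain ⟨z, -, hz⟩ := hz (-φ)
    exact ⟨z, by simpa using hz⟩
  have hinj := LinearMap.injective_iff_surjective.2 hs
  obtain ⟨z, hz1, hz0⟩ := hz 0
  have : z = 0 := hinj (by simpa using hz0)
  rw [this, zero_dotProduct] at hz1
  exact zero_ne_one hz1

variable [Fintype K]

/-- A factorisation with one linear factor. -/
theorem exists_factor_one (h4 : 4 ≤ Fintype.card K) {k : ℕ} {A : Matrix (Fin (k + 2)) (Fin (k + 2)) K}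
    (hA : A.det ≠ 0) (hns : ∀ t : K, A ≠ t • 1) {β : K} (hβ : β ≠ 0) {f g : K[X]} (hf : f.Monic)
    (hfd : f.natDegree = k + 1) (hirr : Irreducible f) (hf0 : f.coeff 0 ≠ 0) (hg : g.Monic)
    (hgd : g.natDegree = k + 2) (hdet : (-1) ^ (k + 2) * g.coeff 0 * (β * ((-1) ^ (k + 1) * f.coeff 0)) = A.det) :
    ∃ R H, A = R * H ∧ R.charpoly = (X - C β) * f ∧ H.charpoly = g ∧ Cyc H := by
  obtain ⟨e, he⟩ := exists_noneigen hns
  obtain ⟨T, T', a, r, c, M, hT, hT', hTe, hblk, hc, hM, -⟩ := exists_frame' hA he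
  obtain ⟨G, hG, hcyc⟩ := exists_core h4 hM hc hf hfd hirr hf0
  have hGd : G.det = (-1) ^ (k + 1) * f.coeff 0 := det_of_charpoly hG
  have hG0 : G.det ≠ 0 := by rw [hGd]; exact mul_ne_zero (pow_ne_zero _ (neg_ne_zero.2 one_ne_zero)) hf0
  have uG : IsUnit G.det := isUnit_iff_ne_zero.2 hG0
  have uM : IsUnit (G⁻¹ * M).det := by
    rw [det_mul, det_nonsing_inv, Ring.inverse_eq_inv']
    exact isUnit_iff_ne_zero.2 (mul_ne_zero (inv_ne_zero hG0) hM)
  obtain ⟨L, b, hL⟩ := border_bij hcyc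
  set x := L.symm ((fun i : Fin (k + 2) => g.coeff i.val) - b)
  have hch : (blk (x 0) (fun j => x j.succ) (G⁻¹ *ᵥ c) (G⁻¹ * M)).charpoly = g := by
    refine eq_of_coeffs hg hgd ?_
    show LevCover.coeffs (border (G⁻¹ *ᵥ c) (G⁻¹ * M) x) = _
    rw [hL, LinearEquiv.apply_symm_apply]
    abel
  set η := fun j : Fin (k + 1) => x j.succ
  set φ := (r - β • η) ᵥ* (G⁻¹ * M)⁻¹ with hφ
  have hφM : φ ᵥ* (G⁻¹ * M) = r - β • η := by
    rw [hφ, vecMul_vecMul, Matrix.nonsing_inv_mul _ uM, vecMul_one]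
  have hprod : blk β φ 0 G * blk (x 0) η (G⁻¹ *ᵥ c) (G⁻¹ * M) =
      blk (β * x 0 + φ ⬝ᵥ (G⁻¹ *ᵥ c)) r c M := by
    rw [blk_mul, hφM, mulVec_mulVec, Matrix.mul_nonsing_inv G uG, one_mulVec, smul_zero, zero_add,
      ← Matrix.mul_assoc, Matrix.mul_nonsing_inv G uG, Matrix.one_mul, zero_vecMulVec, zero_add]
    congr 1
    abel
  have hcorner : a = β * x 0 + φ ⬝ᵥ (G⁻¹ *ᵥ c) := by
    have h1 := congrArg det hprod
    have hdA : (blk a r c M).det = A.det := by
      rw [← hblk, det_mul, det_mul, mul_comm T.det, mul_assoc, ← det_mul, hT, det_one, mul_one]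
    rw [det_mul, det_upper_blk, det_of_charpoly hch, hGd, mul_comm, hdet, ← hdA,
      det_blk_linear a (β * x 0 + φ ⬝ᵥ (G⁻¹ *ᵥ c))] at h1
    have h2 : (a - (β * x 0 + φ ⬝ᵥ (G⁻¹ *ᵥ c))) * M.det = 0 := by linear_combination h1
    exact sub_eq_zero.1 ((mul_eq_zero.1 h2).resolve_right hM)
  refine ⟨T' * blk β φ 0 G * T, T' * blk (x 0) η (G⁻¹ *ᵥ c) (G⁻¹ * M) * T, ?_, ?_, ?_, ?_⟩
  · rw [show T' * blk β φ 0 G * T * (T' * blk (x 0) η (G⁻¹ *ᵥ c) (G⁻¹ * M) * T) =
      T' * (blk β φ 0 G * (T * T') * blk (x 0) η (G⁻¹ *ᵥ c) (G⁻¹ * M)) * T by simp only [Matrix.mul_assoc],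
      hT, Matrix.mul_one, hprod, ← hcorner, ← hblk]
    simp [← Matrix.mul_assoc, hT', Matrix.mul_assoc _ T' T]
  · rw [charpoly_conj hT, charpoly_blk_upper, hG]
  · rw [charpoly_conj hT, hch]
  · exact cyc_of_conj (cycAt_blk hcyc _ _) hT hT'

/-- Two vectors with which the second factorisation starts. -/
def Seed {n : ℕ} (A : Matrix (Fin n) (Fin n) K) (a b : K) : Prop :=
  ∃ (v₀ v₁ : Fin n → K) (a₀ a₁ : K), A *ᵥ v₀ = a₀ • v₀ + a₁ • v₁ ∧ b * a₀ - a * a₁ ≠ 0 ∧
    (∀ s t : K, s • v₀ + t • v₁ = 0 → s = 0 ∧ t = 0) ∧ ∀ s t : K, A *ᵥ v₁ ≠ s • v₀ + t • v₁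

/-- A factorisation with one quadratic factor. -/
theorem exists_factor_two (h4 : 4 ≤ Fintype.card K) {k : ℕ} {A : Matrix (Fin (k + 3)) (Fin (k + 3)) K}
    (hA : A.det ≠ 0) {a b : K} (hb : b ≠ 0) (hseed : Seed A a b) {f g : K[X]} (hf : f.Monic)
    (hfd : f.natDegree = k + 1) (hirr : Irreducible f) (hf0 : f.coeff 0 ≠ 0) (hg : g.Monic)
    (hgd : g.natDegree = k + 3)
    (hdet : (-1) ^ (k + 3) * g.coeff 0 * (b * ((-1) ^ (k + 1) * f.coeff 0)) = A.det) :
    ∃ R H, A = R * H ∧ R.charpoly = (X ^ 2 + C a * X + C b) * f ∧ H.charpoly = g ∧ Cyc H := by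
  obtain ⟨v₀, v₁, a₀, a₁, hv₀, hγ, hind, hv₁⟩ := hseed
  obtain ⟨i, hi⟩ := Function.ne_iff.1 (show v₀ ≠ 0 from fun h => one_ne_zero ((hind 1 0 (by simp [h])).1))
  obtain ⟨T₁, T₁', h1, h1', hTv, -, -⟩ := exists_frame v₀ ((v₀ i)⁻¹ • Pi.single i 1)
    (by simp [smul_dotProduct, inv_mul_cancel₀ hi])
  set w := T₁ *ᵥ v₁
  set w' : Fin (k + 2) → K := fun j => w j.succ
  have hw' : w' ≠ 0 := by
    intro h
    have hw : T₁ *ᵥ (w 0 • v₀ - v₁) = 0 := by
      rw [mulVec_sub, mulVec_smul, hTv]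
      funext l
      refine Fin.cases ?_ (fun l => ?_) l
      · simp [w]
      · have := congrFun h l
        simp [w', w, Fin.succ_ne_zero] at this ⊢
        exact this
    have h0 := congrArg (T₁' *ᵥ ·) hw
    simp only [mulVec_mulVec, h1', one_mulVec, mulVec_zero] at h0
    exact one_ne_zero (neg_eq_zero.1 (hind (w 0) (-1) (by rw [neg_one_smul, ← sub_eq_add_neg, h0])).2)
  obtain ⟨j, hj⟩ := Function.ne_iff.1 hw'
  obtain ⟨T₂, T₂', h2, h2', hTw, -, -⟩ := exists_frame w' ((w' j)⁻¹ • Pi.single j 1)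
    (by simp [smul_dotProduct, inv_mul_cancel₀ hj])
  set ρ := -(w 0) • ((w' j)⁻¹ • (Pi.single j 1 : Fin (k + 2) → K)) with hρ
  set T := blk 1 ρ 0 T₂ * T₁
  set T' := T₁' * blk 1 (-(ρ ᵥ* T₂')) 0 T₂'
  have hP : blk 1 ρ 0 T₂ * blk 1 (-(ρ ᵥ* T₂')) 0 T₂' = 1 := by
    conv_rhs => rw [one_eq_blk]
    simp [blk_mul, h2]
  have hP' : blk 1 (-(ρ ᵥ* T₂')) 0 T₂' * blk 1 ρ 0 T₂ = 1 := mul_eq_one_comm.1 hP
  have hT : T * T' = 1 := by
    rw [show T * T' = blk 1 ρ 0 T₂ * (T₁ * T₁') * blk 1 (-(ρ ᵥ* T₂')) 0 T₂' by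
      simp only [T, T', Matrix.mul_assoc], h1, Matrix.mul_one, hP]
  have hT' : T' * T = 1 := mul_eq_one_comm.1 hT
  have hTv₀ : T *ᵥ v₀ = e₀ := by
    rw [show T *ᵥ v₀ = blk 1 ρ 0 T₂ *ᵥ (T₁ *ᵥ v₀) by simp [T, mulVec_mulVec], hTv, blk_mulVec_e₀]
    funext l; refine Fin.cases ?_ (fun l => ?_) l <;> simp
  have hTv₁ : T *ᵥ v₁ = Fin.cons 0 e₀ := by
    rw [show T *ᵥ v₁ = blk 1 ρ 0 T₂ *ᵥ w by simp [T, w, mulVec_mulVec]]
    funext l
    refine Fin.cases ?_ (fun l => ?_) l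
    · have : ρ ⬝ᵥ w' = -(w 0) := by
        rw [hρ, smul_dotProduct, smul_dotProduct, single_dotProduct, one_mul, smul_eq_mul, smul_eq_mul,
          inv_mul_cancel₀ hj, mul_one]
      simp only [Matrix.mulVec, dotProduct] at this ⊢
      rw [Fin.sum_univ_succ]
      simp only [SourourProduct.blk_00, SourourProduct.blk_0s, one_mul, Fin.cons_zero]
      rw [show (∑ x : Fin (k + 2), ρ x * w x.succ) = -(w 0) from this]
      ring
    · have := congrFun hTw l
      simp [Matrix.mulVec, dotProduct, Fin.sum_univ_succ] at this ⊢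
      exact this
  clear_value T T'
  set A' := T * A * T' with hA'
  have hA'd : A'.det = A.det := by
    rw [hA', det_mul, det_mul, mul_comm T.det, mul_assoc, ← det_mul, hT, det_one, mul_one]
  have hback : ∀ v, T' *ᵥ (T *ᵥ v) = v := fun v => by rw [mulVec_mulVec, hT', one_mulVec]
  have hcol₀ : A' *ᵥ e₀ = Fin.cons a₀ (a₁ • e₀) := by
    rw [← hTv₀, hA', ← mulVec_mulVec, hback, ← mulVec_mulVec, hv₀, mulVec_add, mulVec_smul, mulVec_smul,
      hTv₀, hTv₁]
    funext l; refine Fin.cases ?_ (fun l => ?_) l <;> simp [Fin.succ_ne_zero]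
  set r₀ : Fin (k + 2) → K := fun l => A' 0 l.succ
  set A₁ := A'.submatrix Fin.succ Fin.succ with hA₁
  set a₁₁ := A₁ 0 0
  set r₁ : Fin (k + 1) → K := fun l => A₁ 0 l.succ
  set c₁ : Fin (k + 1) → K := fun l => A₁ l.succ 0
  set N := A₁.submatrix Fin.succ Fin.succ
  have hA₁e : A₁ = blk a₁₁ r₁ c₁ N := eq_blk A₁
  have hA'e : A' = blk a₀ r₀ (a₁ • e₀) A₁ := by
    conv_lhs => rw [eq_blk A']
    have h0 : ∀ l, A' l 0 = (Fin.cons a₀ (a₁ • e₀) : Fin (k + 3) → K) l := fun l => by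
      rw [← hcol₀, mulVec_single_one]; rfl
    exact blk_ext (by simpa using h0 0) (fun _ => rfl) (fun l => by simpa using h0 l.succ) fun _ _ => rfl
  have hc₁ : c₁ ≠ 0 := by
    intro h
    refine hv₁ (r₀ 0) a₁₁ ?_
    have h0 : A' *ᵥ (T *ᵥ v₁) = r₀ 0 • (T *ᵥ v₀) + a₁₁ • (T *ᵥ v₁) := by
      rw [hTv₁, hTv₀, hA'e]
      funext l
      refine Fin.cases ?_ (fun l => ?_) l
      · simp [Matrix.mulVec, dotProduct, Fin.sum_univ_succ, Fin.succ_ne_zero]
      · refine Fin.cases ?_ (fun l => ?_) l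
        · simp [Matrix.mulVec, dotProduct, Fin.sum_univ_succ, Fin.succ_ne_zero, a₁₁]
        · simp [Matrix.mulVec, dotProduct, Fin.sum_univ_succ, Fin.succ_ne_zero]
          exact congrFun h l
    have h3 := congrArg (T' *ᵥ ·) h0
    simp only [mulVec_add, mulVec_smul, hback] at h3
    rw [hA', ← mulVec_mulVec, hback, ← mulVec_mulVec, hback] at h3
    exact h3
  have hrank : ∀ z : Fin (k + 1) → K, z ᵥ* N = 0 → z ⬝ᵥ c₁ = 0 → z = 0 := by
    intro z hzN hzc
    have h0 := Matrix.eq_zero_of_vecMul_eq_zero (M := A') (by rw [hA'd]; exact hA)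
      (v := Fin.cons 0 (Fin.cons 0 z)) (by
        funext l
        rw [hA'e, hA₁e]
        refine Fin.cases ?_ (fun l => ?_) l
        · simp [Matrix.vecMul, dotProduct, Fin.sum_univ_succ, Fin.succ_ne_zero]
        · refine Fin.cases ?_ (fun l => ?_) l
          · simp [Matrix.vecMul, dotProduct, Fin.sum_univ_succ] at hzc ⊢
            exact hzc
          · have := congrFun hzN l
            simp [Matrix.vecMul, dotProduct, Fin.sum_univ_succ] at this ⊢
            exact this)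
    funext l
    simpa using congrFun h0 l.succ.succ
  obtain ⟨φ, hφ⟩ := exists_update_unit hrank
  obtain ⟨G, hG, hcyc'⟩ := exists_core h4 hφ hc₁ hf hfd hirr hf0
  have hcyc : CycAt (G⁻¹ * N) (G⁻¹ *ᵥ c₁) := by
    refine cycAt_of_rank_one_update (φ := φ) ?_
    rwa [← mul_vecMulVec, ← Matrix.mul_add]
  have hGd : G.det = (-1) ^ (k + 1) * f.coeff 0 := det_of_charpoly hG
  have hG0 : G.det ≠ 0 := by rw [hGd]; exact mul_ne_zero (pow_ne_zero _ (neg_ne_zero.2 one_ne_zero)) hf0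
  have uG : IsUnit G.det := isUnit_iff_ne_zero.2 hG0
  set y : K := -b⁻¹ with hy
  set τ : K := -a / b with hτ
  set γ := a₀ + τ * a₁ with hγdef
  have hγ0 : γ ≠ 0 := fun h => hγ (by
    rw [hγdef, hτ] at h; field_simp at h; linear_combination h)
  obtain ⟨ψ, hψ⟩ := exists_dot_eq hc₁
    (-g.coeff (k + 2) - y * a₁ - (G⁻¹ * N).trace - τ * a₁₁ - r₀ 0)
  set Q₁ := blk τ ψ 0 G⁻¹ with hQ₁
  set H₁ := vecMulVec e₀ r₀ + Q₁ * A₁ with hH₁
  have hH₁e : H₁ = blk (r₀ 0 + (τ * a₁₁ + ψ ⬝ᵥ c₁)) ((fun l => r₀ l.succ) + (τ • r₁ + ψ ᵥ* N))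
      (G⁻¹ *ᵥ c₁) (G⁻¹ * N) := by
    rw [hH₁, hQ₁, hA₁e, blk_mul]
    refine blk_ext ?_ ?_ ?_ ?_ <;> intros <;> simp [vecMulVec_apply, Fin.succ_ne_zero]
  have hcH : CycAt H₁ (γ • e₀) := by rw [hH₁e]; exact cycAt_smul_vec (cycAt_blk hcyc _ _) hγ0
  obtain ⟨L, b₀, hL⟩ := border_bij hcH
  set x := L.symm ((fun i : Fin (k + 3) => g.coeff i.val) - b₀)
  set η := fun j : Fin (k + 2) => x j.succ
  set H := blk (x 0) η (γ • e₀) H₁ with hH
  have hch : H.charpoly = g := by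
    refine eq_of_coeffs hg hgd ?_
    show LevCover.coeffs (border (γ • e₀) H₁ x) = _
    rw [hL, LinearEquiv.apply_symm_apply]
    abel
  have hx0 : x 0 = y * a₁ := by
    have t1 := trace_eq_neg_charpoly_coeff H
    rw [hch, Fintype.card_fin, hH, SourourProduct.blk_trace, hH₁e, SourourProduct.blk_trace, hψ,
      show k + 3 - 1 = k + 2 by omega] at t1
    linear_combination t1
  have uA : IsUnit A'.det := isUnit_iff_ne_zero.2 (by rw [hA'd]; exact hA)
  set v := (Fin.cons (x 0) η : Fin (k + 3) → K) ᵥ* A'⁻¹ with hv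
  have hvA : v ᵥ* A' = Fin.cons (x 0) η := by rw [hv, vecMul_vecMul, Matrix.nonsing_inv_mul A' uA, vecMul_one]
  set Q := blk (v 0) (fun l => v l.succ) e₀ Q₁ with hQ
  have hQA : Q * A' = H := by
    have hrow : ∀ l, (Q * A') 0 l = (v ᵥ* A') l := by
      intro l
      simp only [Matrix.mul_apply, Matrix.vecMul, dotProduct]
      refine Finset.sum_congr rfl fun i _ => ?_
      refine Fin.cases ?_ (fun i => ?_) i <;> simp [hQ]
    refine blk_ext ?_ ?_ ?_ ?_
    · rw [hrow, hvA]; simp [hH]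
    · intro l; rw [hrow, hvA]; simp [hH]
    · intro l
      rw [hQ, hA'e, blk_mul, hH, SourourProduct.blk_s0, SourourProduct.blk_s0, mulVec_smul, blk_mulVec_e₀]
      refine Fin.cases ?_ (fun l => ?_) l
      · simp [γ]; ring
      · simp [Fin.succ_ne_zero]
    · intro l l'
      rw [hQ, hA'e, blk_mul, hH, SourourProduct.blk_ss, SourourProduct.blk_ss, hH₁]
  have hv01 : v 0 = 0 ∧ v (Fin.succ 0) = y := by
    have e1 : x 0 = v 0 * a₀ + v (Fin.succ 0) * a₁ := by
      have := congrFun hvA 0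
      rw [hA'e] at this
      simp [Matrix.vecMul, dotProduct, Fin.sum_univ_succ, Fin.succ_ne_zero] at this
      rw [← this]
    have e2 : v 0 * τ - v (Fin.succ 0) = b⁻¹ := by
      have h3 := congrArg det hQA
      rw [det_mul, hA'd, det_of_charpoly hch, hQ, hQ₁, ← one_smul K (e₀ : Fin (k + 2) → K), det_blk_two,
        one_mul, det_nonsing_inv, Ring.inverse_eq_inv', hGd, ← hdet] at h3
      have hg0 : (-1) ^ (k + 3) * g.coeff 0 ≠ 0 := fun h => hA (by rw [← hdet, h, zero_mul])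
      have hf1 : (-1 : K) ^ (k + 1) * f.coeff 0 ≠ 0 := by rw [← hGd]; exact hG0
      generalize (-1 : K) ^ (k + 3) * g.coeff 0 = P at h3 hg0
      generalize (-1 : K) ^ (k + 1) * f.coeff 0 = F at h3 hf1
      refine eq_inv_of_mul_eq_one_left (mul_right_cancel₀ hg0 ?_)
      rw [one_mul]
      refine Eq.trans ?_ h3
      field_simp
    have h0 : v 0 * γ = 0 := by
      rw [hx0, hy] at e1
      rw [hγdef]
      linear_combination a₁ * e2 - e1
    have := (mul_eq_zero.1 h0).resolve_right hγ0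
    exact ⟨this, by rw [hy]; rw [this] at e2; linear_combination -e2⟩
  set ψ₀ : Fin (k + 1) → K := fun l => v l.succ.succ
  set R := blk (-a) (Fin.cons 1 ((a • ψ₀ - ψ) ᵥ* G)) ((-b) • e₀) (blk 0 ((b • ψ₀) ᵥ* G) 0 G) with hR
  have hRQ : R * Q = 1 := by
    have hr : (fun l => v l.succ) = (Fin.cons y ψ₀ : Fin (k + 2) → K) := by
      funext l; refine Fin.cases ?_ (fun l => ?_) l <;> simp [hv01.2, ψ₀]
    rw [hR, hQ, hv01.1, hr, hQ₁, blk_mul]
    conv_rhs => rw [one_eq_blk]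
    refine blk_ext ?_ ?_ ?_ ?_
    · simp [Fin.succ_ne_zero, dotProduct, Fin.sum_univ_succ]
    · intro l
      refine Fin.cases ?_ (fun l => ?_) l
      · simp [Matrix.vecMul, dotProduct, Fin.sum_univ_succ, hy, hτ]
        ring
      · have e : (fun i => ((a • ψ₀ - ψ) ᵥ* G) i) ᵥ* G⁻¹ = a • ψ₀ - ψ := by
          rw [vecMul_vecMul, Matrix.mul_nonsing_inv G uG, vecMul_one]
        have := congrFun e l
        simp [Matrix.vecMul, dotProduct, Fin.sum_univ_succ] at this ⊢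
        rw [this]; ring
    · intro l
      refine Fin.cases ?_ (fun l => ?_) l <;> simp [Fin.succ_ne_zero, Matrix.mulVec, dotProduct, Fin.sum_univ_succ]
    · intro l l'
      rw [SourourProduct.blk_ss, SourourProduct.blk_ss, blk_mul]
      refine congrFun (congrFun ?_ l) l'
      conv_rhs => rw [one_eq_blk]
      refine blk_ext ?_ ?_ ?_ ?_ <;> intros <;>
        simp [vecMulVec_apply, Fin.succ_ne_zero, hy, hb, Matrix.mul_nonsing_inv G uG, vecMul_vecMul]
  refine ⟨T' * R * T, T' * H * T, ?_, ?_, ?_, cyc_of_conj (cycAt_blk hcH _ _) hT hT'⟩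
  · rw [show T' * R * T * (T' * H * T) = T' * (R * (T * T') * H) * T by simp only [Matrix.mul_assoc],
      hT, Matrix.mul_one, ← hQA, ← Matrix.mul_assoc R, hRQ, Matrix.one_mul, hA',
      show T' * (T * A * T') * T = (T' * T) * A * (T' * T) by simp only [Matrix.mul_assoc], hT',
      Matrix.one_mul, Matrix.mul_one]
  · rw [charpoly_conj hT, hR, charpoly_blk_two, hG, Fin.cons_zero, mul_one]
    simp only [map_neg, map_zero]
    ring
  · rw [charpoly_conj hT, hch]

theorem exists_seed {k : ℕ} {A : Matrix (Fin (k + 3)) (Fin (k + 3)) K} (hA : A.det ≠ 0)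
    (hns : ∀ t : K, A ≠ t • 1) {a b : K} (ha : a ≠ 0) (hb : b ≠ 0)
    (h : (∃ (lam : K) (u : Fin (k + 3) → K), u ≠ 0 ∧ A *ᵥ u = lam • u) ∨ ∃ x, Indep3 A x) : Seed A a b := by
  rcases h with ⟨lam, u, hu, hAu⟩ | ⟨x, hx⟩
  swap
  · refine ⟨x, A *ᵥ x, 0, 1, by simp, by simpa using ha, fun s t h => ?_, fun s t h => ?_⟩
    · obtain ⟨h1, h2, -⟩ := hx s t 0 (by simpa using h)
      exact ⟨h1, h2⟩
    · exact neg_ne_zero.2 one_ne_zero (hx s t (-1) (by rw [h]; module)).2.2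
  have hlam : lam ≠ 0 := fun h0 => hu (Matrix.eq_zero_of_mulVec_eq_zero hA (by rw [hAu, h0, zero_smul]))
  suffices H : ∃ (lam : K) (u e : Fin (k + 3) → K), lam ≠ 0 ∧ A *ᵥ u = lam • u ∧
      (∀ s t : K, s • u + t • e = 0 → s = 0 ∧ t = 0) ∧ ∀ s t : K, A *ᵥ e ≠ s • u + t • e by
    obtain ⟨lam, u, e, hl, hAu, hind, he⟩ := H
    exact ⟨u, e, lam, 0, by simp [hAu], by simp [hb, hl], hind, he⟩
  by_contra hall
  push Not at hall
  have hind : ∀ e : Fin (k + 3) → K, (∀ r : K, e ≠ r • u) → ∀ s t : K, s • u + t • e = 0 → s = 0 ∧ t = 0 := by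
    intro e he s t h0
    rcases eq_or_ne t 0 with ht | ht
    · rw [ht, zero_smul, add_zero, smul_eq_zero] at h0
      exact ⟨h0.resolve_right hu, ht⟩
    · refine absurd ?_ (he (-(t⁻¹ * s)))
      rw [← inv_smul_smul₀ ht e, eq_neg_of_add_eq_zero_right h0]
      module
  obtain ⟨f, hf⟩ := exists_dot_eq hu 1
  -- every vector is an eigenvector modulo `u`
  have hmod : ∀ e, ∃ s t : K, A *ᵥ e = s • u + t • e := by
    intro e
    by_cases he : ∃ r : K, e = r • u
    · obtain ⟨r, rfl⟩ := he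
      exact ⟨r * lam, 0, by rw [mulVec_smul, hAu]; module⟩
    · push Not at he
      obtain ⟨s, t, hst⟩ := hall lam u e hlam hAu (hind e he)
      exact ⟨s, t, hst⟩
  set P : Matrix (Fin (k + 3)) (Fin (k + 3)) K := 1 - vecMulVec u f with hP
  have hPu : P *ᵥ u = 0 := by
    rw [hP, sub_mulVec, one_mulVec, vecMulVec_mulVec, hf]; simp
  have hPe : ∀ e : Fin (k + 3) → K, f ⬝ᵥ e = 0 → P *ᵥ e = e := fun e he => by
    rw [hP, sub_mulVec, one_mulVec, vecMulVec_mulVec, he]; simp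
  obtain ⟨x₀, hx₀f, -, hx₀⟩ := exists_orth_two f f
  rw [dotProduct_comm] at hx₀f
  obtain ⟨s₀, ν, hν⟩ := hmod x₀
  have hν' : P *ᵥ (A *ᵥ x₀) = ν • x₀ := by
    rw [hν, mulVec_add, mulVec_smul, mulVec_smul, hPu, hPe x₀ hx₀f, smul_zero, zero_add]
  have hall' : ∀ e, f ⬝ᵥ e = 0 → P *ᵥ (A *ᵥ e) = ν • e := by
    intro e he
    obtain ⟨s, t, ht⟩ := hmod e
    obtain ⟨s', t', ht'⟩ := hmod (x₀ + e)
    have he' : P *ᵥ (A *ᵥ e) = t • e := by
      rw [ht, mulVec_add, mulVec_smul, mulVec_smul, hPu, hPe e he, smul_zero, zero_add]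
    have hse : P *ᵥ (A *ᵥ (x₀ + e)) = t' • (x₀ + e) := by
      rw [ht', mulVec_add, mulVec_smul, mulVec_smul, hPu, hPe _ (by rw [dotProduct_add, hx₀f, he, add_zero]),
        smul_zero, zero_add]
    rw [mulVec_add, mulVec_add, hν', he', smul_add] at hse
    have h2 : (t - t') • e = (t' - ν) • x₀ := by linear_combination (norm := module) hse
    rcases eq_or_ne t t' with h | h
    · rw [h, sub_self, zero_smul] at h2
      rw [he', h, sub_eq_zero.1 ((smul_eq_zero.1 h2.symm).resolve_right hx₀)]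
    · rw [← inv_smul_smul₀ (sub_ne_zero.2 h) e, h2, smul_smul, mulVec_smul, mulVec_smul, hν', smul_comm]
  set φ : Fin (k + 3) → K := fun i => f ⬝ᵥ (A *ᵥ Pi.single i 1) - ν * f i with hφdef
  have hAe : ∀ e, A *ᵥ e = ν • e + (φ ⬝ᵥ e) • u := by
    intro e
    have h1 := hall' (e - (f ⬝ᵥ e) • u) (by rw [dotProduct_sub, dotProduct_smul, hf, smul_eq_mul, mul_one, sub_self])
    rw [mulVec_sub, mulVec_smul, hAu, mulVec_sub, mulVec_smul, mulVec_smul, hPu, smul_zero, smul_zero,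
      sub_zero, hP, sub_mulVec, one_mulVec, vecMulVec_mulVec] at h1
    have hφe : φ ⬝ᵥ e = f ⬝ᵥ (A *ᵥ e) - ν * (f ⬝ᵥ e) := by
      rw [dotProduct_mulVec]
      have : φ = f ᵥ* A - ν • f := by
        funext i; simp [hφdef, dotProduct_mulVec, Matrix.vecMul, dotProduct]
      rw [this, sub_dotProduct, smul_dotProduct, smul_eq_mul]
    rw [hφe]
    simp only [op_smul_eq_smul] at h1
    linear_combination (norm := module) h1
  have hφ : φ ≠ 0 := fun h0 => hns ν (Matrix.ext_iff_mulVec.2 fun e => by rw [hAe, h0, zero_dotProduct, smul_mulVec, one_mulVec, zero_smul, add_zero])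
  obtain ⟨u', hu'φ, hu'f, hu'⟩ := exists_orth_two φ f
  obtain ⟨g, hgu, hgu', hg⟩ := exists_orth_two u u'
  obtain ⟨e₁, he₁⟩ := exists_dot_eq hφ 1
  obtain ⟨e₂, he₂⟩ := exists_dot_eq hg 1
  rw [dotProduct_comm] at he₁ he₂ hu'φ hu'f
  obtain ⟨e, heφ, heg⟩ : ∃ e, φ ⬝ᵥ e ≠ 0 ∧ ∀ s t : K, e ≠ s • u + t • u' := by
    by_cases h1 : ∀ s t : K, e₁ ≠ s • u + t • u'
    · exact ⟨e₁, by rw [he₁]; exact one_ne_zero, h1⟩
    push Not at h1
    obtain ⟨s, t, h1⟩ := h1
    have hge : g ⬝ᵥ e₁ = 0 := by rw [h1, dotProduct_add, dotProduct_smul, dotProduct_smul, hgu, hgu']; simp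
    by_cases h2 : φ ⬝ᵥ e₂ = 0
    · refine ⟨e₁ + e₂, by rw [dotProduct_add, he₁, h2, add_zero]; exact one_ne_zero, fun s t h => ?_⟩
      have := congrArg (g ⬝ᵥ ·) h
      simp [dotProduct_add, dotProduct_smul, hgu, hgu', hge, he₂] at this
    · refine ⟨e₂, h2, fun s t h => ?_⟩
      have := congrArg (g ⬝ᵥ ·) h
      simp [dotProduct_add, dotProduct_smul, hgu, hgu', he₂] at this
  have hν0 : ν ≠ 0 := by
    intro h0
    exact hu' (Matrix.eq_zero_of_mulVec_eq_zero hA (by rw [hAe, h0, hu'φ]; simp))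
  obtain ⟨s, t, hst⟩ := hall ν u' e hν0 (by rw [hAe, hu'φ, zero_smul, add_zero]) (fun s t h0 => by
    rcases eq_or_ne t 0 with ht | ht
    · rw [ht, zero_smul, add_zero, smul_eq_zero] at h0
      exact ⟨h0.resolve_right hu', ht⟩
    · refine absurd ?_ (heg 0 (-(t⁻¹ * s)))
      rw [← inv_smul_smul₀ ht e, eq_neg_of_add_eq_zero_right h0]
      module)
  rw [hAe] at hst
  rcases eq_or_ne t ν with htν | htν
  · rw [htν] at hst
    have h2 : (φ ⬝ᵥ e) • u = s • u' := by linear_combination (norm := module) hst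
    have := congrArg (f ⬝ᵥ ·) h2
    simp [dotProduct_smul, hf, hu'f, heφ] at this
  · refine heg ((t - ν)⁻¹ * (φ ⬝ᵥ e)) (-((t - ν)⁻¹ * s)) ?_
    have h2 : (t - ν) • e = (φ ⬝ᵥ e) • u - s • u' := by linear_combination (norm := module) -hst
    generalize φ ⬝ᵥ e = c at h2 ⊢
    rw [← inv_smul_smul₀ (sub_ne_zero.2 htν) e, h2]
    module

end CfsgLib.OreSU
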