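import Cfsg.Agent.OreSU.Prep

/-!
# Non-trivial radical data and a trivial middle scalar
-/

set_option autoImplicit false
set_option linter.unusedSectionVars false
set_option linter.unusedSimpArgs false

namespace CfsgLib.OreSU

open Matrix

variable {F : Type*} [Field F] [StarRing F] {ι κ : Type*} [Fintype ι] [DecidableEq ι] [Fintype κ]
  [DecidableEq κ] [Subsingleton κ]

theorem StarData.nonreal (SD : StarData F) : ∃ r : F, star r ≠ r := by
  obtain ⟨δ, hδ, hδ0⟩ := SD.skew
  obtain ⟨θ, hθ⟩ := SD.trace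
  by_contra h
  push Not at h
  have h1 : δ + δ = 0 := by linear_combination (h δ).symm.trans hδ
  have h2 : (2 : F) = 0 := by
    have : (2 : F) * δ = 0 := by linear_combination h1
    exact (mul_eq_zero.1 this).resolve_right hδ0
  rw [h θ] at hθ
  exact one_ne_zero (hθ.symm.trans (by linear_combination θ * h2))

theorem exists_scalar_of_eigen {A : Matrix ι ι F} (h : ∀ r : ι → F, ∃ t : F, r ᵥ* A = t • r) :
    ∃ ν : F, A = ν • 1 := by
  rcases isEmpty_or_nonempty ι with hi | ⟨⟨i₀⟩⟩
  · exact ⟨1, Matrix.ext fun x => hi.elim x⟩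
  choose f hf using h
  have hdiag : ∀ i j, i ≠ j → A i j = 0 := fun i j hij => by
    have := congrFun (hf (Pi.single i 1)) j
    simpa [Pi.single_apply, hij.symm] using this
  refine ⟨A i₀ i₀, Matrix.ext fun i j => ?_⟩
  rcases eq_or_ne i j with rfl | hij
  · rcases eq_or_ne i i₀ with rfl | hi
    · simp
    · have h0 := congrFun (hf (Pi.single i 1 + Pi.single i₀ 1)) i
      have h1 := congrFun (hf (Pi.single i 1 + Pi.single i₀ 1)) i₀
      simp [add_vecMul, Pi.single_apply, hi, Ne.symm hi, hdiag i i₀ hi, hdiag i₀ i (Ne.symm hi)] at h0 h1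
      simp [h0, h1]
  · simp [hdiag i j hij, hij]

theorem exists_sq_self_ne (SD : StarData F) {Y : Matrix ι ι F} (h0 : Y ≠ 0) :
    ∃ u, sq Y u u ≠ 0 := by
  by_contra h
  push Not at h
  obtain ⟨r, hr⟩ := SD.nonreal
  refine h0 (Matrix.ext_iff_mulVec.2 fun v => ?_)
  rw [zero_mulVec]
  by_contra hv
  obtain ⟨u, hu⟩ := exists_sq_ne hv
  have e1 : sq Y u v + sq Y v u = 0 := by
    have := h (u + v)
    rw [sq_add_left, sq_add_right, sq_add_right, h u, h v] at this
    linear_combination this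
  have e2 : star r * sq Y u v * 0 + r * sq Y u v + star r * sq Y v u = 0 := by
    have := h (u + r • v)
    rw [sq_add_left, sq_add_right, sq_add_right, sq_smul_left, sq_smul_left, sq_smul_right, sq_smul_right,
      h u, h v] at this
    linear_combination this
  refine hu ((mul_eq_zero.1 (?_ : (r - star r) * sq Y u v = 0)).resolve_left (sub_ne_zero.2 (Ne.symm hr)))
  linear_combination e2 - star r * e1

theorem rad_zero {v : Matrix κ ι F} {X : Matrix ι ι F} (h : Rad v X) (hX : X = 0) : v = 0 := by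
  have h0 : vᴴ * v = 0 := by
    have : X + Xᴴ + vᴴ * v = 0 := h
    simpa [hX] using this
  refine vec_eq_zero (funext fun x => ?_)
  have := congrFun (congrFun h0 x) x
  rw [gram_eq, vecMulVec_apply, Pi.star_apply, Matrix.zero_apply, mul_eq_zero, star_eq_zero] at this
  exact this.elim id id

theorem exists_form (g : gu F ι κ) (hM : IsUnit (m11 g)) :
    ∃ (v w : Matrix κ ι F) (X Y : Matrix ι ι F) (hX : Rad v X) (hY : Rad w Y) (A : (Matrix ι ι F)ˣ)
      (μ : F) (hμ : μ * star μ = 1), g = lo v X hX * dg A μ hμ * up w Y hY ∧ (A : Matrix ι ι F) = m11 g := by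
  obtain ⟨v, w, X, Y, hX, hY, μ, hμ, hg⟩ := exists_ldu g hM
  exact ⟨v, w, X, Y, hX, hY, _, μ, hμ, hg, IsUnit.unit_spec hM⟩

theorem rad00 : Rad (0 : Matrix κ ι F) 0 := by
  show (0 : Matrix ι ι F) + (0 : Matrix ι ι F)ᴴ + (0 : Matrix κ ι F)ᴴ * 0 = 0
  simp

theorem scal_of_levi {A : (Matrix ι ι F)ˣ} {μ : F} (hμ : μ * star μ = 1) {ν : F}
    (hA : (A : Matrix ι ι F) = ν • 1) (hν : ν * star ν = 1) (hm : (μ • 1 : Matrix κ κ F) = ν • 1) :
    IsScal (lo (0 : Matrix κ ι F) 0 rad00 * dg A μ hμ * up 0 0 rad00) := by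
  refine ⟨ν, ?_⟩
  have hi : (↑A⁻¹ : Matrix ι ι F)ᴴ = ν • 1 := by
    have h1 : (↑A⁻¹ : Matrix ι ι F) = star ν • 1 := by
      refine left_inv_eq_right_inv A.inv_mul ?_
      rw [hA, Matrix.smul_mul, Matrix.one_mul, smul_smul, hν, one_smul]
    rw [h1, conjTranspose_smul, conjTranspose_one, star_star]
  rw [blocks_ldu, hi, hA, hm, b3_one]
  ext (r | r | r) (s | s | s) <;> simp [b3]

/-- Some equivalent element has non-zero upper radical data, with the same block up to adjoint. -/
theorem exists_data (SD : StarData F) (g : gu F ι κ) (hg : ¬ IsScal g) (hM : IsUnit (m11 g)) :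
    ∃ (v w : Matrix κ ι F) (X Y : Matrix ι ι F) (hX : Rad v X) (hY : Rad w Y) (A : (Matrix ι ι F)ˣ)
      (μ : F) (hμ : μ * star μ = 1), Equiv' g (lo v X hX * dg A μ hμ * up w Y hY) ∧ Y ≠ 0 ∧
        ((A : Matrix ι ι F) = m11 g ∨ (A : Matrix ι ι F) = (m11 g)ᴴ) := by
  obtain ⟨v, w, X, Y, hX, hY, A, μ, hμ, hg', hA⟩ := exists_form g hM
  by_cases hY0 : Y = 0; swap
  · exact ⟨v, w, X, Y, hX, hY, A, μ, hμ, hg' ▸ Equiv'.refl g, hY0, Or.inl hA⟩
  by_cases hX0 : X = 0; swap
  · obtain ⟨B, hμ', hB, hfl⟩ := flip_ldu hX hY A hμ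
    refine ⟨-w, -v, Yᴴ, Xᴴ, hY.inv, hX.inv, B, star μ, hμ', ?_, fun h => hX0 (by simpa using h),
      Or.inr (by rw [hB, hA])⟩
    rw [← hfl, ← hg']
    exact (Equiv'.refl g).flip
  have hv := rad_zero hX hX0
  have hw := rad_zero hY hY0
  subst hX0 hY0 hv hw
  have hm : mat g = b3 (A : Matrix ι ι F) 0 0 0 (μ • 1) 0 0 0 (↑A⁻¹ : Matrix ι ι F)ᴴ := by
    rw [hg', blocks_ldu]
    simp
  -- find a conjugate with non-zero lower data
  suffices h : ∃ (t : Matrix κ ι F) (S : Matrix ι ι F) (ht : Rad t S),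
      m31 ((lo t S ht)⁻¹ * g * lo t S ht) ≠ 0 ∨ m21 ((lo t S ht)⁻¹ * g * lo t S ht) ≠ 0 by
    obtain ⟨t, S, ht, hne⟩ := h
    set g₁ := (lo t S ht)⁻¹ * g * lo t S ht with hg₁
    have h11 : m11 g₁ = (A : Matrix ι ι F) := by
      rw [hg₁, (conj_lo_blocks g t S ht hm).1]
      simp
    obtain ⟨v', w', X', Y', hX', hY', A', μ', hμ', hg'', hA'⟩ := exists_form g₁ (h11 ▸ A.isUnit)
    have hX'0 : X' ≠ 0 := by
      intro h0
      have hv' := rad_zero hX' h0
      subst h0 hv'
      have := blocks_of_eq (blocks_ldu hX' hY' A' hμ')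
      rw [← hg''] at this
      rcases hne with h | h
      · exact h (by rw [this.2.2.2.2, Matrix.zero_mul])
      · exact h (by rw [this.2.2.2.1, Matrix.zero_mul])
    obtain ⟨B, hμ'', hB, hfl⟩ := flip_ldu hX' hY' A' hμ'
    refine ⟨-w', -v', Y'ᴴ, X'ᴴ, hY'.inv, hX'.inv, B, star μ', hμ'', ?_, fun h => hX'0 (by simpa using h),
      Or.inr (by rw [hB, hA', h11, hA])⟩
    rw [← hfl, ← hg'']
    exact ((Equiv'.refl g).conj' _).flip
  by_contra hcon
  push Not at hcon
  apply hg
  obtain ⟨δ, hδ, hδ0⟩ := SD.skew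
  have hS : ∀ S : Matrix ι ι F, Sᴴ = -S → (↑A⁻¹ : Matrix ι ι F)ᴴ * S = S * (A : Matrix ι ι F) := by
    intro S hs
    have ht : Rad (0 : Matrix κ ι F) S := by
      show S + Sᴴ + (0 : Matrix κ ι F)ᴴ * 0 = 0
      simp [hs]
    have h1 := (hcon 0 S ht).1
    rw [(conj_lo_blocks g 0 S ht hm).2.2, hs] at h1
    simp at h1
    rw [neg_add_eq_zero] at h1
    rw [Matrix.coe_units_inv]
    exact h1.symm
  rcases isEmpty_or_nonempty κ with hk | ⟨⟨j⟩⟩
  · obtain ⟨ν, hν⟩ : ∃ ν : F, (A : Matrix ι ι F) = ν • 1 := by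
      rcases isEmpty_or_nonempty ι with hi | ⟨⟨i₀⟩⟩
      · exact ⟨1, Matrix.ext fun x => hi.elim x⟩
      have hI : (↑A⁻¹ : Matrix ι ι F)ᴴ = (A : Matrix ι ι F) := by
        have := hS (δ • 1) (by simp [conjTranspose_smul, hδ])
        simpa [smul_smul, hδ0] using congrArg (δ⁻¹ • ·) this
      have hc : ∀ u : ι → F, (A : Matrix ι ι F) * vecMulVec u (star u) = vecMulVec u (star u) * (A : Matrix ι ι F) :=
        fun u => by
        have := hS (δ • vecMulVec u (star u)) (by
          rw [conjTranspose_smul, conjTranspose_vecMulVec, star_star, hδ, neg_smul])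
        rw [hI, Matrix.mul_smul, Matrix.smul_mul] at this
        exact smul_right_injective _ hδ0 this
      have hoff : ∀ x y, x ≠ y → (A : Matrix ι ι F) x y = 0 := fun x y hxy => by
        have h1 := congrFun (congrFun (hc (Pi.single y 1)) x) y
        simp [Matrix.mul_apply, vecMulVec_apply, Pi.single_apply, hxy, apply_ite star] at h1
        exact h1
      refine ⟨(A : Matrix ι ι F) i₀ i₀, Matrix.ext fun x y => ?_⟩
      rcases eq_or_ne x y with rfl | hxy
      · rcases eq_or_ne x i₀ with rfl | hx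
        · simp
        · have h1 := congrFun (congrFun (hc (Pi.single x 1 + Pi.single i₀ 1)) x) i₀
          simp [Matrix.mul_apply, vecMulVec_apply, Pi.single_apply, apply_ite star, add_mul, mul_add,
            Finset.sum_add_distrib, hx, hx.symm, hoff x i₀ hx, hoff i₀ x hx.symm] at h1
          simp [h1]
      · simp [hoff x y hxy, hxy]
    rcases isEmpty_or_nonempty ι with hi | ⟨⟨i₀⟩⟩
    · exact ⟨1, Matrix.ext fun x => x.elim (fun a => hi.elim a) (fun a => a.elim (fun b => hk.elim b) fun b => hi.elim b)⟩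
    have hν1 : ν * star ν = 1 := by
      have := hS (δ • 1) (by simp [conjTranspose_smul, hδ])
      have h2 := congrArg (fun Z => (A : Matrix ι ι F)ᴴ * Z) this
      simp only [Matrix.mul_smul, Matrix.smul_mul, Matrix.mul_one, Matrix.one_mul,
        ← conjTranspose_mul, Units.inv_mul, conjTranspose_one] at h2
      rw [hν, conjTranspose_smul, conjTranspose_one] at h2
      have h3 := congrFun (congrFun h2 i₀) i₀
      simp at h3
      exact mul_left_cancel₀ hδ0 (by rw [mul_one]; exact h3.symm)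
    exact hg' ▸ scal_of_levi hμ hν hν1 (Matrix.ext fun x => hk.elim x)
  · have ht : ∀ r : ι → F, r ᵥ* (A : Matrix ι ι F) = μ • r := fun r => by
      obtain ⟨θ, hθ⟩ := SD.trace
      set t : Matrix κ ι F := Matrix.of fun _ => r
      have hrad : Rad t ((-θ) • (tᴴ * t)) := by
        show (-θ) • (tᴴ * t) + ((-θ) • (tᴴ * t))ᴴ + tᴴ * t = 0
        rw [conjTranspose_smul, conjTranspose_mul, conjTranspose_conjTranspose, star_neg]
        match_scalars
        linear_combination -hθ
      have h1 := (hcon t _ hrad).2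
      rw [(conj_lo_blocks g t _ hrad hm).2.1] at h1
      simp at h1
      rw [neg_add_eq_zero] at h1
      funext x
      have := congrFun (congrFun h1 j) x
      simp [t, Matrix.mul_apply] at this
      simp [Matrix.vecMul, dotProduct, this]
    have hA : (A : Matrix ι ι F) = μ • 1 := by
      ext x y
      have := congrFun (ht (Pi.single x 1)) y
      simpa [Matrix.one_apply, Pi.single_apply, eq_comm] using this
    exact hg' ▸ scal_of_levi hμ hA hμ rfl

section Coset

/-- The scalar equation behind the adjustment of the determinant. -/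
theorem exists_coset (SD : StarData F) {z b : F} (hz : z ≠ 0) (hb : b + star b = -1) :
    ∃ x s : F, s + star s = -1 ∧ 1 + x + s * b * (x * star x) ≠ 0 ∧
      star (z * (1 + x + s * b * (x * star x))) = z * (1 + x + s * b * (x * star x)) := by
  have hb0 : b ≠ 0 := fun h => by
    rw [h, star_zero, add_zero] at hb
    exact one_ne_zero (neg_eq_zero.1 hb.symm)
  have hbs : star b ≠ 0 := star_ne_zero.2 hb0
  by_cases ht : z * b + star (z * b) = 0
  · obtain ⟨δ, hδ, hδ0⟩ := SD.skew
    refine ⟨1 / star b, b + δ, by rw [star_add, hδ]; linear_combination hb, ?_, ?_⟩ <;>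
      rw [show 1 + 1 / star b + (b + δ) * b * (1 / star b * star (1 / star b)) = δ / star b by
        rw [star_div₀, star_one, star_star]
        field_simp
        linear_combination hb]
    · exact div_ne_zero hδ0 hbs
    · rw [star_mul', star_div₀, hδ, star_star]
      rw [star_mul'] at ht
      field_simp
      linear_combination -ht
  · set w := 1 / (z * b) with hw
    have hzb : z * b ≠ 0 := mul_ne_zero hz hb0
    have hsum : w + star w ≠ 0 := by
      intro h
      rw [hw, star_div₀, star_one] at h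
      have := star_ne_zero.2 hzb
      field_simp at h
      exact ht (by linear_combination h)
    set r := -1 / (w + star w) with hr
    have hr' : star r = r := by
      rw [hr, star_div₀, star_neg, star_one, star_add, star_star, add_comm]
    refine ⟨-1, r * w, ?_, ?_, ?_⟩
    · rw [star_mul', hr', ← mul_add, hr, div_mul_cancel₀ _ hsum]
    all_goals rw [show 1 + -1 + r * w * b * (-1 * star (-1 : F)) = r / z by
      rw [hw, star_neg, star_one]
      field_simp
      ring]
    · exact div_ne_zero (div_ne_zero (neg_ne_zero.2 one_ne_zero) hsum) hz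
    · rw [mul_div_cancel₀ _ hz, hr']

theorem m21_conj_lo_dg {X Y : Matrix ι ι F} (hX : Rad (0 : Matrix κ ι F) X) (hY : Rad (0 : Matrix κ ι F) Y)
    (A : (Matrix ι ι F)ˣ) {μ : F} (hμ : μ * star μ = 1) (t : Matrix κ ι F) (S : Matrix ι ι F)
    (h : Rad t S) :
    m21 ((lo t S h)⁻¹ * (lo 0 X hX * dg A μ hμ * up 0 Y hY) * lo t S h) =
      μ • t - t * (A : Matrix ι ι F) * (1 + Y * S) := by
  rw [(conj_lo_blocks _ t S h (blocks_ldu hX hY A hμ)).2.1]
  simp [Matrix.mul_add, Matrix.mul_assoc]
  abel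

/-- Some equivalent element has non-zero middle upper data. -/
theorem exists_middle_data [Nonempty κ] [Nonempty ι] (SD : StarData F)
    (h3 : Nontrivial ι ∨ ∃ r : F, star r = r ∧ r ≠ 0 ∧ r ≠ 1) (g : gu F ι κ) (hg : ¬ IsScal g)
    (hM : IsUnit (m11 g)) :
    ∃ (v w : Matrix κ ι F) (X Y : Matrix ι ι F) (hX : Rad v X) (hY : Rad w Y) (A : (Matrix ι ι F)ˣ)
      (μ : F) (hμ : μ * star μ = 1), Equiv' g (lo v X hX * dg A μ hμ * up w Y hY) ∧ w ≠ 0 := by
  obtain ⟨j⟩ := ‹Nonempty κ›
  obtain ⟨θ, hθ⟩ := SD.trace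
  obtain ⟨δ, hδ, hδ0⟩ := SD.skew
  obtain ⟨v, w, X, Y, hX, hY, A, μ, hμ, hg', -⟩ := exists_form g hM
  by_cases hw : w = 0; swap
  · exact ⟨v, w, X, Y, hX, hY, A, μ, hμ, hg' ▸ Equiv'.refl g, hw⟩
  by_cases hv : v = 0; swap
  · obtain ⟨B, hμ', -, hfl⟩ := flip_ldu hX hY A hμ
    exact ⟨-w, -v, Yᴴ, Xᴴ, hY.inv, hX.inv, B, star μ, hμ', hfl ▸ hg' ▸ (Equiv'.refl g).flip,
      neg_ne_zero.2 hv⟩
  subst hv hw
  -- a row `r` and `c` of trace `-1`
  suffices key : ∀ (X Y : Matrix ι ι F) (hX : Rad (0 : Matrix κ ι F) X) (hY : Rad (0 : Matrix κ ι F) Y)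
      (A : (Matrix ι ι F)ˣ) (μ : F) (hμ : μ * star μ = 1),
      Equiv' g (lo 0 X hX * dg A μ hμ * up 0 Y hY) →
      (∃ (r : ι → F) (c : F), c + star c = -1 ∧ 1 + c * sq Y (star r) (star r) ≠ 0 ∧
        μ • r - r ᵥ* (A : Matrix ι ι F) - (c * sq ((A : Matrix ι ι F) * Y) (star r) (star r)) • r ≠ 0) →
      ∃ (v w : Matrix κ ι F) (X Y : Matrix ι ι F) (hX : Rad v X) (hY : Rad w Y) (A : (Matrix ι ι F)ˣ)
        (μ : F) (hμ : μ * star μ = 1), Equiv' g (lo v X hX * dg A μ hμ * up w Y hY) ∧ w ≠ 0 by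
    have hskew : ∀ {Z : Matrix ι ι F}, Rad (0 : Matrix κ ι F) Z → Zᴴ = -Z := fun {Z} hZ =>
      rad_skew (by simpa [Rad] using hZ)
    by_cases hscal : ∃ ν : F, (A : Matrix ι ι F) = ν • 1
    · -- scalar block
      have main : ∀ (X Y : Matrix ι ι F) (hX : Rad (0 : Matrix κ ι F) X) (hY : Rad (0 : Matrix κ ι F) Y)
          (A : (Matrix ι ι F)ˣ) (μ ν : F) (hμ : μ * star μ = 1),
          Equiv' g (lo 0 X hX * dg A μ hμ * up 0 Y hY) → (A : Matrix ι ι F) = ν • 1 → (ν = μ → Y ≠ 0) →
          ∃ (r : ι → F) (c : F), c + star c = -1 ∧ 1 + c * sq Y (star r) (star r) ≠ 0 ∧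
            μ • r - r ᵥ* (A : Matrix ι ι F) - (c * sq ((A : Matrix ι ι F) * Y) (star r) (star r)) • r ≠ 0 := by
        intro X Y hX hY A μ ν hμ _ hA hYν
        have hsk := hskew hY
        rcases isEmpty_or_nonempty ι with hi | ⟨⟨i₀⟩⟩
        · exact absurd hi (not_isEmpty_of_nonempty ι)
        have e : ∀ (r : ι → F) (c : F), μ • r - r ᵥ* (A : Matrix ι ι F) -
            (c * sq ((A : Matrix ι ι F) * Y) (star r) (star r)) • r =
            (μ - ν * (1 + c * sq Y (star r) (star r))) • r := by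
          intro r c
          rw [hA, vecMul_smul, vecMul_one, Matrix.smul_mul, Matrix.one_mul]
          simp only [sq, smul_mulVec, dotProduct_smul, smul_eq_mul]
          module
        by_cases hνμ : ν = μ
        · obtain ⟨u, hu⟩ := exists_sq_self_ne SD (hYν hνμ)
          obtain ⟨c, hc, hc1⟩ : ∃ c : F, c + star c = -1 ∧ 1 + c * sq Y u u ≠ 0 := by
            by_cases h : 1 + -θ * sq Y u u = 0
            · refine ⟨-θ + δ, by rw [star_add, star_neg, hδ]; linear_combination -hθ, fun h' => ?_⟩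
              exact mul_ne_zero hδ0 hu (by linear_combination h' - h)
            · exact ⟨-θ, by rw [star_neg]; linear_combination -hθ, h⟩
          refine ⟨star u, c, hc, by rwa [star_star], ?_⟩
          rw [e, star_star, smul_ne_zero_iff]
          have hc0 : c ≠ 0 := fun h => by
            rw [h, star_zero, add_zero] at hc
            exact one_ne_zero (neg_eq_zero.1 hc.symm)
          have hν0 : ν ≠ 0 := by
            rw [hνμ]; exact left_ne_zero_of_mul_eq_one hμ
          refine ⟨fun h => ?_, star_ne_zero.2 fun h => hu (by simp [h, sq])⟩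
          exact mul_ne_zero hν0 (mul_ne_zero hc0 hu) (by rw [← hνμ] at h; linear_combination -h)
        rcases h3 with h3 | ⟨ρ, hρ, hρ0, hρ1⟩
        · obtain ⟨u, hu0, hu⟩ := exists_isotropic SD hsk
          refine ⟨star u, -θ, by rw [star_neg]; linear_combination -hθ, ?_, ?_⟩
          · rw [star_star, hu, mul_zero, add_zero]; exact one_ne_zero
          · rw [e, star_star, hu, mul_zero, add_zero, mul_one, smul_ne_zero_iff]
            exact ⟨sub_ne_zero.2 (Ne.symm hνμ), star_ne_zero.2 hu0⟩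
        · set u : ι → F := Pi.single i₀ 1
          have hu0 : star u ≠ 0 := star_ne_zero.2 fun h => by simpa [u] using congrFun h i₀
          by_cases hβ : sq Y u u = 0
          · refine ⟨star u, -θ, by rw [star_neg]; linear_combination -hθ, ?_, ?_⟩
            · rw [star_star, hβ, mul_zero, add_zero]; exact one_ne_zero
            · rw [e, star_star, hβ, mul_zero, add_zero, mul_one, smul_ne_zero_iff]
              exact ⟨sub_ne_zero.2 (Ne.symm hνμ), hu0⟩
          by_contra hcon
          push Not at hcon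
          have bad : ∀ k : F, star k = k →
              1 + (-θ + k * δ) * sq Y u u = 0 ∨ μ = ν * (1 + (-θ + k * δ) * sq Y u u) := by
            intro k hk
            by_contra hb
            push Not at hb
            have h' := hcon (star u) (-θ + k * δ)
              (by rw [star_add, star_neg, star_mul', hδ, hk]; linear_combination -hθ) (by rw [star_star]; exact hb.1)
            rw [e, star_star, smul_eq_zero, sub_eq_zero] at h'
            exact hb.2 (h'.resolve_right hu0)
          have hν0 : ν ≠ 0 := fun h => by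
            have hu' := A.mul_inv
            rw [hA, h, zero_smul, Matrix.zero_mul] at hu'
            have := congrFun (congrFun hu' i₀) i₀
            simp at this
          have hinj : ∀ {k k' : F}, 1 + (-θ + k * δ) * sq Y u u = 1 + (-θ + k' * δ) * sq Y u u → k = k' := by
            intro k k' h
            have : (k - k') * (δ * sq Y u u) = 0 := by linear_combination h
            exact sub_eq_zero.1 ((mul_eq_zero.1 this).resolve_right (mul_ne_zero hδ0 hβ))
          rcases bad 0 (star_zero F) with a | a <;> rcases bad 1 (star_one F) with b | b <;>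
            rcases bad ρ hρ with d | d
          all_goals first
            | exact zero_ne_one (hinj (a.trans b.symm))
            | exact hρ0 (hinj (d.trans a.symm))
            | exact hρ1 (hinj (d.trans b.symm))
            | exact zero_ne_one (hinj (mul_left_cancel₀ hν0 (a.symm.trans b)))
            | exact hρ0 (hinj (mul_left_cancel₀ hν0 (d.symm.trans a)))
            | exact hρ1 (hinj (mul_left_cancel₀ hν0 (d.symm.trans b)))
      obtain ⟨ν, hA⟩ := hscal
      by_cases hYν : ν = μ → Y ≠ 0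
      · exact key X Y hX hY A μ hμ (hg' ▸ Equiv'.refl g)
          (main X Y hX hY A μ ν hμ (hg' ▸ Equiv'.refl g) hA hYν)
      push Not at hYν
      obtain ⟨rfl, rfl⟩ := hYν
      obtain ⟨B, hμ', hB, hfl⟩ := flip_ldu hX hY A hμ
      have he : Equiv' g (flip (lo 0 X hX * dg A ν hμ * up 0 0 hY)) := hg' ▸ (Equiv'.refl g).flip
      simp only [hfl, neg_zero] at he
      have hX0 : X ≠ 0 := fun h => hg (by subst h; exact hg' ▸ scal_of_levi hμ hA hμ rfl)
      exact key _ _ _ _ B (star ν) hμ' he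
        (main _ _ _ _ B (star ν) (star ν) hμ' he (by rw [hB, hA, conjTranspose_smul, conjTranspose_one])
          fun _ h => hX0 (by simpa using h))
    · refine key X Y hX hY A μ hμ (hg' ▸ Equiv'.refl g) ?_
      push Not at hscal
      obtain ⟨r, hr⟩ : ∃ r : ι → F, ∀ t : F, r ᵥ* (A : Matrix ι ι F) ≠ t • r := by
        by_contra h
        push Not at h
        obtain ⟨ν, hν⟩ := exists_scalar_of_eigen (fun r => h r)
        exact hscal ν hν
      obtain ⟨c, hc, hc1⟩ : ∃ c : F, c + star c = -1 ∧ 1 + c * sq Y (star r) (star r) ≠ 0 := by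
        by_cases hu : sq Y (star r) (star r) = 0
        · exact ⟨-θ, by rw [star_neg]; linear_combination -hθ, by rw [hu, mul_zero, add_zero]; exact one_ne_zero⟩
        by_cases h : 1 + -θ * sq Y (star r) (star r) = 0
        · refine ⟨-θ + δ, by rw [star_add, star_neg, hδ]; linear_combination -hθ, fun h' => ?_⟩
          exact mul_ne_zero hδ0 hu (by linear_combination h' - h)
        · exact ⟨-θ, by rw [star_neg]; linear_combination -hθ, h⟩
      refine ⟨r, c, hc, hc1, fun h => hr (μ - c * sq ((A : Matrix ι ι F) * Y) (star r) (star r)) ?_⟩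
      rw [sub_smul]
      linear_combination (norm := module) -h
  rintro X Y hX hY A μ hμ he ⟨r, c, hc, hc1, hne⟩
  set t : Matrix κ ι F := Matrix.of fun _ => r
  have htt : tᴴ * t = vecMulVec (star r) r := by
    ext x y
    simp [t, Matrix.mul_apply, vecMulVec_apply, Fintype.sum_subsingleton _ j]
  have hrad : Rad t (c • vecMulVec (star r) r) := by
    show c • vecMulVec (star r) r + (c • vecMulVec (star r) r)ᴴ + tᴴ * t = 0
    rw [htt, conjTranspose_smul, conjTranspose_vecMulVec, star_star]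
    match_scalars
    linear_combination hc
  set g₁ := (lo t _ hrad)⁻¹ * (lo 0 X hX * dg A μ hμ * up 0 Y hY) * lo t _ hrad with hg₁
  have h11 : IsUnit (m11 g₁) := by
    rw [hg₁, m11_conj_lo hX hY A hμ t _ hrad, conjTranspose_zero, Matrix.zero_mul, sub_zero]
    refine A.isUnit.mul ?_
    rw [Matrix.isUnit_iff_isUnit_det, isUnit_iff_ne_zero, Matrix.mul_smul, mul_vecMulVec, ← smul_vecMulVec,
      vecMulVec_eq Unit, det_one_add_replicateCol_mul_replicateRow, dotProduct_smul, smul_eq_mul]
    simpa [sq] using hc1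
  obtain ⟨v', w', X', Y', hX', hY', A', μ', hμ', hg'', -⟩ := exists_form g₁ h11
  have hv' : v' ≠ 0 := by
    intro h0
    subst h0
    have hb := (blocks_of_eq (blocks_ldu hX' hY' A' hμ')).2.2.2.1
    rw [← hg'', Matrix.zero_mul, hg₁, m21_conj_lo_dg hX hY A hμ t _ hrad] at hb
    apply hne
    funext x
    have hx := congrFun (congrFun hb j) x
    have hrow : ∀ Z : Matrix ι ι F, (t * Z) j = r ᵥ* Z := fun Z => rfl
    rw [Matrix.sub_apply, Matrix.smul_apply, Matrix.mul_assoc t, hrow, Matrix.mul_add, Matrix.mul_one,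
      ← Matrix.mul_assoc _ Y, Matrix.mul_smul, mul_vecMulVec, vecMul_add, vecMul_smul, vecMul_vecMulVec,
      show t j x = r x from rfl, Matrix.zero_apply] at hx
    simp only [Pi.add_apply, Pi.smul_apply, Pi.sub_apply, Pi.zero_apply, smul_eq_mul, sq, star_star] at hx ⊢
    linear_combination hx
  obtain ⟨B, hμB, -, hfl⟩ := flip_ldu hX' hY' A' hμ'
  refine ⟨-w', -v', Y'ᴴ, X'ᴴ, hY'.inv, hX'.inv, B, star μ', hμB, ?_, neg_ne_zero.2 hv'⟩
  rw [← hfl, ← hg'']
  exact (he.conj' _).flip

/-- Some equivalent element has middle scalar one. -/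
theorem exists_middle_one [Nonempty κ] [Nonempty ι] (SD : StarData F)
    (h3 : Nontrivial ι ∨ ∃ r : F, star r = r ∧ r ≠ 0 ∧ r ≠ 1) (g : gu F ι κ) (hg : ¬ IsScal g)
    (hM : IsUnit (m11 g)) :
    ∃ g', Equiv' g g' ∧ IsUnit (m11 g') ∧ star (m11 g').det = (m11 g').det := by
  obtain ⟨v, w, X, Y, hX, hY, A, μ, hμ, he, hw⟩ := exists_middle_data SD h3 g hg hM
  set ω := wᴴ *ᵥ fun _ => (1 : F) with hω
  have hω0 : ω ≠ 0 := fun h => hw (vec_eq_zero h)
  obtain ⟨i, hi⟩ := Function.ne_iff.1 hω0
  set u : ι → F := Pi.single i 1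
  set γ := star u ⬝ᵥ ω with hγdef
  have hγ : γ ≠ 0 := by simpa [hγdef, u] using hi
  have hγs : star γ ≠ 0 := star_ne_zero.2 hγ
  set b := sq Y u u / (γ * star γ) with hbdef
  have hb : b + star b = -1 := by
    have h1 := rad_sq hY u
    rw [← hω, ← hγdef] at h1
    rw [hbdef, star_div₀, star_mul', star_star]
    field_simp
    linear_combination h1
  have hA : (A : Matrix ι ι F).det ≠ 0 :=
    ((Matrix.isUnit_iff_isUnit_det _).1 A.isUnit).ne_zero
  obtain ⟨x, s, hs, hV, hreal⟩ := exists_coset SD hA hb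
  obtain ⟨g', hg', hm⟩ := realize hX hY A hμ u (x / γ) (s * (x / γ * star (x / γ)))
    (by rw [star_mul', star_mul', star_star]; linear_combination (x / γ * star (x / γ)) * hs)
    (fun h => (not_isEmpty_of_nonempty κ h).elim)
  have hdet : (m11 g').det = (A : Matrix ι ι F).det * (1 + x + s * b * (x * star x)) := by
    rw [hm, det_mul, vecMulVec_eq Unit, det_one_add_replicateCol_mul_replicateRow, dotProduct_add,
      dotProduct_smul, dotProduct_smul, ← hω, ← hγdef, smul_eq_mul, smul_eq_mul,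
      show star u ⬝ᵥ (Y *ᵥ u) = sq Y u u from rfl, hbdef, star_div₀]
    field_simp
    ring
  refine ⟨g', he.trans hg', ?_, by rw [hdet]; exact hreal⟩
  rw [Matrix.isUnit_iff_isUnit_det, isUnit_iff_ne_zero, hdet]
  exact mul_ne_zero hA hV

end Coset

end CfsgLib.OreSU
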