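import Cfsg.Agent.OreSU.Polys
import Cfsg.Agent.OreSU.Fac
import Cfsg.Agent.OreSU.Middle

/-!
# Commutators from a Levi part in a product of two classes
-/

set_option autoImplicit false
set_option linter.unusedSectionVars false
set_option linter.unusedSimpArgs false

namespace CfsgLib.OreSU

open Matrix Polynomial
open CfsgLib.LevCover
open CfsgLib.SourourProduct (blk blk_mul blk_ext blk_mulVec_e₀ e₀ eq_blk one_eq_blk)

variable {F : Type*} [Field F] [StarRing F] {ι κ : Type*} [Fintype ι] [DecidableEq ι] [Fintype κ]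
  [DecidableEq κ]

theorem Good.conj {A : (Matrix ι ι F)ˣ} {μ : F} (hA : Good κ A μ) (P : (Matrix ι ι F)ˣ) :
    Good κ (P * A * P⁻¹) μ := by
  have hP : (↑P⁻¹ : Matrix ι ι F) * (P : Matrix ι ι F) = 1 := P.inv_mul
  have hP' : (P : Matrix ι ι F) * (↑P⁻¹ : Matrix ι ι F) = 1 := P.mul_inv
  have hPs : (P : Matrix ι ι F)ᴴ * (↑P⁻¹ : Matrix ι ι F)ᴴ = 1 := by rw [← conjTranspose_mul, hP, conjTranspose_one]
  have hPs' : (↑P⁻¹ : Matrix ι ι F)ᴴ * (P : Matrix ι ι F)ᴴ = 1 := by rw [← conjTranspose_mul, hP', conjTranspose_one]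
  refine ⟨fun X hX => ?_, fun X hX => ?_, fun v hv => ?_, fun v hv => ?_⟩
  · have h0 := hA.low ((P : Matrix ι ι F)ᴴ * X * P) (by
      conv_rhs => rw [← hX]
      simp only [Units.val_mul, conjTranspose_mul, ← Matrix.mul_assoc, hPs, Matrix.one_mul]
      simp only [Matrix.mul_assoc, hP, Matrix.mul_one])
    have h1 := congrArg (fun Z => (↑P⁻¹ : Matrix ι ι F)ᴴ * Z * (↑P⁻¹ : Matrix ι ι F)) h0
    simp only [← Matrix.mul_assoc, hPs', Matrix.one_mul, Matrix.mul_zero, Matrix.zero_mul] at h1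
    rwa [Matrix.mul_assoc, hP', Matrix.mul_one] at h1
  · have h0 := hA.high ((↑P⁻¹ : Matrix ι ι F) * X * (↑P⁻¹ : Matrix ι ι F)ᴴ) (by
      conv_rhs => rw [← hX]
      simp only [Units.val_mul, conjTranspose_mul, ← Matrix.mul_assoc, hP, Matrix.one_mul]
      simp only [Matrix.mul_assoc, hPs, Matrix.mul_one])
    have h1 := congrArg (fun Z => (P : Matrix ι ι F) * Z * (P : Matrix ι ι F)ᴴ) h0
    simp only [← Matrix.mul_assoc, hP', Matrix.one_mul, Matrix.mul_zero, Matrix.zero_mul] at h1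
    rwa [Matrix.mul_assoc, hPs', Matrix.mul_one] at h1
  · have h0 := hA.left (v * (P : Matrix ι ι F)) (by
      rw [← Matrix.smul_mul, ← hv]
      simp only [Units.val_mul, Matrix.mul_assoc, hP, Matrix.mul_one])
    have h1 := congrArg (· * (↑P⁻¹ : Matrix ι ι F)) h0
    simpa [Matrix.mul_assoc, hP'] using h1
  · have h0 := hA.right (v * (↑P⁻¹ : Matrix ι ι F)ᴴ) (by
      rw [← Matrix.smul_mul, ← hv]
      simp only [_root_.mul_inv_rev, inv_inv, Units.val_mul, conjTranspose_mul, Matrix.mul_assoc, hPs, Matrix.mul_one])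
    have h1 := congrArg (· * (P : Matrix ι ι F)ᴴ) h0
    rwa [Matrix.mul_assoc, hPs', Matrix.mul_one, Matrix.zero_mul] at h1

theorem Good.inv {A : (Matrix ι ι F)ˣ} {μ : F} (hμ : μ * star μ = 1) (hA : Good κ A μ) :
    Good κ A⁻¹ (star μ) := by
  have h1 : (A : Matrix ι ι F)ᴴ * (↑A⁻¹ : Matrix ι ι F)ᴴ = 1 := by
    rw [← conjTranspose_mul, A.inv_mul, conjTranspose_one]
  have h2 : (↑A⁻¹ : Matrix ι ι F)ᴴ * (A : Matrix ι ι F)ᴴ = 1 := by
    rw [← conjTranspose_mul, A.mul_inv, conjTranspose_one]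
  refine ⟨fun X hX => hA.low X ?_, fun X hX => hA.high X ?_, fun v hv => hA.left v ?_, fun v hv => hA.right v ?_⟩
  · conv_lhs => rw [← hX]
    simp only [← Matrix.mul_assoc, h1, Matrix.one_mul]
    rw [Matrix.mul_assoc, A.inv_mul, Matrix.mul_one]
  · conv_lhs => rw [← hX]
    simp only [← Matrix.mul_assoc, A.mul_inv, Matrix.one_mul]
    rw [Matrix.mul_assoc, h2, Matrix.mul_one]
  · have h := congrArg (fun Z => μ • (Z * (A : Matrix ι ι F))) hv
    simp only [Matrix.mul_assoc, A.inv_mul, Matrix.mul_one, Matrix.smul_mul, smul_smul, hμ, one_smul] at h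
    exact h.symm
  · rw [inv_inv] at hv
    have h := congrArg (fun Z => μ • (Z * (↑A⁻¹ : Matrix ι ι F)ᴴ)) hv
    simp only [Matrix.mul_assoc, h1, Matrix.mul_one, Matrix.smul_mul, smul_smul, hμ, one_smul] at h
    exact h.symm

/-- The data of a pair of classes. -/
structure ClassPair (κ : Type*) [Fintype κ] [DecidableEq κ] (h hh : (Matrix ι ι F)ˣ) (μ : F) : Prop where
  norm : μ * star μ = 1
  norm' : star μ * star (star μ) = 1
  det_one : dt F ι κ (dg h μ norm) = 1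
  surj : ∀ d : F, star d * d = 1 →
    ∃ c : gu F ι κ, c * dg h μ norm = dg h μ norm * c ∧ dt F ι κ c = d
  conj : ∃ a : gu F ι κ, (dg hh (star μ) norm' : gu F ι κ) = a * (dg h μ norm)⁻¹ * a⁻¹
  good : Good κ h μ
  good' : Good κ hh (star μ)

theorem dg_conj (P A : (Matrix ι ι F)ˣ) {μ : F} (hμ : μ * star μ = 1) :
    (dg (P * A * P⁻¹) μ hμ : gu F ι κ) = dg P 1 (by simp) * dg A μ hμ * (dg P 1 (by simp))⁻¹ := by
  refine gu_ext ?_
  show _ = mat (dg P 1 _) * mat (dg A μ hμ) * b3 (↑P⁻¹ : Matrix ι ι F) 0 0 0 (star (1 : F) • 1) 0 0 0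
    (P : Matrix ι ι F)ᴴ
  rw [mat_dg, mat_dg, mat_dg, b3_mul, b3_mul, b3_inj]
  simp [conjTranspose_mul, Matrix.mul_assoc]

theorem exists_unit_conj {h R : Matrix ι ι F} (e : Sim h R) :
    ∃ P : (Matrix ι ι F)ˣ, R = (P : Matrix ι ι F) * h * (↑P⁻¹ : Matrix ι ι F) := by
  obtain ⟨P, P', h1, h2, rfl⟩ := e
  exact ⟨⟨P, P', h1, h2⟩, rfl⟩

theorem ClassPair.isComm [Fintype F] {h hh : (Matrix ι ι F)ˣ} {μ : F} (C : ClassPair κ h hh μ)
    {v w : Matrix κ ι F} {X Y : Matrix ι ι F} (hX : Rad v X) (hY : Rad w Y) (A : (Matrix ι ι F)ˣ)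
    (h1 : (1 : F) * star (1 : F) = 1)
    (hfac : ∃ R H : Matrix ι ι F, (A : Matrix ι ι F) = R * H ∧ Sim (h : Matrix ι ι F) R ∧ Sim (hh : Matrix ι ι F) H) :
    IsComm (lo v X hX * dg A 1 h1 * up w Y hY) := by
  obtain ⟨R, H, hA, hR, hH⟩ := hfac
  obtain ⟨P, rfl⟩ := exists_unit_conj hR
  obtain ⟨Q, rfl⟩ := exists_unit_conj hH
  obtain ⟨a, ha⟩ := C.conj
  have e₂ : (dg (Q * hh * Q⁻¹) (star μ) C.norm' : gu F ι κ) =
      (dg Q 1 (by simp) * a) * (dg h μ C.norm)⁻¹ * (dg Q 1 (by simp) * a)⁻¹ := by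
    rw [dg_conj, ha]
    group
  exact isComm_of_levi hX hY C.norm (Units.ext (by simpa [Units.val_mul] using hA)) (C.good.conj P)
    (C.good'.conj Q) C.norm' C.det_one C.surj (dg_conj P h C.norm) e₂ h1

theorem dt_dg (A : (Matrix ι ι F)ˣ) (μ : F) (hμ : μ * star μ = 1) :
    dt F ι κ (dg A μ hμ) = (A : Matrix ι ι F).det * μ ^ Fintype.card κ * (star (A : Matrix ι ι F).det)⁻¹ :=
  det_dg A μ hμ

theorem dg_comm {A B : (Matrix ι ι F)ˣ} {μ ν : F} (hμ : μ * star μ = 1) (hν : ν * star ν = 1)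
    (h : A * B = B * A) : (dg A μ hμ * dg B ν hν : gu F ι κ) = dg B ν hν * dg A μ hμ := by
  refine gu_ext ?_
  show mat (dg A μ hμ) * mat (dg B ν hν) = mat (dg B ν hν) * mat (dg A μ hμ)
  rw [mat_dg, mat_dg, b3_mul, b3_mul, b3_inj]
  have h' : (A : Matrix ι ι F) * B = B * A := congrArg Units.val h
  have h'' : (↑A⁻¹ : Matrix ι ι F) * (↑B⁻¹ : Matrix ι ι F) = (↑B⁻¹ : Matrix ι ι F) * (↑A⁻¹ : Matrix ι ι F) :=
    congrArg Units.val (show A⁻¹ * B⁻¹ = B⁻¹ * A⁻¹ by rw [← _root_.mul_inv_rev, ← _root_.mul_inv_rev, h])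
  simp [h', ← conjTranspose_mul, h'', smul_smul, mul_comm μ ν]
  simpa [Matrix.coe_units_inv] using h''.symm

theorem exists_quot (SD : StarData F) {d : F} (hd : star d * d = 1) : ∃ t : F, t ≠ 0 ∧ t * (star t)⁻¹ = d := by
  obtain ⟨r, hr⟩ := SD.nonreal
  have key : ∀ a : F, a + d * star a ≠ 0 → ∃ t : F, t ≠ 0 ∧ t * (star t)⁻¹ = d := fun a ha => by
    refine ⟨a + d * star a, ha, ?_⟩
    rw [mul_inv_eq_iff_eq_mul₀ (star_ne_zero.2 ha), star_add, star_mul', star_star]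
    linear_combination (-a) * hd
  by_cases h1 : 1 + d * star (1 : F) = 0
  · refine key r fun h => hr ?_
    rw [star_one, mul_one] at h1
    rw [show d = -1 from eq_neg_of_add_eq_zero_right h1] at h
    linear_combination -h
  · exact key 1 h1

section Blocks

variable {d : ℕ}

theorem det_blk_diag (x : F) (C : Matrix (Fin d) (Fin d) F) : (blk x 0 0 C).det = x * C.det :=
  det_upper_blk x 0 C

/-- A block diagonal unit. -/
noncomputable def ublk (x : F) (hx : x ≠ 0) (C : Matrix (Fin d) (Fin d) F) (hC : C.det ≠ 0) :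
    (Matrix (Fin (d + 1)) (Fin (d + 1)) F)ˣ :=
  ⟨blk x 0 0 C, blk x⁻¹ 0 0 C⁻¹,
    by conv_rhs => rw [one_eq_blk]
       simp [blk_mul, hx, Matrix.mul_nonsing_inv C (isUnit_iff_ne_zero.2 hC)],
    by conv_rhs => rw [one_eq_blk]
       simp [blk_mul, hx, Matrix.nonsing_inv_mul C (isUnit_iff_ne_zero.2 hC)]⟩

theorem val_ublk (x : F) (hx : x ≠ 0) (C : Matrix (Fin d) (Fin d) F) (hC : C.det ≠ 0) :
    (ublk x hx C hC : Matrix (Fin (d + 1)) (Fin (d + 1)) F) = blk x 0 0 C := rfl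

theorem blk_conjTranspose (x : F) (C : Matrix (Fin d) (Fin d) F) : (blk x 0 0 C)ᴴ = blk (star x) 0 0 Cᴴ := by
  refine blk_ext ?_ ?_ ?_ ?_ <;> intros <;> simp

theorem surj_of_scal (SD : StarData F) {h : (Matrix (Fin (d + 1)) (Fin (d + 1)) F)ˣ} {μ : F}
    (hμ : μ * star μ = 1)
    (hcomm : ∀ t : F, t ≠ 0 → ∃ c : (Matrix (Fin (d + 1)) (Fin (d + 1)) F)ˣ, c * h = h * c ∧
      (c : Matrix (Fin (d + 1)) (Fin (d + 1)) F).det = t) :
    ∀ e : F, star e * e = 1 →
      ∃ c : gu F (Fin (d + 1)) κ, c * dg h μ hμ = dg h μ hμ * c ∧ dt F (Fin (d + 1)) κ c = e := by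
  intro e he
  obtain ⟨t, ht, hte⟩ := exists_quot SD he
  obtain ⟨c, hc, hdet⟩ := hcomm t ht
  refine ⟨dg c 1 (by simp), dg_comm _ hμ hc, ?_⟩
  rw [dt_dg, hdet, one_pow, mul_one, hte]

theorem comm_ublk (β : F) (hβ : β ≠ 0) (C : Matrix (Fin d) (Fin d) F) (hC : C.det ≠ 0) (t : F) (ht : t ≠ 0) :
    ∃ c : (Matrix (Fin (d + 1)) (Fin (d + 1)) F)ˣ, c * ublk β hβ C hC = ublk β hβ C hC * c ∧
      (c : Matrix (Fin (d + 1)) (Fin (d + 1)) F).det = t := by
  refine ⟨ublk t ht 1 (by simp), Units.ext ?_, by rw [val_ublk, det_blk_diag, det_one, mul_one]⟩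
  rw [Units.val_mul, Units.val_mul, val_ublk, val_ublk, blk_mul, blk_mul]
  simp [mul_comm]

set_option maxHeartbeats 2000000 in
/-- Exchanging one hyperbolic pair conjugates the inverse of a block diagonal Levi element. -/
theorem exists_swap_conj (β : F) (hβ : β ≠ 0) (C : Matrix (Fin d) (Fin d) F) (hC : C.det ≠ 0) {μ : F}
    (hμ : μ * star μ = 1) (hμ' : star μ * star (star μ) = 1) (hC' : C⁻¹.det ≠ 0) :
    ∃ a : gu F (Fin (d + 1)) κ, (dg (ublk (star β) (star_ne_zero.2 hβ) C⁻¹ hC') (star μ) hμ' :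
      gu F (Fin (d + 1)) κ) = a * (dg (ublk β hβ C hC) μ hμ)⁻¹ * a⁻¹ := by
  classical
  set σ : Equiv.Perm (Fin (d + 1) ⊕ κ ⊕ Fin (d + 1)) := Equiv.swap (Sum.inl 0) (Sum.inr (Sum.inr 0)) with hσ
  set P : Matrix (Fin (d + 1) ⊕ κ ⊕ Fin (d + 1)) (Fin (d + 1) ⊕ κ ⊕ Fin (d + 1)) F :=
    (1 : Matrix _ _ F).submatrix σ id with hP
  have hmul : ∀ M, P * M = M.submatrix σ id := fun M => by
    ext i j; simp [hP, Matrix.mul_apply, Matrix.one_apply]
  have hmul' : ∀ M, M * P = M.submatrix id σ := fun M => by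
    ext i j
    simp only [hP, Matrix.mul_apply, submatrix_apply, id_eq, Matrix.one_apply]
    rw [Finset.sum_eq_single (σ j)]
    · simp [hσ]
    · intro b _ hb
      rw [if_neg fun h => hb (by rw [← h]; simp [hσ]), mul_zero]
    · simp
  have hPP : P * P = 1 := by
    rw [hmul, hP]
    ext i j
    simp [Matrix.one_apply, hσ]
  have hPs : Pᴴ = P := by
    ext i j
    simp only [hP, conjTranspose_apply, submatrix_apply, id_eq, Matrix.one_apply]
    by_cases h : σ j = i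
    · rw [if_pos h, if_pos (by rw [← h]; simp [hσ]), star_one]
    · rw [if_neg h, if_neg (fun h' => h (by rw [← h']; simp [hσ])), star_zero]
  have s0 : σ (Sum.inl 0) = Sum.inr (Sum.inr 0) := Equiv.swap_apply_left _ _
  have s0' : σ (Sum.inr (Sum.inr 0)) = Sum.inl 0 := Equiv.swap_apply_right _ _
  have s1 : ∀ x : Fin d, σ (Sum.inl x.succ) = Sum.inl x.succ := fun x =>
    Equiv.swap_apply_of_ne_of_ne (by simp [Fin.succ_ne_zero]) (by simp)
  have s1' : ∀ x : Fin d, σ (Sum.inr (Sum.inr x.succ)) = Sum.inr (Sum.inr x.succ) := fun x =>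
    Equiv.swap_apply_of_ne_of_ne (by simp) (by simp [Fin.succ_ne_zero])
  have s2 : ∀ x : κ, σ (Sum.inr (Sum.inl x)) = Sum.inr (Sum.inl x) := fun x =>
    Equiv.swap_apply_of_ne_of_ne (by simp) (by simp)
  have hPJ : Pᴴ * jj (Fin (d + 1)) κ * P = jj (Fin (d + 1)) κ := by
    rw [hPs, hmul, hmul']
    ext i j
    rcases i with i | i | i <;> rcases j with j | j | j
    all_goals try induction i using Fin.cases
    all_goals try induction j using Fin.cases
    all_goals simp [s0, s0', s1, s1', s2, jj, b3, Matrix.one_apply, Fin.succ_ne_zero, (Fin.succ_ne_zero _).symm]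
  set a : gu F (Fin (d + 1)) κ := mkGu P P hPP hPJ
  have ha : a⁻¹ = a := gu_ext rfl
  refine ⟨a, gu_ext ?_⟩
  rw [ha]
  show _ = P * b3 (↑(ublk β hβ C hC)⁻¹ : Matrix (Fin (d + 1)) (Fin (d + 1)) F) 0 0 0 (star μ • 1) 0 0 0
    (ublk β hβ C hC : Matrix (Fin (d + 1)) (Fin (d + 1)) F)ᴴ * P
  rw [hmul, hmul', mat_dg]
  show b3 (blk (star β) 0 0 C⁻¹) 0 0 0 (star μ • 1) 0 0 0 (blk (star β)⁻¹ 0 0 C⁻¹⁻¹)ᴴ =
    ((b3 (blk β⁻¹ 0 0 C⁻¹) 0 0 0 (star μ • 1) 0 0 0 (blk β 0 0 C)ᴴ).submatrix σ id).submatrix id σ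
  rw [blk_conjTranspose, blk_conjTranspose, star_inv₀, star_star, Matrix.nonsing_inv_nonsing_inv C (isUnit_iff_ne_zero.2 hC)]
  ext i j
  rcases i with i | i | i <;> rcases j with j | j | j
  all_goals try induction i using Fin.cases
  all_goals try induction j using Fin.cases
  all_goals simp [s0, s0', s1, s1', s2, b3, Matrix.one_apply, Fin.succ_ne_zero, (Fin.succ_ne_zero _).symm]

end Blocks

section Twist

variable {f g : F[X]}

theorem coprime_of_ne (hirr : Irreducible f) (hf : f.Monic) (hg : g.Monic) (hd : g.natDegree ≤ f.natDegree)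
    (hne : f ≠ g) : IsCoprime f g :=
  hirr.coprime_iff_not_dvd.2 fun h => hne (eq_of_monic_of_dvd_of_natDegree_le hf hg h hd).symm

theorem coprime_lin {x : F} (h : f.eval x ≠ 0) : IsCoprime (X - C x) f :=
  ((irreducible_X_sub_C x).coprime_iff_not_dvd).2 fun h' => h (dvd_iff_isRoot.1 h')

theorem eval_twist_ne {x : F} (hx : x ≠ 0) (h : f.eval (star x)⁻¹ ≠ 0) :
    ((f.map (starRingEnd F)).reverse).eval x ≠ 0 := by
  intro h0
  haveI : Invertible x⁻¹ := invertibleOfNonzero (inv_ne_zero hx)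
  have h1 : (f.map (starRingEnd F)).eval x⁻¹ = 0 := by
    have := (eval₂_reverse_eq_zero_iff (RingHom.id F) x⁻¹ (f.map (starRingEnd F))).1
      (by rwa [invOf_eq_inv, inv_inv])
    exact this
  have h2 : x⁻¹ = starRingEnd F (star x)⁻¹ := by rw [starRingEnd_apply, star_inv₀, star_star]
  rw [h2, eval_map_apply, starRingEnd_apply, star_eq_zero] at h1
  exact h h1

theorem twist_mul (f g : F[X]) : ((f * g).map (starRingEnd F)).reverse =
    (f.map (starRingEnd F)).reverse * (g.map (starRingEnd F)).reverse := by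
  rw [Polynomial.map_mul, reverse_mul_of_domain]

theorem twist_lin (x : F) : (((X : F[X]) - C x).map (starRingEnd F)).reverse = 1 - C (star x) * X := by
  rw [Polynomial.map_sub, map_X, map_C, starRingEnd_apply]
  ext n
  rw [coeff_reverse, natDegree_X_sub_C]
  rcases n with _ | _ | n
  · simp [revAt_le (show 0 ≤ 1 by omega), coeff_X]
  · simp [revAt_le (show 1 ≤ 1 by omega), coeff_X, coeff_one]
  · rw [revAt_eq_self_of_lt (by omega)]
    simp [coeff_X, coeff_C, coeff_one]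

theorem good_poly_lin {β : F} (hβ : β ≠ 0) (hν : β * star β ≠ 1) (hf : f.eval (star β)⁻¹ ≠ 0)
    (hco : IsCoprime f (f.map (starRingEnd F)).reverse) :
    IsCoprime ((X - C β) * f) (((X - C β) * f).map (starRingEnd F)).reverse := by
  have e : (1 : F[X]) - C (star β) * X = C (-star β) * (X - C (star β)⁻¹) := by
    rw [mul_sub, ← C_mul, neg_mul, mul_inv_cancel₀ (star_ne_zero.2 hβ), C_neg, C_neg, C_1]
    ring
  have hu : IsUnit (C (-star β) : F[X]) := isUnit_C.2 (isUnit_iff_ne_zero.2 (neg_ne_zero.2 (star_ne_zero.2 hβ)))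
  rw [twist_mul, twist_lin, IsCoprime.mul_left_iff, IsCoprime.mul_right_iff, IsCoprime.mul_right_iff]
  refine ⟨⟨coprime_lin ?_, coprime_lin (eval_twist_ne hβ hf)⟩, ?_, hco⟩
  · simp only [eval_sub, eval_one, eval_mul, eval_C, eval_X]
    exact sub_ne_zero.2 fun h => hν (by rw [mul_comm]; exact h.symm)
  · rw [e, isCoprime_mul_unit_left_right hu]
    exact (coprime_lin hf).symm

theorem quad_monic (a b : F) : (X ^ 2 + C a * X + C b : F[X]).Monic ∧ (X ^ 2 + C a * X + C b : F[X]).natDegree = 2 := by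
  constructor
  · rw [add_assoc]; exact monic_X_pow_add (lt_of_le_of_lt (degree_linear_le) (by norm_num))
  · rw [show (X ^ 2 + C a * X + C b : F[X]) = C 1 * X ^ 2 + C a * X + C b by simp]
    exact natDegree_quadratic one_ne_zero

theorem quad_irreducible (a b : F) (h : ∀ x : F, x ^ 2 + a * x + b ≠ 0) : Irreducible (X ^ 2 + C a * X + C b : F[X]) := by
  obtain ⟨hm, hd⟩ := quad_monic a b
  refine (hm.irreducible_iff_roots_eq_zero_of_degree_le_three hd.ge (by omega)).2 ?_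
  refine Multiset.eq_zero_of_forall_notMem fun x hx => h x ?_
  simpa using (mem_roots hm.ne_zero).1 hx

theorem twist_quad (a b : F) (hb : b ≠ 0) : ((X ^ 2 + C a * X + C b : F[X]).map (starRingEnd F)).reverse =
    C (star b) * (X ^ 2 + C (star a / star b) * X + C (star b)⁻¹) := by
  have hb' : star b ≠ 0 := star_ne_zero.2 hb
  simp only [Polynomial.map_add, Polynomial.map_mul, Polynomial.map_pow, map_X, map_C, starRingEnd_apply]
  ext n
  rw [coeff_reverse, (quad_monic _ _).2, coeff_C_mul]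
  rcases n with _ | _ | _ | n
  · simp [revAt_le (show 0 ≤ 2 by omega), coeff_X, hb']
  · simp [revAt_le (show 1 ≤ 2 by omega), coeff_X, coeff_C, hb', mul_div_cancel₀ _ hb']
  · simp [revAt_le (show 2 ≤ 2 by omega), coeff_X, coeff_C]
  · rw [revAt_eq_self_of_lt (by omega)]
    simp [coeff_X, coeff_C, coeff_X_pow]

end Twist

end CfsgLib.OreSU
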