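import Cfsg.Agent.LevCover.Split
import Cfsg.Agent.LevCover.Shapes

/-!
# A factor with prescribed irreducible characteristic polynomial

For invertible `N` and `c ≠ 0` there is `G` with a prescribed irreducible characteristic polynomial such that
`G⁻¹ c` is a cyclic vector of `G⁻¹ N`.
-/

set_option autoImplicit false
set_option linter.unusedSectionVars false
set_option linter.unusedSimpArgs false

namespace CfsgLib.OreSU

open Matrix Polynomial
open CfsgLib.LevCover
open CfsgLib.SourourProduct (blk blk_mul blk_ext blk_mulVec_e₀ e₀ eq_blk exists_frame one_eq_blk)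

variable {K : Type*} [Field K] {n : ℕ}

theorem cycAt_of_rank_one_update {M : Matrix (Fin n) (Fin n) K} {c φ : Fin n → K}
    (h : CycAt (M + vecMulVec c φ) c) : CycAt M c := by
  rw [cycAt_iff] at h ⊢
  intro z hz
  refine h z fun j => ?_
  have key : ∀ i : ℕ, i < n → z ᵥ* (M + vecMulVec c φ) ^ i = z ᵥ* M ^ i := by
    intro i
    induction i with
    | zero => intro _; simp
    | succ i ih =>
      intro hi
      have h0 := hz ⟨i, by omega⟩
      rw [dotProduct_mulVec] at h0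
      rw [pow_succ, pow_succ, ← vecMul_vecMul, ih (by omega), ← vecMul_vecMul z (M ^ i) M, vecMul_add,
        vecMul_vecMulVec, h0, zero_smul, add_zero]
  rw [dotProduct_mulVec, key j.val j.isLt, ← dotProduct_mulVec]
  exact hz j

theorem cycAt_smul {M : Matrix (Fin n) (Fin n) K} {c : Fin n → K} (h : CycAt M c) {ν : K} (hν : ν ≠ 0) :
    CycAt (ν • M) c := by
  rw [cycAt_iff] at h ⊢
  intro z hz
  refine h z fun j => ?_
  have := hz j
  rw [_root_.smul_pow, smul_mulVec, dotProduct_smul, smul_eq_mul, mul_eq_zero] at this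
  exact this.resolve_left (pow_ne_zero _ hν)

theorem inv_pow_mul {G : Matrix (Fin n) (Fin n) K} (hG : G.det ≠ 0) (m l : ℕ) :
    G⁻¹ ^ (m + l) * G ^ l = G⁻¹ ^ m := by
  induction l with
  | zero => simp
  | succ l ih =>
    rw [← add_assoc, pow_succ G⁻¹, pow_succ' G, Matrix.mul_assoc, ← Matrix.mul_assoc G⁻¹ G,
      Matrix.nonsing_inv_mul G (isUnit_iff_ne_zero.2 hG), Matrix.one_mul, ih]

/-- Cyclic vectors pass to the inverse. -/
theorem cycAt_inv {G : Matrix (Fin n) (Fin n) K} (hG : G.det ≠ 0) {c : Fin n → K} (h : CycAt G c) :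
    CycAt G⁻¹ (G⁻¹ *ᵥ c) := by
  rw [cycAt_iff] at h ⊢
  intro z hz
  have hz' : z ᵥ* G⁻¹ ^ n = 0 := by
    refine h _ fun j => ?_
    have h1 := hz ⟨n - 1 - j.val, by omega⟩
    rw [mulVec_mulVec, ← pow_succ] at h1
    rw [← dotProduct_mulVec, mulVec_mulVec]
    have e : G⁻¹ ^ n * G ^ j.val = G⁻¹ ^ (n - 1 - j.val + 1) := by
      have e' : G⁻¹ ^ n = G⁻¹ ^ ((n - 1 - j.val + 1) + j.val) := by congr 1; omega
      rw [e']
      exact inv_pow_mul hG _ _
    rw [e]
    exact h1
  refine Matrix.eq_zero_of_vecMul_eq_zero ?_ hz'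
  rw [det_pow, det_nonsing_inv, Ring.inverse_eq_inv']
  exact pow_ne_zero _ (inv_ne_zero hG)

theorem exists_mat_charpoly {k : ℕ} {g : K[X]} (hg : g.Monic) (hd : g.natDegree = k + 1) :
    ∃ G : Matrix (Fin (k + 1)) (Fin (k + 1)) K, G.charpoly = g :=
  (exists_hess k g hg hd).imp fun _ h => h.1

/-- A vector avoiding two lines. -/
theorem exists_avoid_two {v w : Fin 2 → K} :
    ∃ u : Fin 2 → K, (∀ t : K, u ≠ t • v) ∧ ∀ t : K, u ≠ t • w := by
  classical
  have two : ∀ v : Fin 2 → K, ∃ u, ∀ t : K, u ≠ t • v := by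
    intro v
    by_cases h : v 0 = 0
    · exact ⟨![1, 0], fun t ht => by simpa [h] using congrFun ht 0⟩
    · refine ⟨![0, 1], fun t ht => ?_⟩
      have h0 := congrFun ht 0
      have h1 := congrFun ht 1
      simp [h] at h0 h1
      simp [h0] at h1
  obtain ⟨a, ha⟩ := two v
  by_cases haw : ∃ t : K, a = t • w
  swap
  · exact ⟨a, ha, fun t ht => haw ⟨t, ht⟩⟩
  obtain ⟨s, hs⟩ := haw
  have hs0 : s ≠ 0 := fun h => ha 0 (by rw [hs, h, zero_smul, zero_smul])
  obtain ⟨b, hb⟩ := two w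
  by_cases hbv : ∃ t : K, b = t • v
  swap
  · exact ⟨b, fun t ht => hbv ⟨t, ht⟩, hb⟩
  obtain ⟨r, hr⟩ := hbv
  refine ⟨a + b, fun t ht => ha (t - r) ?_, fun t ht => hb (t - s) ?_⟩
  · rw [sub_smul, ← ht, ← hr]; abel
  · rw [sub_smul, ← ht, ← hs]; abel

theorem det_pair_ne {v w : Fin 2 → K} (hw : w ≠ 0) (h : ∀ t : K, v ≠ t • w) :
    ((Matrix.of ![v, w])ᵀ).det ≠ 0 := by
  intro h0
  obtain ⟨x, hx0, hx⟩ := Matrix.exists_mulVec_eq_zero_iff.2 h0
  have hx' : x 0 • v + x 1 • w = 0 := by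
    rw [← hx]; funext i
    simp [Matrix.mulVec, dotProduct, Fin.sum_univ_two, mul_comm]
  rcases eq_or_ne (x 0) 0 with hz | hz
  · rw [hz, zero_smul, zero_add, smul_eq_zero] at hx'
    exact hx0 (funext fun i => by fin_cases i <;> simp [hz, hx'.resolve_right hw])
  · refine h (-((x 0)⁻¹ * x 1)) ?_
    rw [← inv_smul_smul₀ hz v, eq_neg_of_add_eq_zero_left hx']
    module

theorem exists_dot_eq {u : Fin n → K} (hu : u ≠ 0) (t : K) : ∃ φ : Fin n → K, φ ⬝ᵥ u = t := by
  obtain ⟨i, hi⟩ := Function.ne_iff.1 hu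
  exact ⟨(t / u i) • Pi.single i 1, by simp [smul_dotProduct, div_mul_cancel₀ t hi]⟩

/-- Prescribed values on two independent vectors. -/
theorem exists_dot_two {c u : Fin n → K} (hc : c ≠ 0) (hu : ∀ t : K, u ≠ t • c) (t : K) :
    ∃ η : Fin n → K, η ⬝ᵥ c = 0 ∧ η ⬝ᵥ u = t := by
  obtain ⟨f, hf, hfu⟩ := exists_covector hc hu
  obtain ⟨g, hg⟩ := exists_dot_eq (u := u - (f ⬝ᵥ u) • c)
    (sub_ne_zero.2 fun h => hu _ h) t
  refine ⟨g - (g ⬝ᵥ c) • f, ?_, ?_⟩
  · rw [sub_dotProduct, smul_dotProduct, hf, smul_eq_mul, mul_one, sub_self]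
  · rw [← hg, sub_dotProduct, smul_dotProduct, dotProduct_sub, dotProduct_smul]
    simp only [smul_eq_mul]
    ring

/-- A nonzero vector orthogonal to two given ones. -/
theorem exists_orth_two {m : ℕ} (c u : Fin (m + 3) → K) :
    ∃ ξ : Fin (m + 3) → K, ξ ⬝ᵥ c = 0 ∧ ξ ⬝ᵥ u = 0 ∧ ξ ≠ 0 := by
  let φ : (Fin (m + 3) → K) →ₗ[K] K × K :=
    { toFun := fun x => (x ⬝ᵥ c, x ⬝ᵥ u)
      map_add' := fun x y => by simp
      map_smul' := fun r x => by simp }
  obtain ⟨ξ, hξ, hξ0⟩ := Submodule.exists_mem_ne_zero_of_ne_bot (LinearMap.ker_ne_bot_of_finrank_lt (f := φ)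
    (by rw [Module.finrank_prod, Module.finrank_self, Module.finrank_fin_fun]; omega))
  have h := LinearMap.mem_ker.1 hξ
  exact ⟨ξ, congrArg Prod.fst h, congrArg Prod.snd h, hξ0⟩

/-- Cyclic vectors of the transpose of a regular unipotent matrix. -/
theorem cycAt_transpose {k : ℕ} {R : Matrix (Fin (k + 1)) (Fin (k + 1)) K} {e v : Fin (k + 1) → K}
    (hR : SplitAt R (fun _ => 1) e) (hev : e ⬝ᵥ v ≠ 0) : CycAt Rᵀ v := by
  classical
  have hev0 : e ≠ 0 := fun h => hev (by rw [h, zero_dotProduct])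
  have hcyc : Cyc R := cyc_of_isCyc (hR.cycAt fun i j l _ _ _ => rfl)
  have hch : R.charpoly = (X - C 1) ^ (k + 1) := by
    obtain ⟨P, P', h1, h2, -, hl, hd, -⟩ := hR
    rw [← charpoly_conj (T := P') (T' := P) (H := R) h1, charpoly_of_upperTriangular _ (fun i j hij => hl i j hij)]
    simp [hd]
  have hnil : (R - 1) ^ (k + 1) = 0 := by
    have := Matrix.aeval_self_charpoly R
    rw [hch, map_pow, map_sub, aeval_X, C_1, map_one] at this
    exact this
  have key : ∀ z : Fin (k + 1) → K, (∀ j : ℕ, (R ^ j *ᵥ z) ⬝ᵥ v = 0) → z = 0 := by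
    intro z hz
    by_contra hz0
    have hex : ∃ j, (R - 1) ^ j *ᵥ z = 0 := ⟨k + 1, by rw [hnil, zero_mulVec]⟩
    obtain ⟨j, hj⟩ : ∃ j, Nat.find hex = j + 1 := by
      refine Nat.exists_eq_add_one.2 (Nat.pos_of_ne_zero fun h => hz0 ?_)
      have := Nat.find_spec hex
      rwa [h, pow_zero, one_mulVec] at this
    set w := (R - 1) ^ j *ᵥ z with hwdef
    have hw0 : w ≠ 0 := Nat.find_min hex (by omega)
    have hw1 : R *ᵥ w = (1 : K) • w := by
      have := Nat.find_spec hex
      rw [hj, pow_succ', ← mulVec_mulVec, ← hwdef, sub_mulVec, one_mulVec, sub_eq_zero] at this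
      rw [one_smul, this]
    have hwv : w ⬝ᵥ v = 0 := by
      have : ∀ (p : K[X]), (aeval R p *ᵥ z) ⬝ᵥ v = 0 := by
        intro p
        induction p using Polynomial.induction_on' with
        | add p q hp hq => rw [map_add, add_mulVec, add_dotProduct, hp, hq, add_zero]
        | monomial i a =>
          rw [aeval_monomial, ← Algebra.smul_def, smul_mulVec, smul_dotProduct, hz i, smul_zero]
      have h := this ((X - 1) ^ j)
      rwa [map_pow, map_sub, aeval_X, map_one] at h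
    obtain ⟨t, ht⟩ := eigen_unique hcyc (by simpa using hR.mulVec_e) hev0 hw1
    rw [ht, smul_dotProduct, smul_eq_mul, mul_eq_zero] at hwv
    rcases hwv with h | h
    · exact hw0 (by rw [ht, h, zero_smul])
    · exact hev h
  rw [cycAt_iff]
  intro z hz
  refine key z fun j => ?_
  have hall : ∀ p : K[X], p.natDegree < k + 1 → (aeval R p *ᵥ z) ⬝ᵥ v = 0 := by
    intro p hp
    rw [aeval_eq_sum_range' hp, Matrix.sum_mulVec, sum_dotProduct]
    refine Finset.sum_eq_zero fun i hi => ?_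
    rw [Finset.mem_range] at hi
    rw [smul_mulVec, smul_dotProduct, ← vecMul_transpose, transpose_pow, ← dotProduct_mulVec, hz ⟨i, hi⟩,
      smul_zero]
  have hm : aeval R (X ^ j %ₘ R.charpoly) = R ^ j := by
    rw [aeval_modByMonic_eq_self_of_root (Matrix.aeval_self_charpoly R), map_pow, aeval_X]
  rw [← hm]
  refine hall _ ?_
  have := natDegree_modByMonic_lt (X ^ j) (charpoly_monic R) (fun h => by
    have := congrArg natDegree h
    rw [charpoly_natDegree_eq_dim] at this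
    simp at this)
  rwa [charpoly_natDegree_eq_dim, Fintype.card_fin] at this

variable [Fintype K]

/-- The core lemma. -/
theorem exists_core (h4 : 4 ≤ Fintype.card K) {k : ℕ} {N : Matrix (Fin (k + 1)) (Fin (k + 1)) K}
    (hN : N.det ≠ 0) {c : Fin (k + 1) → K} (hc : c ≠ 0) {f : K[X]} (hf : f.Monic)
    (hfd : f.natDegree = k + 1) (hirr : Irreducible f) (hf0 : f.coeff 0 ≠ 0) :
    ∃ G : Matrix (Fin (k + 1)) (Fin (k + 1)) K, G.charpoly = f ∧ CycAt (G⁻¹ * N) (G⁻¹ *ᵥ c) := by
  classical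
  have hdetG : ∀ G : Matrix (Fin (k + 1)) (Fin (k + 1)) K, G.charpoly = f → G.det ≠ 0 := fun G hG => by
    rw [det_of_charpoly hG]; exact mul_ne_zero (pow_ne_zero _ (neg_ne_zero.2 one_ne_zero)) hf0
  have uN : IsUnit N.det := isUnit_iff_ne_zero.2 hN
  set u := N⁻¹ *ᵥ c with hu
  have hNu : N *ᵥ u = c := by rw [hu, mulVec_mulVec, Matrix.mul_nonsing_inv N uN, one_mulVec]
  by_cases hscal : ∃ (ν : K) (φ : Fin (k + 1) → K), N = ν • 1 + vecMulVec c φ ∧ ν ≠ 0
  · obtain ⟨ν, φ, hNe, hν⟩ := hscal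
    obtain ⟨G, hG⟩ := exists_mat_charpoly hf hfd
    refine ⟨G, hG, cycAt_of_rank_one_update (φ := -φ) ?_⟩
    rw [hNe, Matrix.mul_add, Matrix.mul_smul, Matrix.mul_one, mul_vecMulVec, vecMulVec_neg, add_neg_cancel_right]
    exact cycAt_smul (cycAt_inv (hdetG G hG) (cycAt_of_irreducible (by rw [hG]; exact hirr) hc)) hν
  push Not at hscal
  rcases k with _ | _ | k
  · exfalso
    refine hN ?_
    have h1 : N = N 0 0 • 1 + vecMulVec c 0 := by
      ext i j; rw [Fin.fin_one_eq_zero i, Fin.fin_one_eq_zero j]; simp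
    rw [det_fin_one, hscal _ _ h1]
  · obtain ⟨w, hw1, hw2⟩ := exists_avoid_two (v := c) (w := u)
    set Q : Matrix (Fin 2) (Fin 2) K := (Matrix.of ![w, c])ᵀ with hQ
    have hQd : Q.det ≠ 0 := det_pair_ne hc hw1
    set C₂ : Matrix (Fin 2) (Fin 2) K := !![0, -f.coeff 0; 1, -f.coeff 1]
    have hC : C₂.charpoly = f := by
      refine eq_of_coeffs hf hfd ?_
      funext i
      fin_cases i <;> simp [LevCover.coeffs, C₂, Matrix.charpoly_fin_two, trace_fin_two, det_fin_two]
    have uQ : IsUnit Q.det := isUnit_iff_ne_zero.2 hQd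
    set G := Q * C₂ * Q⁻¹ with hGdef
    have hG : G.charpoly = f := by rw [hGdef, charpoly_conj (Matrix.nonsing_inv_mul Q uQ), hC]
    have hGw : G *ᵥ w = c := by
      have e1 : Q *ᵥ ![1, 0] = w := by
        funext i; simp [hQ, Matrix.mulVec, dotProduct, Fin.sum_univ_two]
      have e2 : Q⁻¹ *ᵥ w = ![1, 0] := by
        rw [← e1, mulVec_mulVec, Matrix.nonsing_inv_mul Q uQ, one_mulVec]
      rw [hGdef, ← mulVec_mulVec, e2, ← mulVec_mulVec]
      funext i; simp [hQ, C₂, Matrix.mulVec, dotProduct, Fin.sum_univ_two]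
    have uG : IsUnit G.det := isUnit_iff_ne_zero.2 (hdetG G hG)
    have hGc : G⁻¹ *ᵥ c = w := by rw [← hGw, mulVec_mulVec, Matrix.nonsing_inv_mul G uG, one_mulVec]
    refine ⟨G, hG, cycAt_iff.2 fun z hz => ?_⟩
    have h0 := hz 0
    have h1 := hz 1
    simp only [Fin.val_zero, pow_zero, one_mulVec, Fin.val_one, pow_one, hGc, ← mulVec_mulVec] at h0 h1
    have hw0 : w ≠ 0 := fun h => hw1 0 (by rw [h, zero_smul])
    refine Matrix.eq_zero_of_vecMul_eq_zero (M := (Matrix.of ![G⁻¹ *ᵥ (N *ᵥ w), w])ᵀ)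
      (det_pair_ne hw0 fun t ht => hw2 t ?_) ?_
    · have := congrArg (fun x => N⁻¹ *ᵥ (G *ᵥ x)) ht
      simp only [mulVec_smul, hGw, ← hu] at this
      rw [mulVec_mulVec _ G, Matrix.mul_nonsing_inv G uG, one_mulVec, mulVec_mulVec,
        Matrix.nonsing_inv_mul N uN, one_mulVec] at this
      exact this
    · funext i
      fin_cases i
      · simpa [Matrix.vecMul, dotProduct, Fin.sum_univ_two] using h1
      · simpa [Matrix.vecMul, dotProduct, Fin.sum_univ_two] using h0
  · -- dimension at least three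
    set D := (-1) ^ (k + 1 + 1 + 1) * f.coeff 0 with hD
    have hD0 : D ≠ 0 := mul_ne_zero (pow_ne_zero _ (neg_ne_zero.2 one_ne_zero)) hf0
    set θ := D / N.det with hθ
    have hθ0 : θ ≠ 0 := div_ne_zero hD0 hN
    -- the data: `e` and `η`, with `e`, `η`, `η N'` independent
    suffices H : ∃ e η : Fin (k + 1 + 1 + 1) → K, e ⬝ᵥ c = 1 ∧ η ⬝ᵥ u = θ ∧ (∀ t : K, η ≠ t • e) ∧
        ∀ s t : K, η ᵥ* N + (η ⬝ᵥ c) • (η - e ᵥ* N) ≠ s • η + t • e by
      obtain ⟨e, η, hec, hηu, hne, hne2⟩ := H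
      set φ := η - e ᵥ* N with hφ
      set N' := N + vecMulVec c φ with hN'
      have hφu : φ ⬝ᵥ u = θ - 1 := by rw [hφ, sub_dotProduct, ← dotProduct_mulVec, hNu, hec, hηu]
      have hN'd : N'.det = D := by
        have e1 : N' = N * (1 + replicateCol Unit u * replicateRow Unit φ) := by
          rw [Matrix.mul_add, Matrix.mul_one, ← vecMulVec_eq, mul_vecMulVec, hNu]
        rw [e1, det_mul, det_one_add_replicateCol_mul_replicateRow, hφu]
        field_simp
        rw [add_sub_cancel, hθ, mul_div_cancel₀ _ hN]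
      have hN'0 : N'.det ≠ 0 := by rw [hN'd]; exact hD0
      have heN : e ᵥ* N' = η := by
        rw [hN', vecMul_add, vecMul_vecMulVec, hec, one_smul, hφ]; abel
      have hηN : η ᵥ* N' = η ᵥ* N + (η ⬝ᵥ c) • φ := by rw [hN', vecMul_add, vecMul_vecMulVec]
      have uN' : IsUnit N'.det := isUnit_iff_ne_zero.2 hN'0
      have hback : ∀ x, (x ᵥ* N') ᵥ* N'⁻¹ = x := fun x => by
        rw [vecMul_vecMul, Matrix.mul_nonsing_inv N' uN', vecMul_one]
      have he1 : ∀ t : K, N'ᵀ *ᵥ η ≠ t • η := by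
        intro t ht
        rw [mulVec_transpose] at ht
        refine hne t ?_
        have := congrArg (· ᵥ* N'⁻¹) ht
        simp only [hback, smul_vecMul] at this
        rw [this, ← heN, hback]
      have he2 : ∀ s t : K, N'ᵀ *ᵥ (N'ᵀ *ᵥ η) ≠ s • (N'ᵀ *ᵥ η) + t • η := by
        intro s t hst
        simp only [mulVec_transpose] at hst
        refine hne2 s t ?_
        have h2 := congrArg (· ᵥ* N'⁻¹) hst
        simp only [hback, add_vecMul, smul_vecMul] at h2
        rw [show η ᵥ* N'⁻¹ = e by rw [← heN, hback]] at h2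
        rw [← hηN]
        exact h2
      obtain ⟨R, H, hRH, hH, -, hR⟩ := exists_split_nonquad h4 (A := N'ᵀ) (β := fun _ => 1)
        (by rw [det_transpose]; exact hN'0) he1 he2 (fun _ => one_ne_zero) hf hfd
        (by rw [det_transpose, hN'd, Finset.prod_const_one, mul_one])
      refine ⟨Hᵀ, by rw [charpoly_transpose, hH], ?_⟩
      have uH : IsUnit Hᵀ.det := isUnit_iff_ne_zero.2 (hdetG _ (by rw [charpoly_transpose, hH]))
      have hN'e : N' = Hᵀ * Rᵀ := by rw [← transpose_mul, ← hRH, transpose_transpose]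
      have h1 : Hᵀ⁻¹ * N' = Rᵀ := by
        rw [hN'e, ← Matrix.mul_assoc, Matrix.nonsing_inv_mul _ uH, Matrix.one_mul]
      refine cycAt_of_rank_one_update (φ := φ) ?_
      rw [← mul_vecMulVec, ← Matrix.mul_add, ← hN', h1]
      refine cycAt_transpose hR ?_
      have hRe : η ᵥ* Rᵀ = η := by rw [vecMul_transpose, hR.mulVec_e, one_smul]
      have hinv : Hᵀ⁻¹ = Rᵀ * N'⁻¹ := by
        rw [← h1, Matrix.mul_assoc, Matrix.mul_nonsing_inv _ uN', Matrix.mul_one]
      have : η ⬝ᵥ (Hᵀ⁻¹ *ᵥ c) = 1 := by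
        rw [hinv, ← mulVec_mulVec, dotProduct_mulVec η Rᵀ, hRe, dotProduct_mulVec, ← heN, hback, hec]
      rw [this]
      exact one_ne_zero
    by_cases hcu : ∃ μ : K, u = μ • c
    · obtain ⟨μ, hμ⟩ := hcu
      have hμ0 : μ ≠ 0 := fun h => hc (by rw [← hNu, hμ, h, zero_smul, mulVec_zero])
      have hNc : N *ᵥ c = μ⁻¹ • c := by
        conv_rhs => rw [← hNu, hμ, mulVec_smul, smul_smul, inv_mul_cancel₀ hμ0, one_smul]
      obtain ⟨e, he⟩ := exists_dot_eq hc 1
      obtain ⟨η₀, hη₀c, hη₀⟩ : ∃ η₀ : Fin (k + 1 + 1 + 1) → K, η₀ ⬝ᵥ c = 0 ∧ ∀ t : K, η₀ ᵥ* N ≠ t • η₀ := by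
        by_contra hall
        push Not at hall
        obtain ⟨x₀, hx₀c, hx₀⟩ := exists_orth_two c c
        obtain ⟨ν, hν⟩ := hall x₀ hx₀c
        have hall' : ∀ y : Fin (k + 1 + 1 + 1) → K, y ⬝ᵥ c = 0 → y ᵥ* N = ν • y := by
          intro y hy
          obtain ⟨t, ht⟩ := hall y hy
          obtain ⟨t', ht'⟩ := hall (x₀ + y) (by rw [add_dotProduct, hx₀c, hy, add_zero])
          rw [add_vecMul, hν, ht, smul_add] at ht'
          have h2 : (t - t') • y = (t' - ν) • x₀ := by linear_combination (norm := module) ht'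
          rcases eq_or_ne t t' with h | h
          · rw [h, sub_self, zero_smul] at h2
            rw [ht, h, sub_eq_zero.1 ((smul_eq_zero.1 h2.symm).resolve_right hx₀.2)]
          · rw [← inv_smul_smul₀ (sub_ne_zero.2 h) y, h2, smul_smul, smul_vecMul, hν, smul_comm]
        have hν0 : ν ≠ 0 := fun h => hx₀.2 (Matrix.eq_zero_of_vecMul_eq_zero hN (by rw [hν, h, zero_smul]))
        refine hν0 (hscal ν (e ᵥ* N - ν • e) ?_)
        refine Matrix.ext_iff_vecMul.2 fun x => ?_
        have h1 := hall' (x - (x ⬝ᵥ c) • e)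
          (by rw [sub_dotProduct, smul_dotProduct, he, smul_eq_mul, mul_one, sub_self])
        rw [sub_vecMul, smul_vecMul] at h1
        rw [vecMul_add, vecMul_smul, vecMul_one, vecMul_vecMulVec]
        linear_combination (norm := module) h1
      have heu : e ⬝ᵥ u = μ := by rw [hμ, dotProduct_smul, he, smul_eq_mul, mul_one]
      refine ⟨e, (θ / μ) • e + η₀, he, ?_, ?_, ?_⟩
      · rw [add_dotProduct, smul_dotProduct, heu, hμ, dotProduct_smul, hη₀c, smul_zero, add_zero, smul_eq_mul,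
          div_mul_cancel₀ _ hμ0]
      · intro t ht
        have h1 := congrArg (· ⬝ᵥ c) ht
        simp only [add_dotProduct, smul_dotProduct, he, hη₀c, smul_eq_mul, mul_one, add_zero] at h1
        rw [h1] at ht
        exact hη₀ 0 (by rw [add_eq_left.1 ht, zero_vecMul, smul_zero])
      · intro s t hst
        have hηc : ((θ / μ) • e + η₀) ⬝ᵥ c = θ / μ := by
          rw [add_dotProduct, smul_dotProduct, he, hη₀c, smul_eq_mul, mul_one, add_zero]
        rw [hηc, add_vecMul, smul_vecMul] at hst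
        have h2 : η₀ ᵥ* N = (s - θ / μ) • ((θ / μ) • e + η₀) + t • e := by
          linear_combination (norm := module) hst
        have h3 := congrArg (· ⬝ᵥ c) h2
        simp only [← dotProduct_mulVec, hNc, dotProduct_smul, add_dotProduct, smul_dotProduct, he, hη₀c,
          smul_zero, smul_eq_mul, mul_one, add_zero] at h3
        refine hη₀ (s - θ / μ) ?_
        rw [h2, show t = -((s - θ / μ) * (θ / μ)) from eq_neg_of_add_eq_zero_right (h3.symm.trans (mul_zero _))]
        module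
    · push Not at hcu
      obtain ⟨η, hηc, hηu⟩ := exists_dot_two hc hcu θ
      obtain ⟨ξ, hξc, hξu, hξ0⟩ := exists_orth_two c u
      obtain ⟨e, he⟩ := exists_dot_eq hc 1
      have hne : ∀ (e : Fin (k + 1 + 1 + 1) → K), e ⬝ᵥ c = 1 → ∀ t : K, η ≠ t • e := by
        intro e he t ht
        have h1 := congrArg (· ⬝ᵥ c) ht
        rw [hηc] at h1
        simp only [smul_dotProduct, he, smul_eq_mul, mul_one] at h1
        rw [ht, ← h1, zero_smul, zero_dotProduct] at hηu
        exact hθ0 hηu.symm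
      by_cases h : ∀ s t : K, η ᵥ* N ≠ s • η + t • e
      · exact ⟨e, η, he, hηu, hne e he, fun s t => by rw [hηc, zero_smul, add_zero]; exact h s t⟩
      push Not at h
      obtain ⟨b, a, hab⟩ := h
      have he' : (e + ξ) ⬝ᵥ c = 1 := by rw [add_dotProduct, he, hξc, add_zero]
      refine ⟨e + ξ, η, he', hηu, hne _ he', fun s t hst => ?_⟩
      rw [hηc, zero_smul, add_zero, hab] at hst
      have hta : a = t := by
        have h1 := congrArg (· ⬝ᵥ c) hst
        simpa [add_dotProduct, smul_dotProduct, hηc, he, hξc] using h1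
      subst hta
      have h2 : (b - s) • η = a • ξ := by linear_combination (norm := module) hst
      have hbs : b - s = 0 := by
        have h1 := congrArg (· ⬝ᵥ u) h2
        simp only [smul_dotProduct, hηu, hξu, smul_eq_mul, mul_zero] at h1
        exact (mul_eq_zero.1 h1).resolve_right hθ0
      rw [hbs, zero_smul] at h2
      have ha : a = 0 := (smul_eq_zero.1 h2.symm).resolve_right hξ0
      rw [ha, zero_smul, add_zero] at hab
      have h1 := congrArg (· ⬝ᵥ u) hab
      simp only [← dotProduct_mulVec, hNu, hηc, smul_dotProduct, hηu, smul_eq_mul] at h1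
      rw [(mul_eq_zero.1 h1.symm).resolve_right hθ0, zero_smul] at hab
      refine hne e he 0 ?_
      rw [zero_smul]
      exact Matrix.eq_zero_of_vecMul_eq_zero hN hab

end CfsgLib.OreSU
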