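import Cfsg.Agent.OreSU.Prep

/-!
# The commutator criterion

If the Levi part of `g` is a product of a conjugate of `z` and a conjugate of `z⁻¹`, both fixing no
non-trivial radical element, then `g` is a commutator.
-/

set_option autoImplicit false
set_option linter.unusedSectionVars false
set_option linter.unusedSimpArgs false

namespace CfsgLib.OreSU

open Matrix Polynomial

variable {F : Type*} [Field F] [StarRing F] {ι κ : Type*} [Fintype ι] [DecidableEq ι] [Fintype κ]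
  [DecidableEq κ]

/-- A commutator of two elements of determinant one. -/
def IsComm (g : gu F ι κ) : Prop :=
  ∃ a b : gu F ι κ, dt F ι κ a = 1 ∧ dt F ι κ b = 1 ∧ g = a * b * a⁻¹ * b⁻¹

theorem IsComm.conj {g : gu F ι κ} (h : IsComm g) (x : gu F ι κ) : IsComm (x * g * x⁻¹) := by
  obtain ⟨a, b, ha, hb, rfl⟩ := h
  exact ⟨x * a * x⁻¹, x * b * x⁻¹, by rw [dt_conj, ha], by rw [dt_conj, hb], by group⟩

theorem IsComm.inv {g : gu F ι κ} (h : IsComm g) : IsComm g⁻¹ := by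
  obtain ⟨a, b, ha, hb, rfl⟩ := h
  exact ⟨b, a, hb, ha, by group⟩

theorem IsComm.flip {g : gu F ι κ} (h : IsComm g) : IsComm (flip g) := by
  have := h.inv.conj wl
  rwa [wl_inv] at this

theorem Equiv'.isComm {g h : gu F ι κ} (e : Equiv' g h) (hh : IsComm h) : IsComm g := by
  induction e with
  | refl => exact hh
  | @conj h' a _ ih =>
    refine ih ?_
    have := hh.conj a⁻¹
    simpa [mul_assoc] using this
  | @flip h' _ ih =>
    refine ih ?_
    have := hh.flip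
    rwa [flip_flip] at this

/-- `A` and its adjoint inverse fix no non-trivial radical element. -/
structure Good (κ : Type*) (A : (Matrix ι ι F)ˣ) (μ : F) : Prop where
  low : ∀ X : Matrix ι ι F, (A : Matrix ι ι F)ᴴ * X * (A : Matrix ι ι F) = X → X = 0
  high : ∀ X : Matrix ι ι F, (A : Matrix ι ι F) * X * (A : Matrix ι ι F)ᴴ = X → X = 0
  left : ∀ v : Matrix κ ι F, v * (A : Matrix ι ι F) = μ • v → v = 0
  right : ∀ v : Matrix κ ι F, v * (↑A⁻¹ : Matrix ι ι F)ᴴ = μ • v → v = 0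

theorem lo_mul {v v' : Matrix κ ι F} {X X' : Matrix ι ι F} (h : Rad v X) (h' : Rad v' X') :
    ∃ hr : Rad (v + v') (X + X' - vᴴ * v'),
      lo v X h * lo v' X' h' = lo (v + v') (X + X' - vᴴ * v') hr := by
  have hm : mat (lo v X h * lo v' X' h') = b3 1 0 0 (v + v') 1 0 (X + X' - vᴴ * v') (-(v + v')ᴴ) 1 := by
    show mat (lo v X h) * mat (lo v' X' h') = _
    rw [mat_lo, mat_lo, b3_mul, b3_inj]
    simp [sub_eq_add_neg]
    constructor <;> abel
  have hr : Rad (v + v') (X + X' - vᴴ * v') := by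
    have h1 : X + Xᴴ + vᴴ * v = 0 := h
    have h2 : X' + X'ᴴ + v'ᴴ * v' = 0 := h'
    show X + X' - vᴴ * v' + (X + X' - vᴴ * v')ᴴ + (v + v')ᴴ * (v + v') = 0
    rw [conjTranspose_sub, conjTranspose_add, conjTranspose_add, conjTranspose_mul,
      conjTranspose_conjTranspose, Matrix.add_mul, Matrix.mul_add, Matrix.mul_add]
    calc _ = (X + Xᴴ + vᴴ * v) + (X' + X'ᴴ + v'ᴴ * v') := by abel
      _ = 0 := by rw [h1, h2, add_zero]
  exact ⟨hr, gu_ext hm⟩

theorem dg_conj_lo {A : (Matrix ι ι F)ˣ} {μ : F} (hμ : μ * star μ = 1) {v : Matrix κ ι F}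
    {X : Matrix ι ι F} (h : Rad v X) :
    ∃ hr : Rad (μ • (v * (↑A⁻¹ : Matrix ι ι F))) ((↑A⁻¹ : Matrix ι ι F)ᴴ * X * (↑A⁻¹ : Matrix ι ι F)),
      dg A μ hμ * lo v X h * (dg A μ hμ)⁻¹ = lo _ _ hr := by
  have hm : mat (dg A μ hμ * lo v X h * (dg A μ hμ)⁻¹) =
      b3 1 0 0 (μ • (v * (↑A⁻¹ : Matrix ι ι F))) 1 0
        ((↑A⁻¹ : Matrix ι ι F)ᴴ * X * (↑A⁻¹ : Matrix ι ι F))
        (-(μ • (v * (↑A⁻¹ : Matrix ι ι F)))ᴴ) 1 := by
    show b3 (A : Matrix ι ι F) 0 0 0 (μ • 1) 0 0 0 (↑A⁻¹ : Matrix ι ι F)ᴴ * b3 1 0 0 v 1 0 X (-vᴴ) 1 *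
      b3 (↑A⁻¹ : Matrix ι ι F) 0 0 0 (star μ • 1) 0 0 0 (A : Matrix ι ι F)ᴴ = _
    rw [b3_mul, b3_mul, b3_inj]
    simp [smul_smul, hμ, mul_comm (star μ), Matrix.mul_assoc, ← conjTranspose_mul]
  refine ⟨?_, gu_ext hm⟩
  have h1 : X + Xᴴ + vᴴ * v = 0 := h
  show _ + _ + _ = (0 : Matrix ι ι F)
  rw [conjTranspose_mul, conjTranspose_mul, conjTranspose_conjTranspose, conjTranspose_smul,
    conjTranspose_mul, Matrix.smul_mul, Matrix.mul_smul, smul_smul, mul_comm (star μ) μ, hμ, one_smul]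
  calc _ = (↑A⁻¹ : Matrix ι ι F)ᴴ * (X + Xᴴ + vᴴ * v) * (↑A⁻¹ : Matrix ι ι F) := by
        simp only [Matrix.mul_add, Matrix.add_mul, Matrix.mul_assoc]
    _ = 0 := by rw [h1, Matrix.mul_zero, Matrix.zero_mul]

section Finite

variable [Fintype F]

theorem conj_surj {A : (Matrix ι ι F)ˣ} {μ : F} (hμ : μ * star μ = 1)
    (hlow : ∀ X : Matrix ι ι F, (A : Matrix ι ι F)ᴴ * X * (A : Matrix ι ι F) = X → X = 0)
    (hleft : ∀ v : Matrix κ ι F, v * (A : Matrix ι ι F) = μ • v → v = 0)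
    {v : Matrix κ ι F} {X : Matrix ι ι F} (h : Rad v X) :
    ∃ k : gu F ι κ, lo v X h * dg A μ hμ = k * dg A μ hμ * k⁻¹ := by
  classical
  let L := {g : gu F ι κ // ∃ (w : Matrix κ ι F) (Y : Matrix ι ι F) (hY : Rad w Y), g = lo w Y hY}
  haveI : Finite L := Subtype.finite
  set D : gu F ι κ := dg A μ hμ
  have hmul : ∀ a b : L, ∃ (w : Matrix κ ι F) (Y : Matrix ι ι F) (hY : Rad w Y),
      a.1 * b.1 = lo w Y hY := by
    rintro ⟨a, w, Y, hY, rfl⟩ ⟨b, w', Y', hY', rfl⟩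
    obtain ⟨hr, he⟩ := lo_mul hY hY'
    exact ⟨_, _, hr, he⟩
  have hinv : ∀ a : L, ∃ (w : Matrix κ ι F) (Y : Matrix ι ι F) (hY : Rad w Y), a.1⁻¹ = lo w Y hY := by
    rintro ⟨a, w, Y, hY, rfl⟩
    exact ⟨_, _, hY.inv, lo_inv w Y hY⟩
  have hconj : ∀ a : L, ∃ (w : Matrix κ ι F) (Y : Matrix ι ι F) (hY : Rad w Y),
      D * a.1 * D⁻¹ = lo w Y hY := by
    rintro ⟨a, w, Y, hY, rfl⟩
    obtain ⟨hr, he⟩ := dg_conj_lo (A := A) hμ hY
    exact ⟨_, _, hr, he⟩
  let Φ : L → L := fun a => ⟨a.1 * (D * a.1⁻¹ * D⁻¹), hmul a ⟨_, hconj ⟨_, hinv a⟩⟩⟩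
  have hinj : Function.Injective Φ := by
    intro a b hab
    have h1 : a.1 * (D * a.1⁻¹ * D⁻¹) = b.1 * (D * b.1⁻¹ * D⁻¹) := congrArg Subtype.val hab
    obtain ⟨w, Y, hY, hk⟩ := hmul ⟨_, hinv b⟩ a
    have h2 : D * (b.1⁻¹ * a.1) * D⁻¹ = b.1⁻¹ * a.1 := by
      have h3 : a.1 * D * a.1⁻¹ = b.1 * D * b.1⁻¹ := by
        have := congrArg (· * D) h1
        simpa [mul_assoc] using this
      calc D * (b.1⁻¹ * a.1) * D⁻¹ = b.1⁻¹ * (b.1 * D * b.1⁻¹) * a.1 * D⁻¹ := by group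
        _ = b.1⁻¹ * (a.1 * D * a.1⁻¹) * a.1 * D⁻¹ := by rw [h3]
        _ = _ := by group
    obtain ⟨hr, he⟩ := dg_conj_lo (A := A) hμ hY
    simp only at hk
    rw [hk, he] at h2
    have h4 := blocks_of_eq (g := lo w Y hY) (mat_lo w Y hY)
    have h5 := blocks_of_eq (g := lo w Y hY) (by rw [← h2]; exact mat_lo _ _ hr)
    have hw : w = 0 := hleft w (by
      have e := h4.2.2.2.1.symm.trans h5.2.2.2.1
      conv_lhs => rw [e]
      rw [Matrix.smul_mul, Matrix.mul_assoc, Units.inv_mul, Matrix.mul_one])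
    have hY0 : Y = 0 := hlow Y (by
      have e := h4.2.2.2.2.symm.trans h5.2.2.2.2
      conv_lhs => rw [e]
      rw [show (A : Matrix ι ι F)ᴴ * ((↑A⁻¹ : Matrix ι ι F)ᴴ * Y * (↑A⁻¹ : Matrix ι ι F)) * (A : Matrix ι ι F) =
        ((A : Matrix ι ι F)ᴴ * (↑A⁻¹ : Matrix ι ι F)ᴴ) * Y * ((↑A⁻¹ : Matrix ι ι F) * (A : Matrix ι ι F)) by
          simp only [Matrix.mul_assoc],
        ← conjTranspose_mul, Units.inv_mul, conjTranspose_one, Matrix.one_mul, Matrix.mul_one])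
    have h6 : b.1⁻¹ * a.1 = 1 := by
      rw [hk]
      refine gu_ext ?_
      subst hw hY0
      show b3 1 0 0 0 1 0 0 (-(0 : Matrix κ ι F)ᴴ) 1 = (1 : Matrix (ι ⊕ κ ⊕ ι) (ι ⊕ κ ⊕ ι) F)
      rw [conjTranspose_zero, neg_zero, b3_one]
    exact Subtype.ext (eq_of_inv_mul_eq_one h6).symm
  obtain ⟨⟨k, hk⟩, hΦ⟩ := Finite.surjective_of_injective hinj ⟨lo v X h, v, X, h, rfl⟩
  refine ⟨k, ?_⟩
  have hΦ' : k * (D * k⁻¹ * D⁻¹) = lo v X h := congrArg Subtype.val hΦ
  rw [← hΦ']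
  group

theorem conj_surj_up {A : (Matrix ι ι F)ˣ} {μ : F} (hμ : μ * star μ = 1) (hA : Good κ A μ)
    {v : Matrix κ ι F} {X : Matrix ι ι F} (h : Rad v X) :
    ∃ k : gu F ι κ, dg A μ hμ * up v X h = k * dg A μ hμ * k⁻¹ := by
  set B : (Matrix ι ι F)ˣ := ⟨(↑A⁻¹ : Matrix ι ι F)ᴴ, (A : Matrix ι ι F)ᴴ, by rw [← conjTranspose_mul,
    Units.mul_inv, conjTranspose_one], by rw [← conjTranspose_mul, Units.inv_mul, conjTranspose_one]⟩ with hB
  have hlow : ∀ Y : Matrix ι ι F, (B : Matrix ι ι F)ᴴ * Y * (B : Matrix ι ι F) = Y → Y = 0 := by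
    intro Y hY
    simp only [hB, conjTranspose_conjTranspose] at hY
    refine hA.high Y ?_
    conv_lhs => rw [← hY]
    rw [show (A : Matrix ι ι F) * ((↑A⁻¹ : Matrix ι ι F) * Y * (↑A⁻¹ : Matrix ι ι F)ᴴ) * (A : Matrix ι ι F)ᴴ =
      ((A : Matrix ι ι F) * (↑A⁻¹ : Matrix ι ι F)) * Y *
        ((↑A⁻¹ : Matrix ι ι F)ᴴ * (A : Matrix ι ι F)ᴴ) by simp only [Matrix.mul_assoc],
      Units.mul_inv, ← conjTranspose_mul, Units.mul_inv, conjTranspose_one, Matrix.one_mul, Matrix.mul_one]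
  obtain ⟨k, hk⟩ := conj_surj (A := B) hμ hlow hA.right h
  have hw : (wl : gu F ι κ) * wl = 1 := mul_eq_one_iff_eq_inv.2 wl_inv.symm
  have hD : (dg B μ hμ : gu F ι κ) = wl * dg A μ hμ * wl := (wl_dg A μ hμ).symm
  refine ⟨wl * (lo v X h)⁻¹ * k * wl, ?_⟩
  rw [hD] at hk
  have h2 : dg A μ hμ * up v X h = wl * (lo v X h)⁻¹ * (lo v X h * (wl * dg A μ hμ * wl)) * lo v X h * wl := by
    rw [up]
    simp only [mul_assoc, inv_mul_cancel_left]
    simp only [← mul_assoc, hw, one_mul]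
  rw [h2, hk, _root_.mul_inv_rev, _root_.mul_inv_rev, _root_.mul_inv_rev, wl_inv, inv_inv]
  simp only [mul_assoc]

/-- The criterion. -/
theorem isComm_of_levi {v w : Matrix κ ι F} {X Y : Matrix ι ι F} (hX : Rad v X) (hY : Rad w Y)
    {A R H : (Matrix ι ι F)ˣ} {μ : F} (hμ : μ * star μ = 1) (hA : A = R * H)
    (hR : Good κ R μ) (hH : Good κ H (star μ)) (hμ' : star μ * star (star μ) = 1)
    {z a₁ a₂ : gu F ι κ} (hz : dt F ι κ z = 1)
    (hc : ∀ d : F, star d * d = 1 → ∃ c : gu F ι κ, c * z = z * c ∧ dt F ι κ c = d)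
    (e₁ : dg R μ hμ = a₁ * z * a₁⁻¹) (e₂ : dg H (star μ) hμ' = a₂ * z⁻¹ * a₂⁻¹)
    (h1 : (1 : F) * star (1 : F) = 1) :
    IsComm (lo v X hX * dg A 1 h1 * up w Y hY) := by
  obtain ⟨k₁, hk₁⟩ := conj_surj hμ hR.low hR.left hX
  obtain ⟨k₂, hk₂⟩ := conj_surj_up hμ' hH hY
  have hdg : (dg A 1 h1 : gu F ι κ) = dg R μ hμ * dg H (star μ) hμ' := by
    refine gu_ext ?_
    show _ = mat (dg R μ hμ) * mat (dg H (star μ) hμ')
    subst hA
    rw [mat_dg, mat_dg, mat_dg, b3_mul, b3_inj]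
    simp [smul_smul, hμ, mul_comm (star μ), conjTranspose_mul]
  set b₁ := k₁ * a₁
  set b₂ := k₂ * a₂
  set a := b₂⁻¹ * b₁
  have hg : lo v X hX * dg A 1 h1 * up w Y hY = b₂ * (a * z * a⁻¹ * z⁻¹) * b₂⁻¹ := by
    rw [hdg, ← mul_assoc, mul_assoc (lo v X hX * dg R μ hμ), hk₁, hk₂, e₁, e₂]
    simp only [a, b₁, b₂]
    group
  rw [hg]
  refine IsComm.conj ?_ b₂
  have hn := dt_norm a
  obtain ⟨c, hcz, hcd⟩ := hc (star (dt F ι κ a)) (by rw [star_star, mul_comm]; exact hn)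
  refine ⟨a * c, z, by rw [map_mul, hcd, mul_comm]; exact hn, hz, ?_⟩
  have hcz' : c * z * c⁻¹ = z := by rw [hcz, mul_inv_cancel_right]
  calc a * z * a⁻¹ * z⁻¹ = a * (c * z * c⁻¹) * a⁻¹ * z⁻¹ := by rw [hcz']
    _ = _ := by group

end Finite

theorem aeval_inv_reverse (A : (Matrix ι ι F)ˣ) (p : F[X]) :
    aeval (↑A⁻¹ : Matrix ι ι F) p * (A : Matrix ι ι F) ^ p.natDegree = aeval (A : Matrix ι ι F) p.reverse := by
  rw [aeval_eq_sum_range, aeval_eq_sum_range' (n := p.natDegree + 1) (Nat.lt_succ_of_le (reverse_natDegree_le p)),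
    ← Finset.sum_range_reflect (fun i => p.reverse.coeff i • (A : Matrix ι ι F) ^ i), Finset.sum_mul]
  refine Finset.sum_congr rfl fun i hi => ?_
  rw [Finset.mem_range] at hi
  rw [Nat.add_sub_cancel, coeff_reverse, revAt_le (by omega), show p.natDegree - (p.natDegree - i) = i by omega,
    smul_mul_assoc]
  congr 1
  have e : p.natDegree = i + (p.natDegree - i) := by omega
  conv_lhs => rw [e, pow_add, ← mul_assoc, ← (show Commute (↑A⁻¹ : Matrix ι ι F) (A : Matrix ι ι F) from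
    (A.inv_mul).trans A.mul_inv.symm).mul_pow, Units.inv_mul, one_pow, one_mul]

/-- Goodness from a polynomial coprime to its conjugate reverse. -/
theorem good_of_coprime {A : (Matrix ι ι F)ˣ} {μ : F} (hμ : μ * star μ = 1) {f : F[X]}
    (hf : aeval (A : Matrix ι ι F) f = 0) (hμf : f.eval μ ≠ 0)
    (hco : IsCoprime f (f.map (starRingEnd F)).reverse) : Good κ A μ := by
  set p := f.map (starRingEnd F)
  have hu : IsUnit (aeval (↑A⁻¹ : Matrix ι ι F) p) := by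
    obtain ⟨a, b, hab⟩ := hco
    have h1 := congrArg (aeval (A : Matrix ι ι F)) hab
    rw [map_add, map_mul, map_mul, hf, mul_zero, zero_add, map_one, ← aeval_inv_reverse, ← mul_assoc] at h1
    rw [Matrix.mul_assoc] at h1
    have h2 := congrArg Matrix.det h1
    rw [det_mul, det_mul, det_one] at h2
    rw [Matrix.isUnit_iff_isUnit_det, isUnit_iff_ne_zero]
    intro h0
    rw [h0] at h2
    simp at h2
  have hstar : ∀ B : Matrix ι ι F, aeval Bᴴ p = (aeval B f)ᴴ := by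
    intro B
    rw [aeval_eq_sum_range' (n := f.natDegree + 1) (Nat.lt_succ_of_le natDegree_map_le),
      aeval_eq_sum_range, conjTranspose_sum]
    refine Finset.sum_congr rfl fun i _ => ?_
    rw [conjTranspose_smul, conjTranspose_pow, coeff_map, starRingEnd_apply]
  have hsemi : ∀ (q : F[X]) (U V Z : Matrix ι ι F), U * Z = Z * V → aeval U q * Z = Z * aeval V q := by
    intro q U V Z h
    induction q using Polynomial.induction_on' with
    | add a b ha hb => rw [map_add, map_add, Matrix.add_mul, Matrix.mul_add, ha, hb]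
    | monomial n c =>
      have hn : U ^ n * Z = Z * V ^ n := (SemiconjBy.pow_right (show SemiconjBy Z V U from h.symm) n).eq.symm
      rw [aeval_monomial, aeval_monomial, Matrix.mul_assoc, hn, ← Algebra.smul_def, ← Algebra.smul_def,
        Matrix.mul_smul]
  have hleft : ∀ v : Matrix κ ι F, v * (A : Matrix ι ι F) = μ • v → v = 0 := by
    intro v hv
    have h1 : ∀ q : F[X], v * aeval (A : Matrix ι ι F) q = q.eval μ • v := by
      intro q
      induction q using Polynomial.induction_on with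
      | C c => rw [aeval_C, eval_C, Algebra.algebraMap_eq_smul_one, Matrix.mul_smul, Matrix.mul_one]
      | add a b ha hb => rw [map_add, Matrix.mul_add, ha, hb, eval_add, add_smul]
      | monomial n c ih =>
        rw [pow_succ, ← mul_assoc, map_mul, aeval_X, ← Matrix.mul_assoc, ih, Matrix.smul_mul, hv, smul_smul,
          eval_mul, eval_mul, eval_mul, eval_X]
    have := h1 f
    rw [hf, Matrix.mul_zero] at this
    exact (smul_eq_zero.1 this.symm).resolve_left hμf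
  refine ⟨fun X hX => ?_, fun X hX => ?_, hleft, fun v hv => ?_⟩
  · have h1 : (A : Matrix ι ι F)ᴴ * X = X * (↑A⁻¹ : Matrix ι ι F) := by
      conv_rhs => rw [← hX]
      rw [Matrix.mul_assoc _ (A : Matrix ι ι F), Units.mul_inv, Matrix.mul_one]
    have h2 := hsemi p _ _ _ h1
    rw [hstar, hf, conjTranspose_zero, Matrix.zero_mul] at h2
    exact hu.mul_left_eq_zero.1 h2.symm
  · have h1 : (A : Matrix ι ι F) * X = X * (↑A⁻¹ : Matrix ι ι F)ᴴ := by
      conv_rhs => rw [← hX]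
      rw [Matrix.mul_assoc _ (A : Matrix ι ι F)ᴴ, ← conjTranspose_mul, Units.inv_mul, conjTranspose_one,
        Matrix.mul_one]
    have h2 := hsemi f _ _ _ h1
    rw [hf, Matrix.zero_mul] at h2
    have h3 : (aeval (↑A⁻¹ : Matrix ι ι F)ᴴ f)ᴴ = aeval (↑A⁻¹ : Matrix ι ι F) p := by
      rw [← hstar, conjTranspose_conjTranspose]
    have h4 : IsUnit (aeval (↑A⁻¹ : Matrix ι ι F)ᴴ f) := by
      rw [← conjTranspose_conjTranspose (aeval (↑A⁻¹ : Matrix ι ι F)ᴴ f), h3]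
      exact (Matrix.isUnit_conjTranspose (A := _)).2 hu
    exact h4.mul_left_eq_zero.1 h2.symm
  · refine conjTranspose_eq_zero.1 ?_
    have h1 : (↑A⁻¹ : Matrix ι ι F) * vᴴ = star μ • vᴴ := by
      rw [← conjTranspose_smul, ← hv, conjTranspose_mul, conjTranspose_conjTranspose]
    have h2 : (A : Matrix ι ι F) * vᴴ = μ • vᴴ := by
      have h3 := congrArg (fun Z => μ • ((A : Matrix ι ι F) * Z)) h1
      simp only [← Matrix.mul_assoc, Units.mul_inv, Matrix.one_mul, Matrix.mul_smul, smul_smul, hμ,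
        one_smul] at h3
      exact h3.symm
    have h3 : ∀ q : F[X], aeval (A : Matrix ι ι F) q * vᴴ = q.eval μ • vᴴ := by
      intro q
      induction q using Polynomial.induction_on with
      | C c => rw [aeval_C, eval_C, Algebra.algebraMap_eq_smul_one, Matrix.smul_mul, Matrix.one_mul]
      | add a b ha hb => rw [map_add, Matrix.add_mul, ha, hb, eval_add, add_smul]
      | monomial n c ih =>
        rw [pow_succ, ← mul_assoc, map_mul, aeval_X, Matrix.mul_assoc, h2, Matrix.mul_smul, ih, smul_smul,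
          eval_mul, eval_mul, eval_mul, eval_X]
        ring_nf
    have := h3 f
    rw [hf, Matrix.zero_mul] at this
    exact (smul_eq_zero.1 this.symm).resolve_left hμf

end CfsgLib.OreSU
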