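import Cfsg.Agent.OreSU.Model
import Cfsg.Agent.LevCover.Couple

/-!
# Skew Hermitian matrices and vectors avoiding hyperplanes
-/

set_option autoImplicit false
set_option linter.unusedSectionVars false
set_option linter.unusedSimpArgs false

namespace CfsgLib.OreSU

open Matrix

variable {F : Type*} [Field F] [StarRing F] {ι : Type*} [Fintype ι] [DecidableEq ι]

/-- The facts about the involution which are used: it is nontrivial and the field is finite. -/
structure StarData (F : Type*) [Field F] [StarRing F] : Prop where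
  skew : ∃ δ : F, star δ = -δ ∧ δ ≠ 0
  trace : ∃ θ : F, θ + star θ = 1
  norm : ∀ c : F, star c = c → ∃ x, x * star x = c

/-- The sesquilinear form of a matrix. -/
def sq (Y : Matrix ι ι F) (u v : ι → F) : F := star u ⬝ᵥ (Y *ᵥ v)

theorem sq_add_left (Y : Matrix ι ι F) (u u' v : ι → F) : sq Y (u + u') v = sq Y u v + sq Y u' v := by
  simp [sq, add_dotProduct]

theorem sq_add_right (Y : Matrix ι ι F) (u v v' : ι → F) : sq Y u (v + v') = sq Y u v + sq Y u v' := by
  simp [sq, mulVec_add, dotProduct_add]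

theorem sq_smul_left (Y : Matrix ι ι F) (r : F) (u v : ι → F) : sq Y (r • u) v = star r * sq Y u v := by
  simp [sq, star_smul, smul_dotProduct]

theorem sq_smul_right (Y : Matrix ι ι F) (r : F) (u v : ι → F) : sq Y u (r • v) = r * sq Y u v := by
  simp [sq, mulVec_smul, dotProduct_smul]

theorem star_dotProduct_swap (u v : ι → F) : star (star u ⬝ᵥ v) = star v ⬝ᵥ u := by
  simp [dotProduct, star_sum, mul_comm]

theorem sq_adjoint (Y : Matrix ι ι F) (u v : ι → F) : sq Y u v = (star (Yᴴ *ᵥ u)) ⬝ᵥ v := by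
  rw [sq, dotProduct_mulVec, star_mulVec, conjTranspose_conjTranspose]

theorem sq_swap {Y : Matrix ι ι F} (hY : Yᴴ = -Y) (u v : ι → F) : sq Y v u = -star (sq Y u v) := by
  rw [sq_adjoint Y u v, star_dotProduct_swap, hY, neg_mulVec, dotProduct_neg, neg_neg]
  rfl

theorem exists_sq_ne {Y : Matrix ι ι F} {v : ι → F} (h : Y *ᵥ v ≠ 0) : ∃ u, sq Y u v ≠ 0 := by
  obtain ⟨i, hi⟩ := Function.ne_iff.1 h
  exact ⟨Pi.single i 1, by simpa [sq, dotProduct, Pi.single_apply, apply_ite star] using hi⟩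

theorem rad_skew {Y : Matrix ι ι F} (hY : Y + Yᴴ = 0) : Yᴴ = -Y := eq_neg_of_add_eq_zero_right hY

/-- Rank one, or an isotropic vector outside the radical. -/
theorem isotropic_or_rank_one (SD : StarData F) {Y : Matrix ι ι F} (hY : Yᴴ = -Y) :
    (∃ x, sq Y x x = 0 ∧ Y *ᵥ x ≠ 0) ∨ ∃ (c : F) (y : ι → F), Y = c • vecMulVec y (star y) := by
  by_cases h : ∀ a, sq Y a a = 0
  · by_cases h0 : ∀ x, Y *ᵥ x = 0
    · exact Or.inr ⟨0, 0, by rw [zero_smul]; exact Matrix.ext_iff_mulVec.2 fun x => by rw [h0, zero_mulVec]⟩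
    · push Not at h0
      obtain ⟨x, hx⟩ := h0
      exact Or.inl ⟨x, h x, hx⟩
  push Not at h
  obtain ⟨a, ha⟩ := h
  by_cases hz : ∀ v, sq Y a v = 0 → Y *ᵥ v = 0
  · refine Or.inr ⟨-(sq Y a a)⁻¹, Y *ᵥ a, Matrix.ext_iff_mulVec.2 fun v => ?_⟩
    have h1 : sq Y a (v - (sq Y a v / sq Y a a) • a) = 0 := by
      rw [sub_eq_add_neg, ← neg_smul, sq_add_right, sq_smul_right]
      field_simp
      ring
    have h2 := hz _ h1
    rw [mulVec_sub, mulVec_smul, sub_eq_zero] at h2
    rw [h2, smul_mulVec, vecMulVec_mulVec, op_smul_eq_smul, smul_smul]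
    congr 1
    have h3 : sq Y a v = -(star (Y *ᵥ a) ⬝ᵥ v) := by
      rw [sq_adjoint, hY, neg_mulVec, star_neg, neg_dotProduct]
    rw [h3]
    ring
  push Not at hz
  obtain ⟨v, hv, hYv⟩ := hz
  by_cases hvv : sq Y v v = 0
  · exact Or.inl ⟨v, hvv, hYv⟩
  have hreal : star (-(sq Y v v) / sq Y a a) = -(sq Y v v) / sq Y a a := by
    have e1 := sq_swap hY v v
    have e2 := sq_swap hY a a
    rw [star_div₀, star_neg, show star (sq Y v v) = -sq Y v v by rw [← neg_eq_iff_eq_neg]; exact e1.symm,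
      show star (sq Y a a) = -sq Y a a by rw [← neg_eq_iff_eq_neg]; exact e2.symm]
    ring
  obtain ⟨r, hr⟩ := SD.norm _ hreal
  have hva : sq Y v a = 0 := by rw [sq_swap hY, hv, star_zero, neg_zero]
  refine Or.inl ⟨v + r • a, ?_, fun h0 => hvv ?_⟩
  · rw [sq_add_left, sq_add_right, sq_add_right, sq_smul_left, sq_smul_left, sq_smul_right, sq_smul_right,
      hva, hv]
    rw [eq_div_iff ha] at hr
    linear_combination hr
  · have h4 : sq Y v (v + r • a) = 0 := by rw [sq, h0, dotProduct_zero]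
    rwa [sq_add_right, sq_smul_right, hva, mul_zero, add_zero] at h4

/-- Isotropic vectors span when one lies outside the radical. -/
theorem exists_isotropic_two (SD : StarData F) {Y : Matrix ι ι F} (hY : Yᴴ = -Y) {x : ι → F}
    (hx : sq Y x x = 0) (hYx : Y *ᵥ x ≠ 0) {L₁ L₂ : (ι → F) →ₗ[F] F} (h1 : L₁ ≠ 0) (h2 : L₂ ≠ 0) :
    ∃ u, sq Y u u = 0 ∧ L₁ u ≠ 0 ∧ L₂ u ≠ 0 := by
  obtain ⟨θ, hθ⟩ := SD.trace
  have hfix : ∀ v, sq Y x v ≠ 0 → ∃ r : F, sq Y (v + r • x) (v + r • x) = 0 := by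
    intro v hv
    refine ⟨-(star (sq Y v v) * star θ) / star (sq Y x v), ?_⟩
    set r := -(star (sq Y v v) * star θ) / star (sq Y x v) with hr
    have hne : star (sq Y x v) ≠ 0 := fun h => hv (star_eq_zero.1 h)
    have e1 : sq Y v x = -star (sq Y x v) := sq_swap hY x v
    have e2 : star (sq Y v v) = -sq Y v v := neg_eq_iff_eq_neg.1 (sq_swap hY v v).symm
    have e3 : r * star (sq Y x v) = sq Y v v * star θ := by
      rw [hr, div_mul_cancel₀ _ hne, e2]; ring
    have e4 : star r * sq Y x v = star (sq Y v v) * θ := by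
      have := congrArg star e3
      rwa [star_mul', star_mul', star_star, star_star] at this
    rw [sq_add_left, sq_add_right, sq_add_right, sq_smul_left, sq_smul_left, sq_smul_right, sq_smul_right,
      hx, e1]
    rw [e2] at e4
    linear_combination e4 - e3 - (sq Y v v) * hθ
  have span : ∀ {L : (ι → F) →ₗ[F] F}, L ≠ 0 → ∃ u, sq Y u u = 0 ∧ L u ≠ 0 := by
    intro L hL
    by_contra hc
    push Not at hc
    have hLx : L x = 0 := hc x hx
    have hout : ∀ v, sq Y x v ≠ 0 → L v = 0 := fun v hv => by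
      obtain ⟨r, hr⟩ := hfix v hv
      have := hc _ hr
      rwa [map_add, map_smul, hLx, smul_zero, add_zero] at this
    obtain ⟨z, hz⟩ : ∃ z, sq Y x z ≠ 0 := by
      obtain ⟨u, hu⟩ := exists_sq_ne hYx
      exact ⟨u, fun h => hu (by rw [sq_swap hY, h, star_zero, neg_zero])⟩
    refine hL (LinearMap.ext fun v => ?_)
    rcases eq_or_ne (sq Y x v) 0 with hv | hv
    · have := hout (v + z) (by rw [sq_add_right, hv, zero_add]; exact hz)
      rwa [map_add, hout z hz, add_zero] at this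
    · exact hout v hv
  obtain ⟨a, ha, ha1⟩ := span h1
  obtain ⟨b, hb, hb2⟩ := span h2
  by_cases ha2 : L₂ a = 0; swap
  · exact ⟨a, ha, ha1, ha2⟩
  by_cases hb1 : L₁ b = 0; swap
  · exact ⟨b, hb, hb1, hb2⟩
  obtain ⟨r, hr0, hr⟩ : ∃ r : F, r ≠ 0 ∧ r * sq Y a b - star (r * sq Y a b) = 0 := by
    by_cases h : sq Y a b = 0
    · exact ⟨1, one_ne_zero, by simp [h]⟩
    · refine ⟨(sq Y a b)⁻¹, inv_ne_zero h, ?_⟩
      rw [inv_mul_cancel₀ h, star_one, sub_self]
  refine ⟨a + r • b, ?_, ?_, ?_⟩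
  · rw [sq_add_left, sq_add_right, sq_add_right, sq_smul_left, sq_smul_left, sq_smul_right, sq_smul_right,
      ha, hb, sq_swap hY a b]
    rw [star_mul'] at hr
    linear_combination hr
  · rw [map_add, map_smul, hb1, smul_zero, add_zero]; exact ha1
  · rw [map_add, map_smul, ha2, zero_add, smul_eq_mul]; exact mul_ne_zero hr0 hb2

theorem exists_ne_zero_of_dual_zero [Nontrivial ι] (L : (ι → F) →ₗ[F] F) : ∃ u, u ≠ 0 ∧ L u = 0 := by
  obtain ⟨i, j, hij⟩ := exists_pair_ne ι
  by_cases h : L (Pi.single i 1) = 0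
  · exact ⟨Pi.single i 1, fun h' => by simpa using congrFun h' i, h⟩
  · refine ⟨L (Pi.single i 1) • Pi.single j 1 - L (Pi.single j 1) • Pi.single i 1, fun h' => h ?_, ?_⟩
    · simpa [Pi.single_apply, hij.symm] using congrFun h' j
    · rw [map_sub, map_smul, map_smul, smul_eq_mul, smul_eq_mul]; ring

/-- Nonzero isotropic vectors in dimension two or more. -/
theorem exists_isotropic [Nontrivial ι] (SD : StarData F) {Y : Matrix ι ι F} (hY : Yᴴ = -Y) :
    ∃ u, u ≠ 0 ∧ sq Y u u = 0 := by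
  rcases isotropic_or_rank_one SD hY with ⟨x, hx, hYx⟩ | ⟨c, y, rfl⟩
  · exact ⟨x, fun h => hYx (by rw [h, mulVec_zero]), hx⟩
  · let L : (ι → F) →ₗ[F] F :=
      { toFun := fun u => star y ⬝ᵥ u
        map_add' := fun a b => dotProduct_add _ a b
        map_smul' := fun r a => dotProduct_smul r _ a }
    obtain ⟨u, hu, hL⟩ := exists_ne_zero_of_dual_zero L
    refine ⟨u, hu, ?_⟩
    rw [sq, smul_mulVec, vecMulVec_mulVec, op_smul_eq_smul, show star y ⬝ᵥ u = 0 from hL, zero_smul,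
      smul_zero, dotProduct_zero]

/-- A point of an affine hyperplane off three other hyperplanes. -/
theorem exists_affine_avoid [Fintype F] (h4 : 4 ≤ Fintype.card F) {φ : (ι → F) →ₗ[F] F} (hφ : φ ≠ 0)
    (L : Fin 3 → (ι → F) →ₗ[F] F) (hL : ∀ s, L s ≠ 0) : ∃ u, φ u = 1 ∧ ∀ s, L s u ≠ 0 := by
  classical
  obtain ⟨v, hv⟩ : ∃ v, φ v ≠ 0 := by
    by_contra h
    push Not at h
    exact hφ (LinearMap.ext fun x => h x)
  set u₀ := (φ v)⁻¹ • v
  have hu₀ : φ u₀ = 1 := by rw [map_smul, smul_eq_mul, inv_mul_cancel₀ hv]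
  set T := Finset.univ.filter fun s => (L s).domRestrict (LinearMap.ker φ) ≠ 0
  obtain ⟨w, hw⟩ := LevCover.exists_avoid (fun s => (L s).domRestrict (LinearMap.ker φ))
    (fun s => L s u₀) T (lt_of_le_of_lt (Finset.card_le_univ T) (by rw [Fintype.card_fin]; omega))
    (fun s hs => (Finset.mem_filter.1 hs).2)
  refine ⟨(w : ι → F) + u₀, by rw [map_add, LinearMap.mem_ker.1 w.2, zero_add, hu₀], fun s hs => ?_⟩
  rw [map_add] at hs
  by_cases h : (L s).domRestrict (LinearMap.ker φ) = 0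
  · have h0 : L s (w : ι → F) = 0 := LinearMap.congr_fun h w
    rw [h0, zero_add] at hs
    refine hL s (LinearMap.ext fun x => ?_)
    have hx : L s (x - φ x • u₀) = 0 :=
      LinearMap.congr_fun h ⟨x - φ x • u₀, by rw [LinearMap.mem_ker, map_sub, map_smul, hu₀, smul_eq_mul,
        mul_one, sub_self]⟩
    rwa [map_sub, map_smul, hs, smul_zero, sub_zero] at hx
  · exact hw s (Finset.mem_filter.2 ⟨Finset.mem_univ s, h⟩) hs

/-- The functional `u ↦ star v ⬝ᵥ u`. -/
def pairing (v : ι → F) : (ι → F) →ₗ[F] F where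
  toFun u := star v ⬝ᵥ u
  map_add' a b := dotProduct_add _ a b
  map_smul' r a := dotProduct_smul r _ a

theorem pairing_apply (v u : ι → F) : pairing v u = star v ⬝ᵥ u := rfl

theorem pairing_ne {v : ι → F} (hv : v ≠ 0) : pairing v ≠ 0 := by
  obtain ⟨i, hi⟩ := Function.ne_iff.1 hv
  intro h
  have := LinearMap.congr_fun h (Pi.single i 1)
  simp [pairing_apply] at this
  exact hi this

/-- A functional killing `p` but not `a`. -/
theorem exists_sep {p a : ι → F} (h : ∀ t : F, a ≠ t • p) :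
    ∃ ζ : (ι → F) →ₗ[F] F, ζ p = 0 ∧ ζ a ≠ 0 := by
  obtain ⟨φ, h1, h2⟩ := LevCover.exists_dual_zero h
  exact ⟨{ toFun := fun u => φ ⬝ᵥ u, map_add' := fun a b => dotProduct_add _ a b
           map_smul' := fun r a => dotProduct_smul r _ a }, h1, h2⟩

end CfsgLib.OreSU
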