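import Cfsg.Agent.OreSU.Classes

/-!
# Commutators from the Levi part: general sizes
-/

set_option autoImplicit false
set_option linter.unusedSectionVars false
set_option linter.unusedSimpArgs false

namespace CfsgLib.OreSU

open Matrix Polynomial
open CfsgLib.LevCover
open CfsgLib.SourourProduct (blk blk_mul blk_ext blk_mulVec_e₀ e₀ eq_blk one_eq_blk Indep3)

variable {F : Type*} [Field F] [StarRing F] [Fintype F] {q : ℕ} {κ : Type*} [Fintype κ] [DecidableEq κ]

theorem FinData.four_le (D : FinData F q) : 4 ≤ Fintype.card F := by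
  rw [D.card]; have := D.two_le; nlinarith

theorem sim_units_of_cyc {n : ℕ} {h : (Matrix (Fin n) (Fin n) F)ˣ} {R : Matrix (Fin n) (Fin n) F}
    (hc : Cyc (h : Matrix (Fin n) (Fin n) F)) (hR : Cyc R)
    (he : R.charpoly = (h : Matrix (Fin n) (Fin n) F).charpoly) : Sim (h : Matrix (Fin n) (Fin n) F) R :=
  sim_of_cyc hc hR he.symm

theorem cyc_units_inv {n : ℕ} {h : (Matrix (Fin n) (Fin n) F)ˣ} (hc : Cyc (h : Matrix (Fin n) (Fin n) F)) :
    Cyc ((h⁻¹ : (Matrix (Fin n) (Fin n) F)ˣ) : Matrix (Fin n) (Fin n) F) := by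
  rw [Matrix.coe_units_inv]
  exact hc.inv ((Matrix.isUnit_iff_isUnit_det _).1 h.isUnit).ne_zero

/-- The pair of classes of a matrix and its inverse. -/
theorem classPair_inv {ι : Type*} [Fintype ι] [DecidableEq ι] {h : (Matrix ι ι F)ˣ} {μ : F}
    (hμ : μ * star μ = 1) (hd : dt F ι κ (dg h μ hμ) = 1)
    (hs : ∀ d : F, star d * d = 1 → ∃ c : gu F ι κ, c * dg h μ hμ = dg h μ hμ * c ∧ dt F ι κ c = d)
    (hg : Good κ h μ) : ClassPair κ h h⁻¹ μ := by
  have hμ' : star μ * star (star μ) = 1 := by rw [star_star, mul_comm]; exact hμ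
  refine ⟨hμ, hμ', hd, hs, ⟨1, ?_⟩, hg, hg.inv hμ⟩
  rw [one_mul, inv_one, mul_one]
  refine gu_ext ?_
  show b3 _ 0 0 0 (star μ • 1) 0 0 0 _ = b3 _ 0 0 0 (star μ • 1) 0 0 0 _
  simp

theorem det_one_of_real {ι : Type*} [Fintype ι] [DecidableEq ι] {h : (Matrix ι ι F)ˣ}
    (hr : star (h : Matrix ι ι F).det = (h : Matrix ι ι F).det) (h1 : (1 : F) * star (1 : F) = 1) :
    dt F ι κ (dg h 1 h1) = 1 := by
  rw [dt_dg, hr, one_pow, mul_one]
  exact mul_inv_cancel₀ ((Matrix.isUnit_iff_isUnit_det _).1 h.isUnit).ne_zero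

/-- Size one. -/
theorem levi_k1 (D : FinData F q) (h3 : 3 ≤ q) (hκ : Fintype.card κ = 1)
    {v w : Matrix κ (Fin 1) F} {X Y : Matrix (Fin 1) (Fin 1) F} (hX : Rad v X) (hY : Rad w Y)
    (A : (Matrix (Fin 1) (Fin 1) F)ˣ) (h1 : (1 : F) * star (1 : F) = 1)
    (hT : star (A : Matrix (Fin 1) (Fin 1) F).det = (A : Matrix (Fin 1) (Fin 1) F).det) :
    IsComm (lo v X hX * dg A 1 h1 * up w Y hY) := by
  set T := (A : Matrix (Fin 1) (Fin 1) F).det with hTdef
  have hT0 : T ≠ 0 := ((Matrix.isUnit_iff_isUnit_det _).1 A.isUnit).ne_zero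
  have hAe : (A : Matrix (Fin 1) (Fin 1) F) = blk T 0 0 (1 : Matrix (Fin 0) (Fin 0) F) := by
    ext i j
    rw [Fin.fin_one_eq_zero i, Fin.fin_one_eq_zero j, hTdef, det_fin_one]
    rfl
  obtain ⟨ν, hν, hν0, hν1, hνT⟩ : ∃ ν : F, star ν = ν ∧ ν ≠ 0 ∧ ν ≠ 1 ∧ (T ≠ 1 → ν = T) := by
    by_cases h : T = 1
    · obtain ⟨r, hr, hr0, hr1⟩ := D.exists_real h3
      exact ⟨r, hr, hr0, hr1, fun h' => absurd h h'⟩
    · exact ⟨T, hT, hT0, h, fun _ => rfl⟩
  obtain ⟨β, hβ, hβ2⟩ := D.exists_beta h3 hν hν0 hν1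
  have hβ0 : β ≠ 0 := fun h => hν0 (by rw [← hβ, h, zero_mul])
  have hβs : star β ≠ 0 := star_ne_zero.2 hβ0
  set μ := star β * β⁻¹ with hμdef
  have hμ : μ * star μ = 1 := by
    rw [hμdef, star_mul', star_star, star_inv₀]; field_simp
  have hμ' : star μ * star (star μ) = 1 := by rw [star_star, mul_comm]; exact hμ
  set h := ublk β hβ0 (1 : Matrix (Fin 0) (Fin 0) F) (by simp)
  have hh1 : (h : Matrix (Fin 1) (Fin 1) F).det = β := by
    rw [val_ublk, det_blk_diag, det_one, mul_one]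
  have hdt : dt F (Fin 1) κ (dg h μ hμ) = 1 := by
    rw [dt_dg, hκ, pow_one, hh1, hμdef]
    field_simp
  have hsurj := surj_of_scal (κ := κ) D.starData hμ (fun t ht => comm_ublk β hβ0 (1 : Matrix (Fin 0) (Fin 0) F) (by simp) t ht)
  have hgood : ∀ (x : F) (hx : x ≠ 0) (μ : F), μ * star μ = 1 → x * star x = ν →
      Good κ (ublk x hx (1 : Matrix (Fin 0) (Fin 0) F) (by simp)) μ := by
    intro x hx μ hμ hxν
    refine good_of_coprime hμ (f := (Polynomial.X - C x) * 1) ?_ ?_ ?_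
    · have hch : (ublk x hx (1 : Matrix (Fin 0) (Fin 0) F) (by simp) : Matrix (Fin 1) (Fin 1) F).charpoly =
          (Polynomial.X - C x) * 1 := by
        rw [val_ublk, charpoly_blk_upper, Matrix.charpoly, det_isEmpty]
      rw [← hch, Matrix.aeval_self_charpoly]
    · rw [mul_one, eval_sub, eval_X, eval_C]
      exact sub_ne_zero.2 fun h => hν1 (by rw [← hxν, ← h, hμ])
    · refine good_poly_lin hx (by rw [hxν]; exact hν1) (by simp) ?_
      exact isCoprime_one_left
  by_cases hT1 : T = 1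
  · refine (classPair_inv hμ hdt hsurj (hgood β hβ0 μ hμ hβ)).isComm hX hY A h1
      ⟨(h : Matrix (Fin 1) (Fin 1) F), ((h⁻¹ : (Matrix (Fin 1) (Fin 1) F)ˣ) : Matrix (Fin 1) (Fin 1) F),
        ?_, Sim.refl _, Sim.refl _⟩
    rw [Units.mul_inv, hAe, hT1, ← one_eq_blk]
  · have hC : ((1 : Matrix (Fin 0) (Fin 0) F)⁻¹).det ≠ 0 := by simp
    refine (ClassPair.mk (hh := ublk (star β) hβs (1 : Matrix (Fin 0) (Fin 0) F)⁻¹ hC) hμ hμ' hdt hsurj
      (exists_swap_conj β hβ0 _ (by simp) hμ hμ' hC) (hgood β hβ0 μ hμ hβ) ?_).isComm hX hY A h1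
      ⟨_, _, ?_, Sim.refl _, Sim.refl _⟩
    · have := hgood (star β) hβs (star μ) hμ' (by rw [star_star, mul_comm]; exact hβ)
      convert this using 3
      rw [inv_one]
    · rw [val_ublk, val_ublk, blk_mul, hAe]
      simp [hβ, hνT hT1]
      exact congrArg _ (Subsingleton.elim _ _)

/-- The polynomials for the block next to a linear factor. -/
theorem exists_block_data (D : FinData F q) (h3 : 3 ≤ q) {β : F} (hν1 : β * star β ≠ 1)
    (hβ2 : star (β * β) ≠ β * β) (d : ℕ) :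
    ∃ (f f' : F[X]) (C : Matrix (Fin (d + 1)) (Fin (d + 1)) F), C.charpoly = f ∧ C⁻¹.charpoly = f' ∧
      f.Monic ∧ f.natDegree = d + 1 ∧ Irreducible f ∧ f.coeff 0 ≠ 0 ∧ Irreducible f' ∧
      IsCoprime f (f.map (starRingEnd F)).reverse ∧ IsCoprime f' (f'.map (starRingEnd F)).reverse ∧
      f.eval β ≠ 0 ∧ f.eval (star β)⁻¹ ≠ 0 ∧ f.eval 1 ≠ 0 ∧ f'.eval (star β) ≠ 0 ∧ f'.eval β⁻¹ ≠ 0 ∧
      f'.eval 1 ≠ 0 ∧ star (β * C.det) = β * C.det ∧ C.det ≠ 0 := by
  have hβ0 : β ≠ 0 := fun h => hβ2 (by rw [h, mul_zero, star_zero])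
  have hβs : star β ≠ 0 := star_ne_zero.2 hβ0
  rcases Nat.eq_zero_or_pos d with rfl | hd
  · have hne1 : star β ≠ β := fun h => hβ2 (by rw [star_mul', h])
    have hne2 : star β * star β ≠ 1 := fun h => hβ2 (by
      have h' := congrArg star h
      rw [star_mul', star_star, star_one] at h'
      rw [star_mul', h, h'])
    have hne3 : star β ≠ 1 := fun h => hν1 (by
      have h' := congrArg star h
      rw [star_star, star_one] at h'
      rw [h', star_one, one_mul])
    set Cm : Matrix (Fin 1) (Fin 1) F := Matrix.diagonal fun _ => star β with hCm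
    have hCd : Cm.det = star β := by rw [hCm, det_fin_one, diagonal_apply_eq]
    have hCi : Cm⁻¹ = Matrix.diagonal fun _ => (star β)⁻¹ := by
      refine Matrix.inv_eq_right_inv ?_
      rw [hCm, diagonal_mul_diagonal, ← diagonal_one]
      simp [hβs]
    have hchar : ∀ x : F, (Matrix.diagonal fun _ : Fin 1 => x).charpoly = Polynomial.X - C x := fun x => by
      rw [charpoly_diagonal, Fin.prod_univ_one]
    have htw : ∀ x : F, x * star x ≠ 1 →
        IsCoprime (Polynomial.X - C x) ((Polynomial.X - C x).map (starRingEnd F)).reverse := fun x hx => by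
      rw [twist_lin]
      refine coprime_lin ?_
      simp only [eval_sub, eval_one, eval_mul, eval_C, eval_X]
      exact sub_ne_zero.2 fun h => hx (by rw [mul_comm]; exact h.symm)
    refine ⟨Polynomial.X - C (star β), Polynomial.X - C (star β)⁻¹, Cm, hchar _, by rw [hCi, hchar],
      monic_X_sub_C _, natDegree_X_sub_C _, irreducible_X_sub_C _, by simp [hβ0],
      irreducible_X_sub_C _, htw _ (by rwa [star_star, mul_comm]), htw _ ?_, ?_, ?_, ?_, ?_, ?_, ?_, ?_, ?_⟩
    · rw [star_inv₀, star_star, ← mul_inv, Ne, inv_eq_one, mul_comm]; exact hν1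
    · simpa [sub_eq_zero] using hne1.symm
    · rw [eval_sub, eval_X, eval_C, sub_ne_zero]
      intro h
      exact hne2 (by conv_lhs => arg 2; rw [← h]
                     exact mul_inv_cancel₀ hβs)
    · simpa [sub_eq_zero] using hne3.symm
    · rw [eval_sub, eval_X, eval_C, sub_ne_zero]
      intro h
      exact hne2 (by conv_lhs => arg 2; rw [h]
                     exact mul_inv_cancel₀ hβs)
    · rw [eval_sub, eval_X, eval_C, sub_ne_zero]
      exact fun h => hne1 (inv_injective h.symm)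
    · rw [eval_sub, eval_X, eval_C, sub_ne_zero]
      exact fun h => hne3 (inv_eq_one.1 h.symm)
    · rw [hCd, star_mul', star_star, mul_comm]
    · rw [hCd]; exact hβs
  · obtain ⟨f, f', r, hf, hfd, hi, hf0, hf', hfd', hi', -, hco, hco', hr, hr0, hdet, hinv⟩ :=
      D.exists_root_data (d := d + 1) (by omega) (Or.inl h3) (inv_ne_zero hβ0)
    obtain ⟨Cm, hC⟩ := exists_mat_charpoly hf hfd
    have hCd : Cm.det = β⁻¹ * r := by rw [det_of_charpoly hC, hdet]
    have hnr : ∀ (p : F[X]), Irreducible p → p.natDegree = d + 1 → ∀ x : F, p.eval x ≠ 0 := by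
      intro p hp hpd x hx
      have : p.natDegree = 1 := natDegree_eq_of_degree_eq_some (degree_eq_one_of_irreducible_of_root hp hx)
      omega
    refine ⟨f, f', Cm, hC, hinv _ hC, hf, hfd, hi, hf0, hi', hco, hco', hnr f hi hfd _, hnr f hi hfd _,
      hnr f hi hfd _, hnr f' hi' hfd' _, hnr f' hi' hfd' _, hnr f' hi' hfd' _, ?_, ?_⟩
    · rw [hCd, ← mul_assoc, mul_inv_cancel₀ hβ0, one_mul, hr]
    · rw [hCd]; exact mul_ne_zero (inv_ne_zero hβ0) hr0

/-- One linear factor. -/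
theorem levi_one (D : FinData F q) (h3 : 3 ≤ q) {d : ℕ}
    {v w : Matrix κ (Fin (d + 2)) F} {X Y : Matrix (Fin (d + 2)) (Fin (d + 2)) F} (hX : Rad v X) (hY : Rad w Y)
    (A : (Matrix (Fin (d + 2)) (Fin (d + 2)) F)ˣ) (h1 : (1 : F) * star (1 : F) = 1)
    (hT : star (A : Matrix (Fin (d + 2)) (Fin (d + 2)) F).det = (A : Matrix (Fin (d + 2)) (Fin (d + 2)) F).det)
    (hA : (∀ t : F, (A : Matrix (Fin (d + 2)) (Fin (d + 2)) F) ≠ t • 1) ∨
      (A : Matrix (Fin (d + 2)) (Fin (d + 2)) F) = 1) :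
    IsComm (lo v X hX * dg A 1 h1 * up w Y hY) := by
  set T := (A : Matrix (Fin (d + 2)) (Fin (d + 2)) F).det with hTdef
  have hT0 : T ≠ 0 := ((Matrix.isUnit_iff_isUnit_det _).1 A.isUnit).ne_zero
  obtain ⟨ν, hν, hν0, hν1, hνT⟩ : ∃ ν : F, star ν = ν ∧ ν ≠ 0 ∧ ν ≠ 1 ∧ (T ≠ 1 → ν = T) := by
    by_cases h : T = 1
    · obtain ⟨r, hr, hr0, hr1⟩ := D.exists_real h3
      exact ⟨r, hr, hr0, hr1, fun h' => absurd h h'⟩
    · exact ⟨T, hT, hT0, h, fun _ => rfl⟩
  obtain ⟨β, hβ, hβ2⟩ := D.exists_beta h3 hν hν0 hν1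
  have hβ0 : β ≠ 0 := fun h => hν0 (by rw [← hβ, h, zero_mul])
  have hβs : star β ≠ 0 := star_ne_zero.2 hβ0
  have hNβ : β * star β ≠ 1 := by rw [hβ]; exact hν1
  obtain ⟨f, f', Cm, hC, hC', hf, hfd, hi, hf0, hi', hco, hco', hfβ, hfβ', hf1, hgβ, hgβ', hg1, hreal, hCd⟩ :=
    exists_block_data D h3 hNβ hβ2 d
  set h := ublk β hβ0 Cm hCd
  have hμ : (1 : F) * star (1 : F) = 1 := h1
  have hμ' : star (1 : F) * star (star (1 : F)) = 1 := by simp
  have hch : (h : Matrix (Fin (d + 2)) (Fin (d + 2)) F).charpoly = (Polynomial.X - C β) * f := by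
    rw [val_ublk, charpoly_blk_upper, hC]
  have hcyc : Cyc (h : Matrix (Fin (d + 2)) (Fin (d + 2)) F) :=
    cyc_of_two_factors hch (irreducible_X_sub_C β) hi (coprime_lin hfβ)
  have hdh : (h : Matrix (Fin (d + 2)) (Fin (d + 2)) F).det = β * Cm.det := by rw [val_ublk, det_blk_diag]
  have hdt : dt F (Fin (d + 2)) κ (dg h 1 hμ) = 1 := det_one_of_real (by rw [hdh, hreal]) hμ
  have hsurj := surj_of_scal (κ := κ) D.starData hμ (fun t ht => comm_ublk β hβ0 Cm hCd t ht)
  have hgood : Good κ h (1 : F) := by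
    refine good_of_coprime hμ (f := (Polynomial.X - C β) * f) (by rw [← hch, Matrix.aeval_self_charpoly]) ?_
      (good_poly_lin hβ0 hNβ hfβ' hco)
    rw [eval_mul, eval_sub, eval_X, eval_C]
    exact mul_ne_zero (sub_ne_zero.2 fun h => hNβ (by rw [← h, h1])) hf1
  have hfac : ∀ hh : (Matrix (Fin (d + 2)) (Fin (d + 2)) F)ˣ, Cyc (hh : Matrix (Fin (d + 2)) (Fin (d + 2)) F) →
      (hh : Matrix (Fin (d + 2)) (Fin (d + 2)) F).det * (β * Cm.det) = T →
      (∀ t : F, (A : Matrix (Fin (d + 2)) (Fin (d + 2)) F) ≠ t • 1) →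
      ∃ R H : Matrix (Fin (d + 2)) (Fin (d + 2)) F, (A : Matrix (Fin (d + 2)) (Fin (d + 2)) F) = R * H ∧
        Sim (h : Matrix (Fin (d + 2)) (Fin (d + 2)) F) R ∧ Sim (hh : Matrix (Fin (d + 2)) (Fin (d + 2)) F) H := by
    intro hh hhc hhd hns
    obtain ⟨R, H, e, hR, hH, hHc⟩ := exists_factor_one D.four_le (A := (A : Matrix _ _ F))
      (by rw [← hTdef]; exact hT0) hns hβ0 hf hfd hi hf0 (charpoly_monic (hh : Matrix (Fin (d + 2)) (Fin (d + 2)) F))
      (by rw [charpoly_natDegree_eq_dim, Fintype.card_fin])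
      (by rw [← det_of_charpoly rfl, ← det_of_charpoly hC, hhd])
    exact ⟨R, H, e, sim_units_of_cyc hcyc (cyc_of_two_factors hR (irreducible_X_sub_C β) hi (coprime_lin hfβ))
      (by rw [hR, hch]), sim_units_of_cyc hhc hHc hH⟩
  by_cases hT1 : T = 1
  · refine (classPair_inv hμ hdt hsurj hgood).isComm hX hY A h1 ?_
    rcases hA with hA | hA
    · refine hfac h⁻¹ (cyc_units_inv hcyc) ?_ hA
      rw [← hdh, ← det_mul, Units.inv_mul, det_one, hT1]
    · exact ⟨_, _, by rw [Units.mul_inv, hA], Sim.refl _, Sim.refl _⟩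
  · have hA' : ∀ t : F, (A : Matrix (Fin (d + 2)) (Fin (d + 2)) F) ≠ t • 1 :=
      hA.resolve_right fun h => hT1 (by rw [hTdef, h, det_one])
    have hC0 : Cm⁻¹.det ≠ 0 := by
      rw [det_nonsing_inv, Ring.inverse_eq_inv']; exact inv_ne_zero hCd
    set hh := ublk (star β) hβs Cm⁻¹ hC0
    have hch' : (hh : Matrix (Fin (d + 2)) (Fin (d + 2)) F).charpoly = (Polynomial.X - C (star β)) * f' := by
      rw [val_ublk, charpoly_blk_upper, hC']
    have hNβ' : star β * star (star β) ≠ 1 := by rwa [star_star, mul_comm]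
    have hgood' : Good κ hh (star (1 : F)) := by
      refine good_of_coprime hμ' (f := (Polynomial.X - C (star β)) * f')
        (by rw [← hch', Matrix.aeval_self_charpoly]) ?_ (good_poly_lin hβs hNβ' (by rwa [star_star]) hco')
      rw [star_one, eval_mul, eval_sub, eval_X, eval_C]
      exact mul_ne_zero (sub_ne_zero.2 fun h => hNβ' (by rw [← h, h1])) hg1
    refine (ClassPair.mk hμ hμ' hdt hsurj (exists_swap_conj β hβ0 Cm hCd hμ hμ' hC0) hgood hgood').isComm
      hX hY A h1 (hfac hh (cyc_of_two_factors hch' (irreducible_X_sub_C _) hi' (coprime_lin hgβ)) ?_ hA')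
    rw [val_ublk, det_blk_diag, det_nonsing_inv, Ring.inverse_eq_inv', ← hνT hT1, ← hβ]
    field_simp

section Two

attribute [-simp] Fin.succ_zero_eq_one Fin.succ_zero_eq_one'

variable (D : FinData F 2)
include D

theorem two_eq_zero : (2 : F) = 0 := by
  have h := FiniteField.cast_card_eq_zero F
  rw [D.card] at h
  exact mul_self_eq_zero.1 (by push_cast at h; linear_combination h)

theorem exists_omega_data : ∃ w : F, w ^ 2 + w + 1 = 0 ∧ w ≠ 0 ∧ w ≠ 1 ∧
    ∀ x : F, x = 0 ∨ x = 1 ∨ x = w ∨ x = w ^ 2 := by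
  obtain ⟨γ, hγ, hγ0, hgen⟩ := D.exists_gen
  have h1 : γ ≠ 1 := fun h => by rw [h, orderOf_one] at hγ; omega
  have h3 : γ ^ 3 = 1 := by
    have := pow_orderOf_eq_one γ
    rw [hγ] at this
    simpa using this
  refine ⟨γ, ?_, hγ0, h1, fun x => ?_⟩
  · refine mul_left_cancel₀ (sub_ne_zero.2 h1) ?_
    linear_combination h3
  · by_cases hx : x = 0
    · exact Or.inl hx
    obtain ⟨i, rfl⟩ := hgen x hx
    have : i % 3 < 3 := Nat.mod_lt _ (by omega)
    rw [← Nat.mod_add_div i 3, pow_add, pow_mul, h3, one_pow, mul_one]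
    interval_cases i % 3 <;> simp

theorem star_omega {w : F} : star w = w ^ 2 := D.star_eq w

theorem real_eq_one {r : F} (hr : star r = r) (hr0 : r ≠ 0) : r = 1 := by simpa using D.real_pow hr hr0

omit D in
theorem coprime_twist_quad {g f : F[X]} (hg : Irreducible g) (hgd : g.natDegree = 2) (hg0 : g.coeff 0 ≠ 0)
    (hf : Irreducible f) (hfd : 3 ≤ f.natDegree) : IsCoprime g (f.map (starRingEnd F)).reverse := by
  refine hg.coprime_iff_not_dvd.2 fun hdvd => ?_
  haveI := Fact.mk hg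
  let L := AdjoinRoot g
  let y : L := AdjoinRoot.root g
  have hy : aeval y g = 0 := by
    show aeval (AdjoinRoot.root g) g = 0
    rw [AdjoinRoot.aeval_eq, AdjoinRoot.mk_self]
  have hy0 : y ≠ 0 := fun h => hg0 (by
    rw [h, ← coeff_zero_eq_aeval_zero'] at hy
    exact (map_eq_zero_iff _ (algebraMap F L).injective).1 hy)
  obtain ⟨r, hr⟩ := hdvd
  have h0 : aeval y (f.map (starRingEnd F)).reverse = 0 := by rw [hr, map_mul, hy, zero_mul]
  haveI : Invertible y⁻¹ := invertibleOfNonzero (inv_ne_zero hy0)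
  replace h0 : aeval y⁻¹ (f.map (starRingEnd F)) = 0 :=
    (eval₂_reverse_eq_zero_iff (algebraMap F L) y⁻¹ _).1 (by rwa [invOf_eq_inv, inv_inv])
  have hσ : Irreducible (f.map (starRingEnd F)) := by
    have := (MulEquiv.irreducible_iff (Polynomial.mapEquiv (starRingAut : F ≃+* F))).2 hf
    exact this
  haveI : FiniteDimensional F L := (AdjoinRoot.powerBasis hg.ne_zero).finite
  have h1 := natDegree_eq_of_degree_eq (degree_eq_degree_of_associated
    (minpoly.irreducible (IsIntegral.of_finite F y⁻¹) |>.associated_of_dvd hσ (minpoly.dvd F _ h0)))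
  have h2 := minpoly.natDegree_le (A := F) y⁻¹
  rw [natDegree_map, ] at h1
  rw [PowerBasis.finrank (AdjoinRoot.powerBasis hg.ne_zero), AdjoinRoot.powerBasis_dim, hgd] at h2
  omega

/-- The block data for two top rows. -/
theorem exists_two_data (d : ℕ) : ∃ (a b : F) (f : F[X]) (Cm : Matrix (Fin (d + 2)) (Fin (d + 2)) F),
    a ≠ 0 ∧ b ≠ 0 ∧ Cm.charpoly = f ∧ f.Monic ∧ f.natDegree = d + 2 ∧ Irreducible f ∧ f.coeff 0 ≠ 0 ∧
    b * Cm.det = 1 ∧ Irreducible (Polynomial.X ^ 2 + C a * Polynomial.X + C b) ∧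
    IsCoprime (Polynomial.X ^ 2 + C a * Polynomial.X + C b) f ∧
    ((Polynomial.X ^ 2 + C a * Polynomial.X + C b) * f).eval 1 ≠ 0 ∧
    IsCoprime ((Polynomial.X ^ 2 + C a * Polynomial.X + C b) * f)
      (((Polynomial.X ^ 2 + C a * Polynomial.X + C b) * f).map (starRingEnd F)).reverse := by
  obtain ⟨w, hw, hw0, hw1, hall⟩ := exists_omega_data D
  have h2 := two_eq_zero D
  have hws : star w = w ^ 2 := D.star_eq w
  have hw3 : w ^ 3 = 1 := by linear_combination (w - 1) * hw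
  have noroot : ∀ a b : F, b ≠ 0 → 1 + a + b ≠ 0 → w ^ 2 + a * w + b ≠ 0 → w + a * w ^ 2 + b ≠ 0 →
      ∀ x : F, x ^ 2 + a * x + b ≠ 0 := by
    intro a b e0 e1 e2 e3 x
    rcases hall x with rfl | rfl | rfl | rfl
    · simpa using e0
    · simpa using e1
    · exact e2
    · rw [show (w ^ 2) ^ 2 = w by linear_combination w * hw3]; exact e3
  have hw21 : w ^ 2 ≠ 1 := fun h => hw0 (by linear_combination hw - h - h2)
  have hne : w ^ 2 ≠ w := fun h => hw1 (mul_left_cancel₀ hw0 (by linear_combination h))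
  have cop : ∀ {p : F[X]} {b' : F} (a' : F), Irreducible p → p.Monic → 2 ≤ p.natDegree → b' ≠ 0 →
      (p.natDegree = 2 → p.coeff 1 ≠ star a' / star b' ∨ p.coeff 0 ≠ (star b')⁻¹) →
      IsCoprime p ((Polynomial.X ^ 2 + C a' * Polynomial.X + C b').map (starRingEnd F)).reverse := by
    intro p b' a' hp hpm hpd hb' hcoe
    rw [twist_quad _ _ hb', isCoprime_mul_unit_left_right (isUnit_C.2 (isUnit_iff_ne_zero.2 (star_ne_zero.2 hb')))]
    refine coprime_of_ne hp hpm (quad_monic _ _).1 (by rw [(quad_monic _ _).2]; exact hpd) fun h => ?_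
    have hd : p.natDegree = 2 := by rw [h, (quad_monic _ _).2]
    rcases hcoe hd with e | e <;> exact e (by rw [h]; simp [coeff_X, coeff_C])
  rcases Nat.eq_zero_or_pos d with rfl | hd
  · have i1 := quad_irreducible 1 w (noroot 1 w hw0 (fun h => hw0 (by linear_combination h - h2))
      (fun h => pow_ne_zero 2 hw0 (by linear_combination h - w * h2))
      (fun h => pow_ne_zero 2 hw0 (by linear_combination h - w * h2)))
    have i2 := quad_irreducible 1 (w ^ 2) (noroot 1 (w ^ 2) (pow_ne_zero _ hw0)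
      (fun h => pow_ne_zero 2 hw0 (by linear_combination h - h2))
      (fun h => hw0 (by linear_combination h - w ^ 2 * h2))
      (fun h => hw0 (by linear_combination h - w ^ 2 * h2)))
    obtain ⟨hm, hdg⟩ := quad_monic (1 : F) (w ^ 2)
    obtain ⟨hm1, hdg1⟩ := quad_monic (1 : F) w
    obtain ⟨Cm, hC⟩ := exists_mat_charpoly hm hdg
    refine ⟨1, w, _, Cm, one_ne_zero, hw0, hC, hm, hdg, i2, by simp [hw0, -map_pow], ?_, i1, ?_, ?_, ?_⟩
    · rw [det_of_charpoly hC]; simp [-map_pow]; linear_combination hw3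
    · refine coprime_of_ne i1 hm1 hm (by rw [hdg, hdg1]) fun h => hne ?_
      have := congrArg (fun p => Polynomial.coeff p 0) h
      simpa [-map_pow] using this.symm
    · simp only [eval_mul, eval_add, eval_pow, eval_X, eval_C]
      refine mul_ne_zero (fun h => hw0 (by linear_combination h - h2)) (fun h => pow_ne_zero 2 hw0 (by linear_combination h - h2))
    · rw [twist_mul, IsCoprime.mul_left_iff, IsCoprime.mul_right_iff, IsCoprime.mul_right_iff]
      have c1 : ∀ b : F, (Polynomial.X ^ 2 + C (1 : F) * Polynomial.X + C b).coeff 1 = 1 := fun b => by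
        simp [coeff_X, coeff_C]
      refine ⟨⟨cop 1 i1 hm1 (by rw [hdg1]) hw0 fun _ => Or.inl ?_,
          cop 1 i1 hm1 (by rw [hdg1]) (pow_ne_zero _ hw0) fun _ => Or.inl ?_⟩,
        cop 1 i2 hm (by rw [hdg]) hw0 fun _ => Or.inl ?_,
        cop 1 i2 hm (by rw [hdg]) (pow_ne_zero _ hw0) fun _ => Or.inl ?_⟩ <;> rw [c1, star_one] <;>
        simp only [star_pow, hws, Ne, eq_comm (a := (1 : F)), div_eq_one_iff_eq, one_div, inv_eq_one] <;>
        intro h <;>
        first
          | exact hw21 h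
          | exact hw1 (by linear_combination h - w * hw3)
  · obtain ⟨f, -, r, hf, hfd, hi, hf0, -, -, -, -, hco, -, hr, hr0, hdet, -⟩ :=
      D.exists_root_data (d := d + 2) (by omega) (Or.inr (by omega)) (one_ne_zero (α := F))
    rw [real_eq_one D hr hr0, one_mul] at hdet
    obtain ⟨Cm, hC⟩ := exists_mat_charpoly hf hfd
    have i1 := quad_irreducible w 1 (noroot w 1 one_ne_zero (fun h => hw0 (by linear_combination h - h2))
      (fun h => one_ne_zero (α := F) (by linear_combination h - w ^ 2 * h2))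
      (fun h => hw0 (by linear_combination h - hw3 - h2)))
    obtain ⟨hm1, hdg1⟩ := quad_monic w (1 : F)
    refine ⟨w, 1, f, Cm, hw0, one_ne_zero, hC, hf, hfd, hi, hf0, ?_, i1, ?_, ?_, ?_⟩
    · rw [det_of_charpoly hC, hdet, one_mul]
    · refine (coprime_of_ne hi hf hm1 (by omega) fun h => ?_).symm
      rw [h, hdg1] at hfd; omega
    · simp only [eval_mul, eval_add, eval_pow, eval_X, eval_C]
      refine mul_ne_zero (fun h => hw0 (by linear_combination h - h2)) fun h => ?_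
      have : f.natDegree = 1 := natDegree_eq_of_degree_eq_some (degree_eq_one_of_irreducible_of_root hi h)
      omega
    · rw [twist_mul, IsCoprime.mul_left_iff, IsCoprime.mul_right_iff, IsCoprime.mul_right_iff]
      refine ⟨⟨cop w i1 hm1 hdg1.ge one_ne_zero fun _ => Or.inl ?_, coprime_twist_quad i1 hdg1 (by simp) hi (by omega)⟩,
        cop w hi hf (by omega) one_ne_zero fun h => by omega, hco⟩
      rw [star_one, div_one, hws]
      simpa [coeff_X, coeff_C, coeff_one] using hne.symm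

/-- A quadratic factor. -/
theorem levi_two {d : ℕ}
    {v w : Matrix κ (Fin (d + 4)) F} {X Y : Matrix (Fin (d + 4)) (Fin (d + 4)) F} (hX : Rad v X) (hY : Rad w Y)
    (A : (Matrix (Fin (d + 4)) (Fin (d + 4)) F)ˣ) (h1 : (1 : F) * star (1 : F) = 1)
    (hT : (A : Matrix (Fin (d + 4)) (Fin (d + 4)) F).det = 1)
    (hA : (A : Matrix (Fin (d + 4)) (Fin (d + 4)) F) = 1 ∨
      ((∀ t : F, (A : Matrix (Fin (d + 4)) (Fin (d + 4)) F) ≠ t • 1) ∧
        ((∃ (lam : F) (u : Fin (d + 4) → F), u ≠ 0 ∧ (A : Matrix (Fin (d + 4)) (Fin (d + 4)) F) *ᵥ u = lam • u) ∨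
          ∃ x, Indep3 (A : Matrix (Fin (d + 4)) (Fin (d + 4)) F) x))) :
    IsComm (lo v X hX * dg A 1 h1 * up w Y hY) := by
  obtain ⟨a, b, f, Cm, ha, hb, hC, hf, hfd, hi, hf0, hdet, hi2, hco2, heval, hco⟩ := exists_two_data D d
  set hm : Matrix (Fin (d + 4)) (Fin (d + 4)) F := blk (-a) (Fin.cons 1 0) ((-b) • e₀) (blk 0 0 0 Cm) with hhm
  have hch : hm.charpoly = (Polynomial.X ^ 2 + C a * Polynomial.X + C b) * f := by
    rw [hhm, charpoly_blk_two, hC, Fin.cons_zero, mul_one, map_neg, map_neg, map_zero]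
    ring
  have hdm : hm.det = 1 := by
    rw [hhm, det_blk_two, Fin.cons_zero, mul_one, mul_zero, zero_sub, neg_neg, hdet]
  set h := ((Matrix.isUnit_iff_isUnit_det hm).2 (by rw [hdm]; exact isUnit_one)).unit
  have hval : (h : Matrix (Fin (d + 4)) (Fin (d + 4)) F) = hm := IsUnit.unit_spec _
  have hcyc : Cyc (h : Matrix (Fin (d + 4)) (Fin (d + 4)) F) := by
    rw [hval]; exact cyc_of_two_factors hch hi2 hi hco2
  have hsurj := surj_of_scal (κ := κ) (h := h) D.starData h1 (fun t ht => by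
    have ht3 : t ^ 3 = 1 := by simpa [D.card] using FiniteField.pow_card_sub_one_eq_one t ht
    have hs : t ^ 2 ≠ 0 := pow_ne_zero _ ht
    set inner := ublk (t ^ 2) hs (1 : Matrix (Fin (d + 2)) (Fin (d + 2)) F) (by simp)
    refine ⟨ublk (t ^ 2) hs (inner : Matrix (Fin (d + 3)) (Fin (d + 3)) F)
      (by rw [val_ublk, det_blk_diag, det_one, mul_one]; exact hs), Units.ext ?_, ?_⟩
    · simp only [Units.val_mul, hval, val_ublk, inner, hhm, blk_mul]
      refine blk_ext ?_ ?_ ?_ ?_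
      · simp [mul_comm]
      · intro j
        refine Fin.cases ?_ (fun j => ?_) j <;> simp [Matrix.vecMul, dotProduct, Fin.sum_univ_succ, mul_comm, Fin.succ_ne_zero]
      · intro i
        refine Fin.cases ?_ (fun i => ?_) i <;> simp [Matrix.mulVec, dotProduct, Fin.sum_univ_succ, mul_comm, Fin.succ_ne_zero]
      · intro i j
        simp [blk_mul]
    · rw [val_ublk, det_blk_diag, val_ublk, det_blk_diag, det_one, mul_one]
      linear_combination t * ht3)
  have hgood : Good κ h (1 : F) := good_of_coprime h1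
    (f := (Polynomial.X ^ 2 + C a * Polynomial.X + C b) * f)
    (by rw [← hch, ← hval, Matrix.aeval_self_charpoly]) heval hco
  refine (classPair_inv h1 (det_one_of_real (by rw [hval, hdm, star_one]) h1) hsurj hgood).isComm hX hY A h1 ?_
  rcases hA with hA | ⟨hns, hA⟩
  · exact ⟨_, _, by rw [Units.mul_inv, hA], Sim.refl _, Sim.refl _⟩
  have hA0 : (A : Matrix (Fin (d + 4)) (Fin (d + 4)) F).det ≠ 0 := by rw [hT]; exact one_ne_zero
  obtain ⟨R, H, e, hR, hH, hHc⟩ := exists_factor_two D.four_le (k := d + 1) hA0 hb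
    (exists_seed (k := d + 1) hA0 hns ha hb hA) hf hfd hi hf0
    (charpoly_monic ((h⁻¹ : (Matrix (Fin (d + 4)) (Fin (d + 4)) F)ˣ) : Matrix (Fin (d + 4)) (Fin (d + 4)) F))
    (by rw [charpoly_natDegree_eq_dim, Fintype.card_fin])
    (by rw [← det_of_charpoly rfl, ← det_of_charpoly hC, hdet, mul_one, Matrix.coe_units_inv, hval,
      det_nonsing_inv, hdm, Ring.inverse_one, hT])
  exact ⟨R, H, e, sim_units_of_cyc hcyc (cyc_of_two_factors hR hi2 hi hco2) (by rw [hR, hval, hch]),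
    sim_units_of_cyc (cyc_units_inv hcyc) hHc hH⟩

end Two

end CfsgLib.OreSU
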