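import Mathlib

/-!
# Factorisations in `SL₂(4)` and `SL₃(4)`

A matrix of determinant one is a product of two matrices with prescribed irreducible
characteristic polynomials, outside the few exceptional classes.
-/

set_option autoImplicit false
set_option linter.unusedSectionVars false
set_option linter.unusedSimpArgs false

namespace CfsgLib.OreSU

open Matrix Polynomial

variable {F : Type*} [Field F] [Fintype F]

theorem charP_two_of_card_four (hF : Fintype.card F = 4) : CharP F 2 :=
  have : Fact (Nat.Prime 2) := ⟨Nat.prime_two⟩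
  charP_of_card_eq_prime_pow (f := 2) (by rw [hF]; rfl)

theorem exists_omega (hF : Fintype.card F = 4) : ∃ w : F, w ^ 2 + w + 1 = 0 := by
  classical
  have := charP_two_of_card_four hF
  obtain ⟨x, hx⟩ : ∃ x : F, x ∉ ({0, 1} : Finset F) := by
    by_contra h
    push Not at h
    have h1 := Finset.card_le_card (s := (Finset.univ : Finset F)) (fun x _ => h x)
    rw [Finset.card_univ, hF] at h1
    exact absurd (h1.trans Finset.card_le_two) (by norm_num)
  simp only [Finset.mem_insert, Finset.mem_singleton, not_or] at hx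
  have h4 : x ^ 4 = x := by rw [← hF]; exact FiniteField.pow_card x
  have h : (x * (x - 1)) * (x ^ 2 + x + 1) = 0 := by linear_combination h4
  exact ⟨x, (mul_eq_zero.1 h).resolve_left (mul_ne_zero hx.1 (sub_ne_zero.2 hx.2))⟩

/-- `k = 2`. -/
theorem factor_two_small (hF : Fintype.card F = 4) {w : F} (hw : w ^ 2 + w + 1 = 0)
    {A : Matrix (Fin 2) (Fin 2) F} (hA : A.det = 1) (ht : A.trace ≠ 0) :
    ∃ R H, A = R * H ∧ R.charpoly = X ^ 2 + C w * X + 1 ∧ H.charpoly = X ^ 2 + C w * X + 1 := by
  have := charP_two_of_card_four hF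
  obtain ⟨v, hv⟩ : ∃ v : Fin 2 → F, IsUnit (Matrix.of ![v, A *ᵥ v])ᵀ.det := by
    by_contra h
    push Not at h
    have e0 := h (Pi.single 0 1)
    have e1 := h (Pi.single 1 1)
    have e2 := h (Pi.single 0 1 + Pi.single 1 1)
    simp [Matrix.det_fin_two, Matrix.mulVec, dotProduct, Fin.sum_univ_two, isUnit_iff_ne_zero] at e0 e1 e2
    apply ht
    rw [Matrix.trace_fin_two]
    rw [CharTwo.sub_eq_add, e0, e1, zero_add, add_zero] at e2
    rw [add_comm, e2]
  set P : Matrix (Fin 2) (Fin 2) F := (Matrix.of ![v, A *ᵥ v])ᵀ with hP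
  set t := A.trace with ht'
  have hAP : A * P = P * !![0, 1; 1, t] := by
    rw [Matrix.trace_fin_two] at ht'
    rw [Matrix.det_fin_two] at hA
    ext i j
    fin_cases i <;> fin_cases j <;>
      simp [hP, Matrix.mul_apply, Matrix.mulVec, dotProduct, Fin.sum_univ_two, ht'] <;> grind
  obtain ⟨a, ha⟩ : ∃ a, a * t = w := ⟨w * t⁻¹, by rw [mul_assoc, inv_mul_cancel₀ ht, mul_one]⟩
  have h4 : a ^ 4 = a := by rw [← hF]; exact FiniteField.pow_card a
  set b := 1 + a + a ^ 2 * w ^ 2 with hb
  set R : Matrix (Fin 2) (Fin 2) F := !![a, b; b, a + w] with hR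
  set H : Matrix (Fin 2) (Fin 2) F := !![b, a + w + b * t; a, b + a * t] with hH
  have hbb : b * b = 1 + a * a + a * w := by rw [hb]; grind
  have hRH : R * H = !![0, 1; 1, t] := by
    ext i j
    fin_cases i <;> fin_cases j <;> simp [hR, hH, Matrix.mul_apply, Fin.sum_univ_two] <;> grind
  have hcp : ∀ M : Matrix (Fin 2) (Fin 2) F, M.trace = w → M.det = 1 →
      M.charpoly = X ^ 2 + C w * X + 1 := fun M h1 h2 => by
    rw [Matrix.charpoly_fin_two, h1, h2, map_one, CharTwo.sub_eq_add]
  refine ⟨P * R * P⁻¹, P * H * P⁻¹, ?_, ?_, ?_⟩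
  · calc A = A * P * P⁻¹ := by rw [Matrix.mul_assoc, Matrix.mul_nonsing_inv P hv, Matrix.mul_one]
      _ = P * (R * H) * P⁻¹ := by rw [hAP, hRH]
      _ = _ := by
        simp only [Matrix.mul_assoc]
        rw [← Matrix.mul_assoc P⁻¹ P, Matrix.nonsing_inv_mul P hv, Matrix.one_mul]
  · refine hcp _ ?_ ?_
    · rw [Matrix.trace_mul_cycle, Matrix.nonsing_inv_mul P hv, Matrix.one_mul]
      simp [hR, Matrix.trace_fin_two]; grind
    · rw [Matrix.det_conj ((Matrix.isUnit_iff_isUnit_det P).2 hv)]
      simp [hR, Matrix.det_fin_two]; grind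
  · refine hcp _ ?_ ?_
    · rw [Matrix.trace_mul_cycle, Matrix.nonsing_inv_mul P hv, Matrix.one_mul]
      simp [hH, Matrix.trace_fin_two]; grind
    · rw [Matrix.det_conj ((Matrix.isUnit_iff_isUnit_det P).2 hv)]
      simp [hH, Matrix.det_fin_two]; grind

namespace Small4

/-- A field element, coded by its coordinates over `1, w`. -/
def g4 (n : ℕ) : Fin 4 := ⟨n % 4, Nat.mod_lt _ (by norm_num)⟩

/-- Addition of codes. -/
def ad (a b : Fin 4) : Fin 4 := g4 (a.val ^^^ b.val)

/-- Multiplication of codes. -/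
def ml (a b : Fin 4) : Fin 4 :=
  g4 ([0, 0, 0, 0, 0, 1, 2, 3, 0, 2, 3, 1, 0, 3, 1, 2].getD (4 * a.val + b.val) 0)

/-- Coded matrices. -/
abbrev M3 := Fin 3 → Fin 3 → Fin 4

/-- Product of coded matrices. -/
def mul3 (R H : M3) : M3 := fun i j => ad (ad (ml (R i 0) (H 0 j)) (ml (R i 1) (H 1 j))) (ml (R i 2) (H 2 j))

/-- Trace. -/
def tr3 (M : M3) : Fin 4 := ad (ad (M 0 0) (M 1 1)) (M 2 2)

/-- Sum of the principal minors. -/
def mi3 (M : M3) : Fin 4 :=
  ad (ad (ad (ml (M 0 0) (M 1 1)) (ml (M 0 1) (M 1 0))) (ad (ml (M 0 0) (M 2 2)) (ml (M 0 2) (M 2 0))))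
    (ad (ml (M 1 1) (M 2 2)) (ml (M 1 2) (M 2 1)))

/-- Determinant. -/
def det3 (M : M3) : Fin 4 :=
  ad (ad (ad (ml (ml (M 0 0) (M 1 1)) (M 2 2)) (ml (ml (M 0 0) (M 1 2)) (M 2 1)))
    (ad (ml (ml (M 0 1) (M 1 0)) (M 2 2)) (ml (ml (M 0 1) (M 1 2)) (M 2 0))))
    (ad (ml (ml (M 0 2) (M 1 0)) (M 2 1)) (ml (ml (M 0 2) (M 1 1)) (M 2 0)))

/-- Equality test. -/
def eq3 (A B : M3) : Bool :=
  (List.finRange 3).all fun i => (List.finRange 3).all fun j => A i j == B i j

/-- The matrix of a number in base four. -/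
def dec (n : ℕ) : M3 := fun i j => g4 (n / 4 ^ (3 * i.val + j.val))

/-- `A - 1`. -/
def sub1 (A : M3) : M3 := fun i j => if i = j then ad (A i j) 1 else A i j

/-- The normal form. -/
def form (c a b p s m : Fin 4) : M3 := ![![0, b, p], ![1, a, s], ![0, c, m]]

/-- All normal forms to be factorised. -/
def forms : List M3 :=
  ((((List.finRange 4).flatMap fun p => (List.finRange 4).flatMap fun s => (List.finRange 4).map fun m =>
      form 1 0 0 p s m)) ++
    ((List.finRange 4).flatMap fun a => (List.finRange 4).flatMap fun b => (List.finRange 4).flatMap fun p =>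
      (List.finRange 4).flatMap fun s => (List.finRange 4).map fun m => form 0 a b p s m)).filter
    fun A => det3 A == 1 && !(eq3 (mul3 (sub1 A) (sub1 A)) fun _ _ => 0)

/-- The factors, in the order of `forms`. -/
def wits : List (ℕ × ℕ) := [
  (155204, 218126), (5188, 87060), (244484, 144427), (192004, 205886), (70916, 5125),
  (21508, 70660), (169476, 201750), (251652, 136215), (60612, 123948), (225028, 140351),
  (261956, 160783), (63492, 78856), (47236, 111672), (162308, 209962), (44036, 74764),
  (174660, 222218), (121104, 18019), (43216, 17342), (64656, 17131), (87312, 83281),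
  (258896, 85963), (172624, 84622), (241424, 149934), (128464, 147675), (222992, 150173),
  (195088, 216571), (107920, 213150), (161296, 217049), (235344, 36706), (253904, 36435),
  (92624, 33941), (195088, 35583), (156304, 100773), (241424, 102070), (161296, 100829),
  (121104, 100179), (87312, 166513), (27728, 167557), (53392, 166995), (105744, 166242),
  (185936, 230739), (256784, 229815), (112976, 231646), (222992, 230325), (185936, 51827),
  (170640, 52050), (256784, 52875), (97680, 50389), (226256, 118261), (195088, 117735),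
  (105744, 116306), (222992, 118169), (235344, 181586), (179728, 180710), (161296, 180965),
  (126288, 183451), (87312, 249697), (30800, 248773), (121104, 249203), (37072, 247890),
  (112976, 18386), (87312, 17477), (222992, 19609), (161296, 18653), (242576, 85714),
  (20560, 82261), (105744, 83562), (121104, 83839), (179728, 150994), (220048, 150117),
  (37072, 148858), (30800, 149197), (256784, 215443), (155344, 216949), (27728, 214921),
  (53392, 214383), (258896, 36579), (121104, 34383), (27728, 32929), (112976, 34790),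
  (256784, 102299), (128464, 100323), (235344, 101978), (222992, 101793), (161296, 165609),
  (242576, 164342), (64656, 167139), (172624, 165278), (105744, 231546), (87312, 232293),
  (241424, 229566), (195088, 230883), (172624, 52146), (105744, 51018), (126288, 50871),
  (30800, 49393), (179728, 117470), (107920, 116402), (161296, 117233), (185936, 117599),
  (121104, 183407), (87312, 183925), (241424, 181682), (195088, 180459), (222992, 247741),
  (53392, 248191), (258896, 247259), (43216, 247986), (156304, 18597), (155344, 18553),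
  (30800, 16609), (179728, 19446), (126288, 83883), (241424, 85666), (220048, 85337),
  (222992, 85429), (20560, 149065), (105744, 147838), (195088, 150735), (121104, 147575),
  (185936, 216423), (58512, 214427), (235344, 215118), (87312, 213865), (107920, 34746),
  (87312, 33897), (222992, 35981), (161296, 35045), (179728, 101106), (195088, 101323),
  (185936, 101191), (43216, 98986), (20560, 167497), (241424, 164250), (112976, 166386),
  (258896, 164091), (128464, 231915), (30800, 233413), (172624, 230538), (121104, 231767),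
  (220048, 52313), (27728, 49297), (58512, 49823), (195088, 51923), (87312, 116073),
  (172624, 117414), (126288, 116623), (121104, 116551), (20560, 182857), (222992, 181905),
  (112976, 183786), (30800, 182989), (155344, 246649), (105744, 248910), (179728, 245978),
  (161296, 246749), (226256, 19701), (220048, 19565), (256784, 20135), (27728, 16561),
  (112976, 83710), (195088, 84979), (161296, 84453), (155344, 84317), (235344, 149878),
  (107920, 147882), (87312, 148093), (185936, 150603), (20560, 214861), (121104, 213355),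
  (105744, 213094), (179728, 216302), (155344, 34909), (30800, 32977), (241424, 36754),
  (58512, 33455), (87312, 99709), (258896, 102391), (105744, 99910), (112976, 100042),
  (220048, 164461), (121104, 165963), (222992, 164505), (179728, 165370), (20560, 233293),
  (161296, 231377), (27728, 233353), (126288, 231871), (128464, 50927), (87312, 50301),
  (222992, 52405), (161296, 51401), (256784, 118691), (241424, 118414), (64656, 115711),
  (235344, 118342), (107920, 183742), (27728, 182917), (105744, 183638), (258896, 181455),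
  (20560, 248653), (195088, 246239), (172624, 245934), (126288, 249251)]

/-- The test of a factorisation. -/
def ok (A : M3) (w : ℕ × ℕ) : Bool :=
  eq3 (mul3 (dec w.1) (dec w.2)) A && tr3 (dec w.1) == 0 && mi3 (dec w.1) == 1 && det3 (dec w.1) == 1 &&
    tr3 (dec w.2) == 1 && mi3 (dec w.2) == 0 && det3 (dec w.2) == 1

set_option maxRecDepth 8000 in
theorem forms_ok : ((forms.zip wits).all fun x => ok x.1 x.2) = true ∧ forms.length ≤ wits.length := by
  decide +kernel

theorem eq3_eq {A B : M3} (h : eq3 A B = true) : A = B := by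
  simp only [eq3, List.all_eq_true, beq_iff_eq] at h
  exact funext fun i => funext fun j => h i (List.mem_finRange i) j (List.mem_finRange j)

theorem exists_wit {A : M3} (h : A ∈ forms) : ∃ w : ℕ × ℕ, ok A w = true := by
  rw [← List.map_fst_zip forms_ok.2, List.mem_map] at h
  obtain ⟨⟨B, w⟩, hm, rfl⟩ := h
  exact ⟨w, List.all_eq_true.1 forms_ok.1 _ hm⟩

/-- The element with a given code. -/
def phi (w : F) : Fin 4 → F := ![0, 1, w, w + 1]

variable {w : F}

theorem phi_ad [CharP F 2] (a b : Fin 4) : phi w (ad a b) = phi w a + phi w b := by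
  fin_cases a <;> fin_cases b <;> simp [phi, ad, g4] <;> grind

theorem phi_ml [CharP F 2] (hw : w ^ 2 + w + 1 = 0) (a b : Fin 4) : phi w (ml a b) = phi w a * phi w b := by
  fin_cases a <;> fin_cases b <;> simp [phi, ml, g4] <;> grind

theorem phi_bijective [CharP F 2] (hF : Fintype.card F = 4) (hw : w ^ 2 + w + 1 = 0) :
    Function.Bijective (phi w) := by
  rw [Fintype.bijective_iff_injective_and_card, Fintype.card_fin, hF]
  refine ⟨fun a b h => ?_, rfl⟩
  fin_cases a <;> fin_cases b <;> first | rfl | (exfalso; simp [phi] at h <;> grind)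

/-- The matrix with a given code. -/
def toF (w : F) (M : M3) : Matrix (Fin 3) (Fin 3) F := Matrix.of fun i j => phi w (M i j)

theorem toF_mul3 [CharP F 2] (hw : w ^ 2 + w + 1 = 0) (A B : M3) :
    toF w (mul3 A B) = toF w A * toF w B := by
  ext i j
  simp only [toF, Matrix.of_apply, Matrix.mul_apply, Fin.sum_univ_three, mul3, phi_ad, phi_ml hw]

theorem det_toF [CharP F 2] (hw : w ^ 2 + w + 1 = 0) (A : M3) : (toF w A).det = phi w (det3 A) := by
  simp only [det3, phi_ad, phi_ml hw, Matrix.det_fin_three, toF, Matrix.of_apply, CharTwo.sub_eq_add]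
  ring

theorem charpoly_toF [CharP F 2] (hw : w ^ 2 + w + 1 = 0) (A : M3) :
    (toF w A).charpoly = X ^ 3 + C (phi w (tr3 A)) * X ^ 2 + C (phi w (mi3 A)) * X + C (phi w (det3 A)) := by
  have : CharP F[X] 2 := inferInstance
  simp [tr3, mi3, det3, phi_ad, phi_ml hw, Matrix.charpoly, Matrix.det_fin_three, toF, Matrix.charmatrix_apply,
    CharTwo.sub_eq_add, CharTwo.neg_eq]
  ring

end Small4

open Small4 in
/-- `k = 3`. -/
theorem factor_three_small (hF : Fintype.card F = 4) {A : Matrix (Fin 3) (Fin 3) F} (hA : A.det = 1)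
    (hns : ∀ t : F, A ≠ t • 1) (ht : (A - 1) * (A - 1) ≠ 0) :
    ∃ R H, A = R * H ∧ R.charpoly = X ^ 3 + X + 1 ∧ H.charpoly = X ^ 3 + X ^ 2 + 1 := by
  have := charP_two_of_card_four hF
  obtain ⟨w, hw⟩ := exists_omega hF
  have hφ := phi_bijective hF hw
  obtain ⟨v, hv⟩ : ∃ v : Fin 3 → F, LinearIndependent F ![v, A *ᵥ v] := by
    by_contra h
    push Not at h
    have h' : ∀ v : Fin 3 → F, v ≠ 0 → ∃ s : F, s • v = A *ᵥ v := fun v hv => by
      have := h v
      rw [LinearIndependent.pair_iff' hv] at this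
      push Not at this
      exact this
    have hne : ∀ i : Fin 3, (Pi.single i 1 : Fin 3 → F) ≠ 0 := fun i he => by simpa using congrFun he i
    obtain ⟨s0, h0⟩ := h' _ (hne 0)
    obtain ⟨s1, h1⟩ := h' _ (hne 1)
    obtain ⟨s2, h2⟩ := h' _ (hne 2)
    obtain ⟨s, hs⟩ := h' (Pi.single 0 1 + Pi.single 1 1 + Pi.single 2 1) (fun he => by simpa using congrFun he 0)
    rw [mulVec_add, mulVec_add, ← h0, ← h1, ← h2] at hs
    have e0 : s = s0 := by simpa using congrFun hs 0
    have e1 : s = s1 := by simpa using congrFun hs 1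
    have e2 : s = s2 := by simpa using congrFun hs 2
    refine hns s (Matrix.ext_of_mulVec_single fun j => ?_)
    rw [smul_mulVec, one_mulVec]
    fin_cases j
    · rw [e0]; exact h0.symm
    · rw [e1]; exact h1.symm
    · rw [e2]; exact h2.symm
  obtain ⟨z, hz, hzz⟩ : ∃ z, z ∉ Submodule.span F (Set.range ![v, A *ᵥ v]) ∧
      (z = A *ᵥ (A *ᵥ v) ∨ A *ᵥ (A *ᵥ v) ∈ Submodule.span F (Set.range ![v, A *ᵥ v])) := by
    by_cases hm : A *ᵥ (A *ᵥ v) ∈ Submodule.span F (Set.range ![v, A *ᵥ v])
    · by_contra hh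
      push Not at hh
      have htop : Submodule.span F (Set.range ![v, A *ᵥ v]) = ⊤ :=
        Submodule.eq_top_iff'.2 fun x => by
          by_contra hx
          exact (hh x hx).2 hm
      have h := finrank_span_eq_card hv
      rw [htop, finrank_top, Module.finrank_pi, Fintype.card_fin, Fintype.card_fin] at h
      omega
    · exact ⟨_, hm, Or.inl rfl⟩
  set P : Matrix (Fin 3) (Fin 3) F := (Matrix.of ![v, A *ᵥ v, z])ᵀ with hP
  have hPx : ∀ x, P *ᵥ x = x 0 • v + x 1 • (A *ᵥ v) + x 2 • z := by
    intro x; funext i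
    simp [hP, Matrix.mulVec, dotProduct, Fin.sum_univ_three, mul_comm]
  have hli : LinearIndependent F ![v, A *ᵥ v, z] := by
    rw [Fintype.linearIndependent_iff]
    intro g hg
    rw [Fin.sum_univ_three] at hg
    simp only [Matrix.cons_val_zero, Matrix.cons_val_one, Matrix.cons_val] at hg
    have h2 : g 2 = 0 := by
      by_contra h2
      apply hz
      have : z = (-(g 2)⁻¹) • (g 0 • v + g 1 • (A *ᵥ v)) := by
        rw [eq_neg_of_add_eq_zero_left hg, smul_neg, neg_smul, neg_neg, inv_smul_smul₀ h2]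
      rw [this]
      exact Submodule.smul_mem _ _ (Submodule.add_mem _ (Submodule.smul_mem _ _ (Submodule.subset_span ⟨0, rfl⟩))
        (Submodule.smul_mem _ _ (Submodule.subset_span ⟨1, rfl⟩)))
    rw [h2, zero_smul, add_zero] at hg
    obtain ⟨h0, h1⟩ := LinearIndependent.pair_iff.1 hv _ _ hg
    intro i
    fin_cases i <;> assumption
  have hPu : IsUnit P.det := by
    rw [← Matrix.isUnit_iff_isUnit_det]
    exact Matrix.linearIndependent_cols_iff_isUnit.1 (by rw [hP]; exact hli)
  obtain ⟨c, a, b, hcab, hAA⟩ : ∃ c a b : Fin 4, ((c = 1 ∧ a = 0 ∧ b = 0) ∨ c = 0) ∧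
      A *ᵥ (A *ᵥ v) = phi w b • v + phi w a • (A *ᵥ v) + phi w c • z := by
    rcases hzz with h | h
    · exact ⟨1, 0, 0, Or.inl ⟨rfl, rfl, rfl⟩, by simp [phi, ← h]⟩
    · rw [Matrix.range_cons, Matrix.range_cons, Matrix.range_empty, Set.union_empty,
        Set.singleton_union, Submodule.mem_span_pair] at h
      obtain ⟨x, y, hxy⟩ := h
      obtain ⟨b, rfl⟩ := hφ.2 x
      obtain ⟨a, rfl⟩ := hφ.2 y
      exact ⟨0, a, b, Or.inr rfl, by simp [phi] at hxy ⊢; exact hxy.symm⟩
  set x := P⁻¹ *ᵥ (A *ᵥ z) with hx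
  obtain ⟨p, hp⟩ := hφ.2 (x 0)
  obtain ⟨s, hs⟩ := hφ.2 (x 1)
  obtain ⟨m, hm⟩ := hφ.2 (x 2)
  have hcol : A *ᵥ z = phi w p • v + phi w s • (A *ᵥ v) + phi w m • z := by
    rw [hp, hs, hm, ← hPx, hx, mulVec_mulVec, Matrix.mul_nonsing_inv P hPu, one_mulVec]
  set K := form c a b p s m with hK
  have hAP : A * P = P * toF w K := by
    refine Matrix.ext_iff_mulVec.2 fun y => ?_
    rw [← mulVec_mulVec, ← mulVec_mulVec, hPx, hPx, mulVec_add, mulVec_add, mulVec_smul, mulVec_smul,
      mulVec_smul, hcol, hAA]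
    simp [toF, hK, form, phi, Matrix.mulVec, dotProduct, Fin.sum_univ_three]
    module
  have hinv : A = P * toF w K * P⁻¹ := by
    rw [← hAP, Matrix.mul_assoc, Matrix.mul_nonsing_inv P hPu, Matrix.mul_one]
  have hu : IsUnit P := (Matrix.isUnit_iff_isUnit_det P).2 hPu
  have hdet : det3 K = 1 := hφ.1 (by
    rw [← det_toF hw, ← Matrix.det_conj hu, ← hinv, hA]
    simp [phi])
  have hmem : K ∈ forms := by
    refine List.mem_filter.2 ⟨?_, ?_⟩
    · simp only [List.mem_append, List.mem_flatMap, List.mem_map, List.mem_finRange, true_and]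
      rcases hcab with ⟨rfl, rfl, rfl⟩ | rfl
      · exact Or.inl ⟨p, s, m, rfl⟩
      · exact Or.inr ⟨a, b, p, s, m, rfl⟩
    · simp only [hdet, beq_self_eq_true, Bool.true_and, Bool.not_eq_true']
      by_contra h
      rw [Bool.not_eq_false] at h
      have h' := eq3_eq h
      apply ht
      have e : A - 1 = P * toF w (sub1 K) * P⁻¹ := by
        have e1 : toF w (sub1 K) = toF w K - 1 := by
          ext i j
          rcases eq_or_ne i j with rfl | hij
          · simp [toF, sub1, phi_ad, CharTwo.sub_eq_add, show phi w 1 = 1 from rfl]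
          · simp [toF, sub1, hij]
        rw [e1, Matrix.mul_sub, Matrix.sub_mul, ← hinv, Matrix.mul_one, Matrix.mul_nonsing_inv P hPu]
      have e2 : toF w (sub1 K) * toF w (sub1 K) = 0 := by
        rw [← toF_mul3 hw, h']
        ext i j
        simp [toF, phi]
      rw [e]
      calc P * toF w (sub1 K) * P⁻¹ * (P * toF w (sub1 K) * P⁻¹)
          = P * (toF w (sub1 K) * toF w (sub1 K)) * P⁻¹ := by
            simp only [Matrix.mul_assoc]
            rw [← Matrix.mul_assoc P⁻¹ P, Matrix.nonsing_inv_mul P hPu, Matrix.one_mul]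
        _ = 0 := by rw [e2, Matrix.mul_zero, Matrix.zero_mul]
  obtain ⟨wt, hwt⟩ := exists_wit hmem
  simp only [ok, Bool.and_eq_true, beq_iff_eq] at hwt
  obtain ⟨⟨⟨⟨⟨⟨hprod, r1⟩, r2⟩, r3⟩, q1⟩, q2⟩, q3⟩ := hwt
  refine ⟨P * toF w (dec wt.1) * P⁻¹, P * toF w (dec wt.2) * P⁻¹, ?_, ?_, ?_⟩
  · rw [hinv, ← eq3_eq hprod, toF_mul3 hw]
    simp only [Matrix.mul_assoc]
    rw [← Matrix.mul_assoc P⁻¹ P, Matrix.nonsing_inv_mul P hPu, Matrix.one_mul]
  · rw [← hu.unit_spec, Matrix.charpoly_units_conj, charpoly_toF hw, r1, r2, r3]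
    simp [phi]
  · rw [← hu.unit_spec, Matrix.charpoly_units_conj, charpoly_toF hw, q1, q2, q3]
    simp [phi]

end CfsgLib.OreSU
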