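import Cfsg.Agent.OreSU.Levi
import Cfsg.Agent.OreSU.Small

/-!
# Commutators from the Levi part: two and three dimensional blocks over four elements
-/

set_option autoImplicit false
set_option linter.unusedSectionVars false
set_option linter.unusedSimpArgs false

namespace CfsgLib.OreSU

open Matrix Polynomial
open CfsgLib.LevCover

variable {F : Type*} [Field F] [StarRing F] [Fintype F] {κ : Type*} [Fintype κ] [DecidableEq κ]
  (D : FinData F 2)
include D


theorem neg_eq_self (x : F) : -x = x := by linear_combination -x * two_eq_zero D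

/-- Blocks of size two. -/
theorem levi_small_two {v w : Matrix κ (Fin 2) F} {X Y : Matrix (Fin 2) (Fin 2) F} (hX : Rad v X) (hY : Rad w Y)
    (A : (Matrix (Fin 2) (Fin 2) F)ˣ) (h1 : (1 : F) * star (1 : F) = 1)
    (hT : (A : Matrix (Fin 2) (Fin 2) F).det = 1)
    (hA : (A : Matrix (Fin 2) (Fin 2) F) = 1 ∨ (A : Matrix (Fin 2) (Fin 2) F).trace ≠ 0) :
    IsComm (lo v X hX * dg A 1 h1 * up w Y hY) := by
  obtain ⟨ω, hw, hw0, hw1, hall⟩ := exists_omega_data D
  have h2 := two_eq_zero D
  have hws : star ω = ω ^ 2 := D.star_eq ω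
  have hn := neg_eq_self D
  set h : (Matrix (Fin 2) (Fin 2) F)ˣ := ⟨!![ω, 1; 1, 0], !![0, 1; 1, -ω],
    by simp [Matrix.mul_fin_two, Matrix.one_fin_two], by simp [Matrix.mul_fin_two, Matrix.one_fin_two]⟩ with hh
  set f : F[X] := Polynomial.X ^ 2 + C ω * Polynomial.X + C 1 with hf
  have hc : (h : Matrix (Fin 2) (Fin 2) F).charpoly = f := by
    show (!![ω, 1; 1, 0] : Matrix (Fin 2) (Fin 2) F).charpoly = _
    rw [charpoly_fin_two, hf]
    simp only [trace_fin_two_of, det_fin_two_of, add_zero, mul_zero, zero_sub, mul_one, hn]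
    rw [sub_eq_add_neg, ← neg_mul, ← C_neg, hn]
  have hc' : ((h⁻¹ : (Matrix (Fin 2) (Fin 2) F)ˣ) : Matrix (Fin 2) (Fin 2) F).charpoly = f := by
    show (!![0, 1; 1, -ω] : Matrix (Fin 2) (Fin 2) F).charpoly = _
    rw [charpoly_fin_two, hf]
    simp only [trace_fin_two_of, det_fin_two_of, zero_add, zero_mul, zero_sub, mul_one, hn]
    rw [sub_eq_add_neg, ← neg_mul, ← C_neg, hn]
  have hirr : Irreducible f := quad_irreducible ω 1 fun x => by
    rcases hall x with rfl | rfl | rfl | rfl
    · simp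
    · exact fun h => hw0 (by linear_combination h - h2)
    · exact fun h => one_ne_zero (α := F) (by linear_combination h - x ^ 2 * h2)
    · exact fun h => hw0 (by linear_combination h - (ω ^ 2 - ω) * hw - (ω - 1) * hw - h2)
  have hcyc : ∀ M : Matrix (Fin 2) (Fin 2) F, M.charpoly = f → Cyc M := fun M hM =>
    cyc_of_isCyc (cycAt_of_irreducible (by rw [hM]; exact hirr)
      (show (![1, 0] : Fin 2 → F) ≠ 0 from fun h => one_ne_zero (congrFun h 0))).isCyc
  have hdet : (h : Matrix (Fin 2) (Fin 2) F).det = 1 := by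
    show (!![ω, 1; 1, 0] : Matrix (Fin 2) (Fin 2) F).det = _
    simp [det_fin_two_of, hn]
  have hsurj : ∀ e : F, star e * e = 1 →
      ∃ c : gu F (Fin 2) κ, c * dg h 1 h1 = dg h 1 h1 * c ∧ dt F (Fin 2) κ c = e := by
    intro e he
    obtain ⟨t, ht, hte⟩ := exists_quot D.starData he
    have ht3 : t ^ 3 = 1 := by simpa [D.card] using FiniteField.pow_card_sub_one_eq_one t ht
    set s := t ^ 2
    have hs : s ≠ 0 := pow_ne_zero _ ht
    refine ⟨dg ⟨s • 1, s⁻¹ • 1, by simp [smul_smul, hs], by simp [smul_smul, hs]⟩ 1 h1,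
      dg_comm _ _ (Units.ext (by simp)), ?_⟩
    rw [dt_dg]
    simp only [det_smul, det_one, Fintype.card_fin, mul_one, one_pow]
    rw [show s ^ 2 = t by linear_combination t * ht3, hte]
  have hgood : Good κ h (1 : F) := by
    refine good_of_coprime h1 (f := f) (by rw [← hc, Matrix.aeval_self_charpoly]) ?_ ?_
    · simp only [hf, eval_add, eval_pow, eval_X, eval_C, eval_mul]
      exact fun h => hw0 (by linear_combination h - h2)
    · rw [hf, twist_quad _ _ one_ne_zero]
      simp only [star_one, C_1, one_mul, div_one, inv_one]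
      refine coprime_of_ne (hf ▸ (by simpa using hirr)) (by simpa using (quad_monic ω (1 : F)).1)
        (by simpa using (quad_monic (star ω) (1 : F)).1)
        (by rw [← C_1, (quad_monic _ _).2, (quad_monic _ _).2]) fun h => hw1 ?_
      have := congrArg (fun p => Polynomial.coeff p 1) h
      simp [coeff_X, coeff_C, coeff_one] at this
      rw [hws] at this
      exact mul_left_cancel₀ hw0 (by linear_combination -this)
  refine (classPair_inv h1 (det_one_of_real (by rw [hdet, star_one]) h1) hsurj hgood).isComm hX hY A h1 ?_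
  rcases hA with hA | hA
  · exact ⟨_, _, by rw [Units.mul_inv, hA], Sim.refl _, Sim.refl _⟩
  obtain ⟨R, H, e, hR, hH⟩ := factor_two_small (by rw [D.card]; norm_num) hw hT hA
  rw [← C_1, ← hf] at hR hH
  exact ⟨R, H, e, sim_units_of_cyc (hcyc _ hc) (hcyc _ hR) (by rw [hR, hc]),
    sim_units_of_cyc (hcyc _ hc') (hcyc _ hH) (by rw [hH, hc'])⟩

/-- Blocks of size three. -/
theorem levi_small_three {v w : Matrix κ (Fin 3) F} {X Y : Matrix (Fin 3) (Fin 3) F} (hX : Rad v X) (hY : Rad w Y)
    (A : (Matrix (Fin 3) (Fin 3) F)ˣ) (h1 : (1 : F) * star (1 : F) = 1)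
    (hT : (A : Matrix (Fin 3) (Fin 3) F).det = 1)
    (hA : (A : Matrix (Fin 3) (Fin 3) F) = 1 ∨ ((∀ t : F, (A : Matrix (Fin 3) (Fin 3) F) ≠ t • 1) ∧
      ((A : Matrix (Fin 3) (Fin 3) F) - 1) * ((A : Matrix (Fin 3) (Fin 3) F) - 1) ≠ 0)) :
    IsComm (lo v X hX * dg A 1 h1 * up w Y hY) := by
  obtain ⟨ω, hw, hw0, hw1, hall⟩ := exists_omega_data D
  have h2 := two_eq_zero D
  have hw3 : ω ^ 3 = 1 := by linear_combination (ω - 1) * hw
  have hws : star ω = ω ^ 2 := D.star_eq ω
  have h2p : (2 : F[X]) = 0 := by rw [show (2 : F[X]) = C (2 : F) from (map_ofNat C 2).symm, h2, C_0]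
  set h : (Matrix (Fin 3) (Fin 3) F)ˣ := ⟨!![0, 0, 1; 1, 0, 1; 0, 1, 0], !![-1, 1, 0; 0, 0, 1; 1, 0, 0],
    by simp [Matrix.one_fin_three, Matrix.mul_fin_three], by simp [Matrix.one_fin_three, Matrix.mul_fin_three]⟩ with hh
  set f : F[X] := Polynomial.X ^ 3 + Polynomial.X + 1 with hf
  set g : F[X] := Polynomial.X ^ 3 + Polynomial.X ^ 2 + 1 with hg
  have hc : (h : Matrix (Fin 3) (Fin 3) F).charpoly = f := by
    show (!![0, 0, 1; 1, 0, 1; 0, 1, 0] : Matrix (Fin 3) (Fin 3) F).charpoly = _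
    rw [Matrix.charpoly, det_fin_three, hf]
    simp [charmatrix_apply]
    linear_combination -(Polynomial.X + 1) * h2p
  have hc' : ((h⁻¹ : (Matrix (Fin 3) (Fin 3) F)ˣ) : Matrix (Fin 3) (Fin 3) F).charpoly = g := by
    show (!![-1, 1, 0; 0, 0, 1; 1, 0, 0] : Matrix (Fin 3) (Fin 3) F).charpoly = _
    rw [Matrix.charpoly, det_fin_three, hg]
    simp [charmatrix_apply]
    linear_combination -(1 : F[X]) * h2p
  have hx : ∀ x : F, x ≠ 0 → x ^ 3 = 1 := fun x hx => by
    simpa [D.card] using FiniteField.pow_card_sub_one_eq_one x hx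
  have hfd : f.natDegree = 3 := by rw [hf]; compute_degree!
  have hgd : g.natDegree = 3 := by rw [hg]; compute_degree!
  have hfm : f.Monic := by rw [hf]; monicity!
  have hgm : g.Monic := by rw [hg]; monicity!
  have hfr : ∀ x : F, x ^ 3 + x + 1 ≠ 0 := fun x h => by
    by_cases hx0 : x = 0
    · simp [hx0] at h
    · exact hx0 (by linear_combination h - hx x hx0 - h2)
  have hgr : ∀ x : F, x ^ 3 + x ^ 2 + 1 ≠ 0 := fun x h => by
    by_cases hx0 : x = 0
    · simp [hx0] at h
    · exact pow_ne_zero 2 hx0 (by linear_combination h - hx x hx0 - h2)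
  have hirr : ∀ p : F[X], p.Monic → p.natDegree = 3 → (∀ x : F, p.eval x ≠ 0) → Irreducible p := by
    intro p hp hd hr
    refine (hp.irreducible_iff_roots_eq_zero_of_degree_le_three (by omega) hd.le).2 ?_
    exact Multiset.eq_zero_of_forall_notMem fun x hx => hr x ((mem_roots hp.ne_zero).1 hx)
  have hif := hirr f hfm hfd fun x => by simpa [hf] using hfr x
  have hig := hirr g hgm hgd fun x => by simpa [hg] using hgr x
  have hcyc : ∀ (p : F[X]) (M : Matrix (Fin 3) (Fin 3) F), Irreducible p → M.charpoly = p → Cyc M := fun p M hp hM =>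
    cyc_of_isCyc (cycAt_of_irreducible (by rw [hM]; exact hp)
      (show (![1, 0, 0] : Fin 3 → F) ≠ 0 from fun h => one_ne_zero (congrFun h 0))).isCyc
  have hdet : (h : Matrix (Fin 3) (Fin 3) F).det = 1 := by
    show (!![0, 0, 1; 1, 0, 1; 0, 1, 0] : Matrix (Fin 3) (Fin 3) F).det = _
    simp [det_fin_three]
  have hsurj : ∀ e : F, star e * e = 1 →
      ∃ c : gu F (Fin 3) κ, c * dg h 1 h1 = dg h 1 h1 * c ∧ dt F (Fin 3) κ c = e := by
    have hdc : ((h : Matrix (Fin 3) (Fin 3) F) + ω • 1).det = ω := by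
      show ((!![0, 0, 1; 1, 0, 1; 0, 1, 0] : Matrix (Fin 3) (Fin 3) F) + ω • 1).det = ω
      simp [det_fin_three, Matrix.one_apply]
      linear_combination hw3 - ω * h2 + h2
    set c := ((Matrix.isUnit_iff_isUnit_det _).2 (by rw [hdc]; exact isUnit_iff_ne_zero.2 hw0) :
      IsUnit ((h : Matrix (Fin 3) (Fin 3) F) + ω • 1)).unit with hcdef
    have hcv : (c : Matrix (Fin 3) (Fin 3) F) = (h : Matrix (Fin 3) (Fin 3) F) + ω • 1 := IsUnit.unit_spec _
    have hcc : c * h = h * c := Units.ext (by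
      rw [Units.val_mul, Units.val_mul, hcv, Matrix.add_mul, Matrix.mul_add, Matrix.smul_mul, Matrix.mul_smul,
        Matrix.one_mul, Matrix.mul_one])
    have hcd : dt F (Fin 3) κ (dg c 1 h1) = ω ^ 2 := by
      rw [dt_dg, hcv, hdc, one_pow, mul_one, hws]
      field_simp
      linear_combination -hw3
    have hcomm : Commute (dg c 1 h1 : gu F (Fin 3) κ) (dg h 1 h1) := dg_comm _ _ hcc
    intro e he
    have he0 : e ≠ 0 := fun h0 => by simp [h0] at he
    rcases hall e with h | h | h | h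
    · exact absurd h he0
    · exact ⟨1, by simp, by rw [map_one, h]⟩
    · exact ⟨dg c 1 h1 ^ 2, (hcomm.pow_left 2).eq, by rw [map_pow, hcd, h]; linear_combination ω * hw3⟩
    · exact ⟨dg c 1 h1, hcomm.eq, by rw [hcd, h]⟩
  have hgood : Good κ h (1 : F) := by
    refine good_of_coprime h1 (f := f) (by rw [← hc, Matrix.aeval_self_charpoly]) (by simpa [hf] using hfr 1) ?_
    have htw : (f.map (starRingEnd F)).reverse = g := by
      rw [hf, Polynomial.map_add, Polynomial.map_add, Polynomial.map_pow, map_X, Polynomial.map_one, hg]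
      ext n
      rw [coeff_reverse, show (Polynomial.X ^ 3 + Polynomial.X + 1 : F[X]).natDegree = 3 by compute_degree!]
      rcases n with _ | _ | _ | _ | n
      · simp [revAt_le (show 0 ≤ 3 by omega), coeff_X, coeff_one]
      · simp [revAt_le (show 1 ≤ 3 by omega), coeff_X, coeff_one, coeff_X_pow]
      · simp [revAt_le (show 2 ≤ 3 by omega), coeff_X, coeff_one, coeff_X_pow]
      · simp [revAt_le (show 3 ≤ 3 by omega), coeff_X, coeff_one, coeff_X_pow]
      · rw [revAt_eq_self_of_lt (by omega)]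
        simp [coeff_X, coeff_one, coeff_X_pow]
    rw [htw]
    refine coprime_of_ne hif hfm hgm (by rw [hfd, hgd]) fun h => ?_
    have := congrArg (fun p => Polynomial.coeff p 1) h
    simp [hf, hg, coeff_X, coeff_one, coeff_X_pow] at this
  refine (classPair_inv h1 (det_one_of_real (by rw [hdet, star_one]) h1) hsurj hgood).isComm hX hY A h1 ?_
  rcases hA with hA | ⟨hns, hA⟩
  · exact ⟨_, _, by rw [Units.mul_inv, hA], Sim.refl _, Sim.refl _⟩
  obtain ⟨R, H, e, hR, hH⟩ := factor_three_small (by rw [D.card]; norm_num) hT hns hA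
  rw [← hf] at hR
  rw [← hg] at hH
  exact ⟨R, H, e, sim_units_of_cyc (hcyc _ _ hif hc) (hcyc _ _ hif hR) (by rw [hR, hc]),
    sim_units_of_cyc (hcyc _ _ hig hc') (hcyc _ _ hig hH) (by rw [hH, hc'])⟩

end CfsgLib.OreSU
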