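import Cfsg.Agent.OreSU.LeviSmall

/-!
# Non-scalar elements of determinant one are commutators
-/

set_option autoImplicit false
set_option linter.unusedSectionVars false
set_option linter.unusedSimpArgs false

namespace CfsgLib.OreSU

open Matrix Polynomial
open CfsgLib.SourourProduct (Indep3)

variable {F : Type*} [Field F] [StarRing F] [Fintype F] {q k m : ℕ}

/-- A quadratic matrix without eigenvalues. -/
def Quad (M : Matrix (Fin k) (Fin k) F) : Prop :=
  (∃ a b : F, M * M = a • M + b • 1) ∧ ∀ t : F, (M - t • 1).det ≠ 0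

/-- Upper left blocks which need a preliminary change. -/
def Bad (q : ℕ) (M : Matrix (Fin k) (Fin k) F) : Prop :=
  (2 ≤ k ∧ ∃ c : F, c ≠ 1 ∧ M = c • 1) ∨ (q = 2 ∧ k ≤ 3 ∧ (M - 1) * (M - 1) = 0 ∧ M ≠ 1) ∨ (q = 2 ∧ 4 ≤ k ∧ Quad M)

theorem det_eigen {M : Matrix (Fin k) (Fin k) F} {t : F} {z : Fin k → F} (hz : z ≠ 0) (h : M *ᵥ z = t • z) :
    (M - t • 1).det = 0 :=
  Matrix.exists_mulVec_eq_zero_iff.1 ⟨z, hz, by rw [sub_mulVec, smul_mulVec, one_mulVec, h, sub_self]⟩

theorem conjTranspose_smul_one_sub (M : Matrix (Fin k) (Fin k) F) (t : F) : (M - t • 1)ᴴ = Mᴴ - star t • 1 := by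
  rw [conjTranspose_sub, conjTranspose_smul, conjTranspose_one]

theorem Bad.conj {M : Matrix (Fin k) (Fin k) F} (h : Bad q M) : Bad q Mᴴ := by
  rcases h with ⟨hk, c, hc, hM⟩ | ⟨hq, hk, h0, h1⟩ | ⟨hq, hk, ⟨a, b, hab⟩, hd⟩
  · exact Or.inl ⟨hk, star c, fun h => hc (by rw [← star_star c, h, star_one]),
      by rw [hM, conjTranspose_smul, conjTranspose_one]⟩
  · refine Or.inr (Or.inl ⟨hq, hk, ?_, fun h => h1 ?_⟩)
    · have := congrArg conjTranspose h0
      rwa [conjTranspose_mul, conjTranspose_sub, conjTranspose_one, conjTranspose_zero] at this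
    · rw [← conjTranspose_conjTranspose M, h, conjTranspose_one]
  · refine Or.inr (Or.inr ⟨hq, hk, ⟨star a, star b, ?_⟩, fun t ht => hd (star t) ?_⟩)
    · have := congrArg conjTranspose hab
      rwa [conjTranspose_mul, conjTranspose_add, conjTranspose_smul, conjTranspose_smul, conjTranspose_one] at this
    · rw [← star_eq_zero, ← det_conjTranspose, conjTranspose_smul_one_sub, star_star, ht]

/-- The final step. -/
theorem levi_any (D : FinData F q) (hm : m ≤ 1) (hn : 3 ≤ 2 * k + m) (hex : ¬ (k = 1 ∧ q = 2))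
    {v w : Matrix (Fin m) (Fin k) F} {X Y : Matrix (Fin k) (Fin k) F} (hX : Rad v X) (hY : Rad w Y)
    (A : (Matrix (Fin k) (Fin k) F)ˣ) (h1 : (1 : F) * star (1 : F) = 1)
    (hT : star (A : Matrix (Fin k) (Fin k) F).det = (A : Matrix (Fin k) (Fin k) F).det)
    (hbad : ¬ Bad q (A : Matrix (Fin k) (Fin k) F)) :
    IsComm (lo v X hX * dg A 1 h1 * up w Y hY) := by
  have hA0 : (A : Matrix (Fin k) (Fin k) F).det ≠ 0 := ((Matrix.isUnit_iff_isUnit_det _).1 A.isUnit).ne_zero
  have hq := D.two_le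
  rcases k with _ | _ | j
  · omega
  · exact levi_k1 D (by omega) (by rw [Fintype.card_fin]; omega) hX hY A h1 hT
  · 
    have hscal : (∀ t : F, (A : Matrix (Fin (j + 2)) (Fin (j + 2)) F) ≠ t • 1) ∨
        (A : Matrix (Fin (j + 2)) (Fin (j + 2)) F) = 1 := by
      by_cases h : ∃ t : F, (A : Matrix (Fin (j + 2)) (Fin (j + 2)) F) = t • 1
      · obtain ⟨t, ht⟩ := h
        refine Or.inr ?_
        by_cases h1 : t = 1
        · rw [ht, h1, one_smul]
        · exact absurd (Or.inl ⟨by omega, t, h1, ht⟩) hbad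
      · exact Or.inl fun t ht => h ⟨t, ht⟩
    rcases (show q = 2 ∨ 3 ≤ q by omega) with rfl | h3
    · have hT1 : (A : Matrix (Fin (j + 2)) (Fin (j + 2)) F).det = 1 := real_eq_one D hT hA0
      have h2 := two_eq_zero D
      rcases j with _ | _ | i
      · refine levi_small_two D hX hY A h1 hT1 ?_
        by_cases h : (A : Matrix (Fin 2) (Fin 2) F) = 1
        · exact Or.inl h
        refine Or.inr fun htr => hbad (Or.inr (Or.inl ⟨rfl, by omega, ?_, h⟩))
        have hc := Matrix.aeval_self_charpoly (A : Matrix (Fin 2) (Fin 2) F)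
        rw [charpoly_fin_two, htr, hT1, C_0, zero_mul, sub_zero, C_1, map_add, map_pow, aeval_X, map_one, pow_two] at hc
        simp only [Matrix.sub_mul, Matrix.mul_sub, Matrix.one_mul, Matrix.mul_one]
        have hA2 : (2 : F) • (A : Matrix (Fin 2) (Fin 2) F) = 0 := by rw [h2, zero_smul]
        rw [two_smul] at hA2
        linear_combination (norm := module) hc - hA2
      · refine levi_small_three D hX hY A h1 hT1 ?_
        by_cases h : (A : Matrix (Fin 3) (Fin 3) F) = 1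
        · exact Or.inl h
        exact Or.inr ⟨hscal.resolve_right h, fun h0 => hbad (Or.inr (Or.inl ⟨rfl, by omega, h0, h⟩))⟩
      · refine levi_two D hX hY A h1 hT1 ?_
        by_cases h : (A : Matrix (Fin (i + 4)) (Fin (i + 4)) F) = 1
        · exact Or.inl h
        refine Or.inr ⟨hscal.resolve_right h, ?_⟩
        by_contra hno
        push Not at hno
        refine hbad (Or.inr (Or.inr ⟨rfl, by omega,
          SourourProduct.quadratic_of_forall_not_indep3 (fun ⟨t, ht⟩ => hscal.resolve_right h t ht) hno.2, fun t ht => ?_⟩))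
        obtain ⟨z, hz0, hz⟩ := Matrix.exists_mulVec_eq_zero_iff.2 ht
        rw [sub_mulVec, smul_mulVec, one_mulVec, sub_eq_zero] at hz
        exact hno.1 t z hz0 hz
    · exact levi_one D h3 hX hY A h1 hT hscal

theorem exists_rank_one {N : Matrix (Fin k) (Fin k) F} (hk : k ≤ 3) (h : N * N = 0) (h0 : N ≠ 0) :
    ∃ p φ : Fin k → F, N = vecMulVec p φ ∧ p ≠ 0 ∧ φ ≠ 0 ∧ φ ⬝ᵥ p = 0 := by
  classical
  set L := Matrix.mulVecLin N
  have hle : LinearMap.range L ≤ LinearMap.ker L := by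
    rintro - ⟨x, rfl⟩
    rw [LinearMap.mem_ker]
    show N *ᵥ (N *ᵥ x) = 0
    rw [mulVec_mulVec, h, zero_mulVec]
  have hr := LinearMap.finrank_range_add_finrank_ker L
  rw [Module.finrank_fin_fun] at hr
  have hle' := Submodule.finrank_mono hle
  have h1 : Module.finrank F (LinearMap.range L) = 1 := by
    have hne : LinearMap.range L ≠ ⊥ := fun hb => h0 (Matrix.ext_iff_mulVec.2 fun x => by
      rw [zero_mulVec]
      exact LinearMap.congr_fun (LinearMap.range_eq_bot.1 hb) x)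
    have := Submodule.one_le_finrank_iff.2 hne
    omega
  obtain ⟨⟨p, hp⟩, hp0, hspan⟩ := finrank_eq_one_iff'.1 h1
  have hp' : p ≠ 0 := fun h => hp0 (Subtype.ext h)
  choose φ hφ using fun j => hspan ⟨L (Pi.single j 1), LinearMap.mem_range_self L _⟩
  have hN : N = vecMulVec p φ := by
    ext i j
    have := congrFun (congrArg Subtype.val (hφ j)) i
    simp [L] at this
    rw [vecMulVec_apply, ← this]
    ring
  have hφ0 : φ ≠ 0 := fun h => h0 (by rw [hN, h, vecMulVec_zero])
  refine ⟨p, φ, hN, hp', hφ0, ?_⟩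
  rw [hN, vecMulVec_mul_vecMulVec, vecMulVec_smul] at h
  rcases smul_eq_zero.1 h with h' | h'
  · exact h'
  · exact absurd (hN.trans h') h0

theorem vecMulVec_star_ne_zero {a u : Fin k → F} (ha : a ≠ 0) (hu : u ≠ 0) : vecMulVec a (star u) ≠ 0 := fun h => by
  obtain ⟨i, hi⟩ := Function.ne_iff.1 ha
  obtain ⟨j, hj⟩ := Function.ne_iff.1 hu
  have := congrFun (congrFun h i) j
  simp only [vecMulVec_apply, Pi.star_apply, Matrix.zero_apply, mul_eq_zero, star_eq_zero] at this
  exact this.elim hi hj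

theorem not_bad_scalar {c : F} (hc : c ≠ 1) {a u : Fin k → F} (hau : star u ⬝ᵥ a = 0) (ha : a ≠ 0) (hu : u ≠ 0)
    (hc0 : c ≠ 0) :
    ¬ Bad q ((c • (1 : Matrix (Fin k) (Fin k) F)) * (1 + vecMulVec a (star u))) := by
  set M := (c • (1 : Matrix (Fin k) (Fin k) F)) * (1 + vecMulVec a (star u))
  have hMa : M *ᵥ a = c • a := by
    simp [M, add_mulVec, ← mulVec_mulVec, vecMulVec_mulVec, hau, smul_mulVec]
  rintro (⟨-, c', -, hM⟩ | ⟨-, -, h0, -⟩ | ⟨-, -, -, hd⟩)
  · have h := hMa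
    rw [hM, smul_mulVec, one_mulVec] at h
    have hcc : c' = c := smul_left_injective F ha h
    rw [hcc] at hM
    refine vecMulVec_star_ne_zero ha hu ?_
    have h2 : c • vecMulVec a (star u) = 0 := by
      simp only [M, Matrix.smul_mul, Matrix.one_mul, smul_add] at hM
      exact add_eq_left.1 hM
    exact (smul_eq_zero.1 h2).resolve_left hc0
  · have h := congrArg (· *ᵥ a) h0
    simp only [← mulVec_mulVec, sub_mulVec, one_mulVec, hMa, mulVec_smul, mulVec_sub, zero_mulVec] at h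
    have h' : ((c - 1) * (c - 1)) • a = 0 := by linear_combination (norm := module) h
    exact hc (sub_eq_zero.1 (mul_self_eq_zero.1 ((smul_eq_zero.1 h').resolve_right ha)))
  · exact hd c (det_eigen ha hMa)

theorem not_bad_quad {A : Matrix (Fin k) (Fin k) F} (hA : Quad A) (hk : 4 ≤ k) {a u : Fin k → F}
    (ha : a ≠ 0) (hu : u ≠ 0) (hau : star u ⬝ᵥ a = 0) : ¬ Bad q (A * (1 + vecMulVec a (star u))) := by
  obtain ⟨⟨s, t, hst⟩, hd⟩ := hA
  have hA0 : A.det ≠ 0 := by simpa using hd 0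
  set b := A *ᵥ a
  have hb : b ≠ 0 := fun h => ha (Matrix.eq_zero_of_mulVec_eq_zero hA0 h)
  set M := A * (1 + vecMulVec a (star u))
  have hM : ∀ z, M *ᵥ z = A *ᵥ z + (star u ⬝ᵥ z) • b := fun z => by
    simp [M, b, ← mulVec_mulVec, add_mulVec, vecMulVec_mulVec, mulVec_add, mulVec_smul]
  rintro (⟨-, c, -, hc⟩ | ⟨-, hk', -⟩ | ⟨-, -, ⟨s', t', hst'⟩, -⟩)
  · refine hd c (det_eigen ha ?_)
    have h := hM a
    rw [hau, zero_smul, add_zero, hc, smul_mulVec, one_mulVec] at h
    exact h.symm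
  · omega
  · obtain ⟨i, rfl⟩ : ∃ i, k = i + 3 := ⟨k - 3, by omega⟩
    have key : ∀ z, star u ⬝ᵥ z = 0 → (s' - s) • (A *ᵥ z) + (t' - t) • z = (star u ⬝ᵥ (A *ᵥ z)) • b := by
      intro z hz
      have h := congrArg (· *ᵥ z) hst'
      simp only [← mulVec_mulVec, add_mulVec, smul_mulVec, one_mulVec] at h
      rw [hM z, hz, zero_smul, add_zero, hM, mulVec_mulVec, hst, add_mulVec, smul_mulVec, smul_mulVec,
        one_mulVec] at h
      linear_combination (norm := module) -h
    obtain ⟨z, hzu, hzA, hz0⟩ := exists_orth_two (star u) (star u ᵥ* A)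
    rw [dotProduct_comm] at hzu hzA
    rw [← dotProduct_mulVec] at hzA
    have hz := key z hzu
    rw [hzA, zero_smul] at hz
    have hs : s' = s := by
      by_contra hne
      refine hd (-((s' - s)⁻¹ * (t' - t))) (det_eigen hz0 ?_)
      rw [← inv_smul_smul₀ (sub_ne_zero.2 hne) (A *ᵥ z), eq_neg_of_add_eq_zero_left hz]
      module
    rw [hs, sub_self, zero_smul, zero_add, smul_eq_zero] at hz
    have ht : t' - t = 0 := hz.resolve_right hz0
    obtain ⟨e, he⟩ := exists_dot_eq (show star u ≠ 0 from fun h => hu (star_eq_zero.1 h)) 1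
    rw [dotProduct_comm] at he
    refine hd (star u ⬝ᵥ (A *ᵥ e)) (Matrix.exists_vecMul_eq_zero_iff.1
      ⟨star u, fun h => hu (star_eq_zero.1 h), ?_⟩)
    refine funext fun x => ?_
    set z := (Pi.single x 1 : Fin (i + 3) → F) - (star u x) • e
    have hzu : star u ⬝ᵥ z = 0 := by
      simp only [z, dotProduct_sub, dotProduct_smul, dotProduct_single, mul_one, he, smul_eq_mul, sub_self]
    have h := key z hzu
    rw [hs, sub_self, ht, zero_smul, zero_smul, add_zero, eq_comm, smul_eq_zero] at h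
    have h' := h.resolve_right hb
    simp only [z, mulVec_sub, mulVec_smul, dotProduct_sub, dotProduct_smul, smul_eq_mul] at h'
    simp only [vecMul_sub, vecMul_smul, vecMul_one, Pi.sub_apply, Pi.smul_apply, smul_eq_mul, Pi.zero_apply]
    rw [show (star u ᵥ* A) x = star u ⬝ᵥ (A *ᵥ Pi.single x 1) by rw [dotProduct_mulVec, dotProduct_single, mul_one]]
    linear_combination h'

theorem not_bad_transvection (D : FinData F 2) {A : Matrix (Fin k) (Fin k) F} {p φ a u : Fin k → F} (hk : k ≤ 3)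
    (hA : A = 1 + vecMulVec p φ) (hp : p ≠ 0) (hφ : φ ≠ 0) (hφp : φ ⬝ᵥ p = 0) (hdet : A.det = 1)
    (hgs : GoodShift p (star φ) a u) : ¬ Bad 2 (A * (1 + vecMulVec a (star u))) := by
  obtain ⟨hau, ha, hu, hgs⟩ := hgs
  rcases hgs with ⟨hap, huq⟩ | ⟨rfl, rfl⟩
  swap
  · have h1 : A * (1 + vecMulVec (-p) (star (star φ))) = 1 := by
      rw [hA, star_star, neg_vecMulVec, Matrix.add_mul, Matrix.mul_add, Matrix.mul_add, Matrix.mul_one,
        Matrix.one_mul, Matrix.mul_one, Matrix.mul_neg, vecMulVec_mul_vecMulVec, hφp, zero_smul, vecMulVec_zero]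
      abel
    rw [h1]
    rintro (⟨hk2, c, hc, he⟩ | ⟨-, -, -, hne⟩ | ⟨-, hk4, -⟩)
    · refine hc ?_
      have := congrFun (congrFun he ⟨0, by omega⟩) ⟨0, by omega⟩
      simpa using this.symm
    · exact hne rfl
    · omega
  set b := A *ᵥ a
  set M := A * (1 + vecMulVec a (star u))
  have hM : ∀ z, (M - 1) *ᵥ z = (φ ⬝ᵥ z) • p + (star u ⬝ᵥ z) • b := fun z => by
    simp [M, b, hA, sub_mulVec, ← mulVec_mulVec, add_mulVec, vecMulVec_mulVec, mulVec_add, mulVec_smul]
    abel
  have hbp : ∀ t : F, b ≠ t • p := fun t ht => hap (t - φ ⬝ᵥ a) (by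
    simp only [b, hA, add_mulVec, one_mulVec, vecMulVec_mulVec, op_smul_eq_smul] at ht
    rw [sub_smul, ← ht]; abel)
  have hsu : star u ≠ 0 := fun h => hu (star_eq_zero.1 h)
  have huφ : ∀ t : F, star u ≠ t • φ := fun t ht => huq (star t) (by
    rw [← star_smul, ← ht, star_star])
  have hφu : ∀ t : F, φ ≠ t • star u := fun t ht => by
    have ht0 : t ≠ 0 := fun h => hφ (by rw [ht, h, zero_smul])
    exact huφ t⁻¹ (by rw [ht, inv_smul_smul₀ ht0])
  obtain ⟨z₁, hz₁u, hz₁⟩ := exists_dot_two hsu hφu 1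
  obtain ⟨z₂, hz₂φ, hz₂⟩ := exists_dot_two hφ huφ 1
  rw [dotProduct_comm] at hz₁u hz₁ hz₂φ hz₂
  have e1 : (M - 1) *ᵥ z₁ = p := by rw [hM, hz₁, hz₁u]; simp
  have e2 : (M - 1) *ᵥ z₂ = b := by rw [hM, hz₂, hz₂φ]; simp
  have hind : ∀ x y : F, x • p + y • b = 0 → x = 0 ∧ y = 0 := by
    intro x y h
    rcases eq_or_ne y 0 with hy | hy
    · rw [hy, zero_smul, add_zero, smul_eq_zero] at h
      exact ⟨h.resolve_right hp, hy⟩
    · refine absurd ?_ (hbp (-(y⁻¹ * x)))
      rw [← inv_smul_smul₀ hy b, eq_neg_of_add_eq_zero_right h]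
      module
  rintro (⟨hk2, c, -, hc⟩ | ⟨-, -, h0, -⟩ | ⟨-, hk4, -⟩)
  · have hN : ∀ z, (M - 1) *ᵥ z = (c - 1) • z := fun z => by
      rw [hc, sub_mulVec, smul_mulVec, one_mulVec, sub_smul, one_smul]
    have hc1 : c ≠ 1 := fun h => hp (by rw [← e1, hN, h, sub_self, zero_smul])
    rcases (show k = 2 ∨ k = 3 by omega) with rfl | rfl
    · refine hc1 ?_
      have hd : M.det = 1 := by
        rw [show M = A * (1 + vecMulVec a (star u)) from rfl, det_mul, hdet, vecMulVec_eq Unit,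
          det_one_add_replicateCol_mul_replicateRow, hau, add_zero, one_mul]
      rw [hc, det_smul, det_one, mul_one, Fintype.card_fin] at hd
      exact sub_eq_zero.1 (mul_self_eq_zero.1 (by linear_combination hd + (1 - c) * two_eq_zero D))
    · obtain ⟨z, h1, h2, hz⟩ := exists_orth_two (m := 0) φ (star u)
      rw [dotProduct_comm] at h1 h2
      have := hM z
      rw [hN, h1, h2, zero_smul, zero_smul, add_zero, smul_eq_zero] at this
      exact this.elim (sub_ne_zero.2 hc1) hz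
  · have hz : ∀ x : Fin k → F, (M - 1) *ᵥ ((M - 1) *ᵥ x) = 0 := fun x => by rw [mulVec_mulVec, h0, zero_mulVec]
    obtain ⟨hp1, hp2⟩ := hind _ _ ((hM p).symm.trans (by rw [← e1, hz]))
    obtain ⟨hb1, hb2⟩ := hind _ _ ((hM b).symm.trans (by rw [← e2, hz]))
    have hli : LinearIndependent F ![z₁, z₂, p, b] := by
      rw [Fintype.linearIndependent_iff]
      intro g hg
      simp [Fin.sum_univ_four] at hg
      have g0 : g 0 = 0 := by
        have := congrArg (φ ⬝ᵥ ·) hg
        simpa [dotProduct_add, dotProduct_smul, hz₁, hz₂φ, hp1, hb1] using this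
      have g1 : g 1 = 0 := by
        have := congrArg (star u ⬝ᵥ ·) hg
        simpa [dotProduct_add, dotProduct_smul, hz₁u, hz₂, hp2, hb2] using this
      obtain ⟨g2, g3⟩ := hind (g 2) (g 3) (by rw [g0, g1, zero_smul, zero_smul, zero_add, zero_add] at hg; exact hg)
      intro i; fin_cases i <;> assumption
    have := hli.fintype_card_le_finrank
    rw [Fintype.card_fin, Module.finrank_fin_fun] at this
    omega
  · omega

/-- The main theorem on the split model. -/
theorem isComm_of_not_scal (D : FinData F q) (hm : m ≤ 1) (hn : 3 ≤ 2 * k + m) (hex : ¬ (k = 1 ∧ q = 2))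
    (g : gu F (Fin k) (Fin m)) (hg : dt F (Fin k) (Fin m) g = 1) (hns : ¬ IsScal g) : IsComm g := by
  haveI : Subsingleton (Fin m) := Fin.subsingleton_iff_le_one.2 hm
  haveI : NeZero k := ⟨by omega⟩
  have SD := D.starData
  obtain ⟨δ, hδ, hδ0⟩ := SD.skew
  obtain ⟨a, ha⟩ := exists_invertible hδ hδ0 g
  have e1 : Equiv' g (a * g * a⁻¹) := (Equiv'.refl g).conj a
  obtain ⟨g₁, e, hu, hreal⟩ : ∃ g₁, Equiv' g g₁ ∧ IsUnit (m11 g₁) ∧ star (m11 g₁).det = (m11 g₁).det := by
    rcases Nat.eq_zero_or_pos m with rfl | hm0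
    · refine ⟨_, e1, ha, ?_⟩
      obtain ⟨v, w, X, Y, hX, hY, A, μ, hμ, hf, hA⟩ := exists_form _ ha
      have h := e1.dt_eq_one hg
      rw [hf, map_mul, map_mul, dt_apply, dt_apply (up w Y hY), mat_lo, det_b3_lower, det_up, dt_dg,
        Fintype.card_fin, pow_zero, mul_one] at h
      simp only [det_one, one_mul, mul_one] at h
      rw [mul_inv_eq_one₀ (star_ne_zero.2 ((Matrix.isUnit_iff_isUnit_det _).1 A.isUnit).ne_zero)] at h
      rw [← hA, ← h]
    · haveI : Nonempty (Fin m) := ⟨⟨0, hm0⟩⟩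
      have h3 : Nontrivial (Fin k) ∨ ∃ r : F, star r = r ∧ r ≠ 0 ∧ r ≠ 1 := by
        by_cases hk : k = 1
        · exact Or.inr (D.exists_real (by have := D.two_le; omega))
        · exact Or.inl (Fin.nontrivial_iff_two_le.2 (by omega))
      obtain ⟨g', e', h1, h2⟩ := exists_middle_one SD h3 _ (e1.not_scal hns) ha
      exact ⟨g', e1.trans e', h1, h2⟩
  have final : ∀ g₂ : gu F (Fin k) (Fin m), Equiv' g g₂ → IsUnit (m11 g₂) →
      star (m11 g₂).det = (m11 g₂).det → ¬ Bad q (m11 g₂) → IsComm g := by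
    intro g₂ e hu hreal hbad
    obtain ⟨v, w, X, Y, hX, hY, A, μ, hμ, hf, hA⟩ := exists_form g₂ hu
    rw [← hA] at hreal hbad
    have hA0 : (A : Matrix (Fin k) (Fin k) F).det ≠ 0 := ((Matrix.isUnit_iff_isUnit_det _).1 A.isUnit).ne_zero
    have hdg : (dg A μ hμ : gu F (Fin k) (Fin m)) = dg A 1 (by simp) := by
      rcases Nat.eq_zero_or_pos m with rfl | hm0
      · refine gu_ext ?_
        rw [mat_dg, mat_dg, Subsingleton.elim (μ • (1 : Matrix (Fin 0) (Fin 0) F)) ((1 : F) • 1)]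
      · have h := e.dt_eq_one hg
        rw [hf, map_mul, map_mul, dt_apply, dt_apply (up w Y hY), mat_lo, det_b3_lower, det_up, dt_dg] at h
        simp only [det_one, one_mul, mul_one, Fintype.card_fin, show m = 1 by omega, pow_one, hreal] at h
        have hμ1 : μ = 1 := by
          field_simp at h
          exact h
        subst hμ1
        rfl
    refine Equiv'.isComm e ?_
    rw [hf, hdg]
    exact levi_any D hm hn hex hX hY A _ hreal hbad
  by_cases hbad : Bad q (m11 g₁)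
  swap
  · exact final g₁ e hu hreal hbad
  obtain ⟨v, w, X, Y, hX, hY, A, μ, hμ, e', hY0, hA⟩ := exists_data SD g₁ (e.not_scal hns) hu
  have hbA : Bad q (A : Matrix (Fin k) (Fin k) F) := by
    rcases hA with h | h <;> rw [h]
    · exact hbad
    · exact hbad.conj
  have hrA : star (A : Matrix (Fin k) (Fin k) F).det = (A : Matrix (Fin k) (Fin k) F).det := by
    rcases hA with h | h <;> rw [h]
    · exact hreal
    · rw [det_conjTranspose, star_star, hreal]
  have hA0 : (A : Matrix (Fin k) (Fin k) F).det ≠ 0 := ((Matrix.isUnit_iff_isUnit_det _).1 A.isUnit).ne_zero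
  have finish : ∀ (g' : gu F (Fin k) (Fin m)) (a u : Fin k → F), Equiv' g g' → star u ⬝ᵥ a = 0 →
      m11 g' = (A : Matrix (Fin k) (Fin k) F) * (1 + vecMulVec a (star u)) →
      ¬ Bad q ((A : Matrix (Fin k) (Fin k) F) * (1 + vecMulVec a (star u))) → IsComm g := by
    intro g' a u e'' hau hm' hnb
    have hd : (m11 g').det = (A : Matrix (Fin k) (Fin k) F).det := by
      rw [hm', det_mul, vecMulVec_eq Unit, det_one_add_replicateCol_mul_replicateRow, hau, add_zero, mul_one]
    refine final g' e'' ?_ (by rw [hd, hrA]) (by rwa [hm'])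
    rw [Matrix.isUnit_iff_isUnit_det, isUnit_iff_ne_zero, hd]
    exact hA0
  have h4 := D.four_le
  rcases hbA with ⟨hk, c, hc, hAc⟩ | ⟨hq, hk, hN, hne⟩ | ⟨hq, hk, hQ⟩
  · haveI : Nontrivial (Fin k) := Fin.nontrivial_iff_two_le.2 hk
    obtain ⟨g', a, u, e2, ⟨hau, ha, hu, -⟩, hm'⟩ :=
      exists_shift SD h4 hX hY A hμ hY0 (p := 0) (q₀ := 0) (Or.inl ⟨rfl, rfl⟩)
    refine finish g' a u ((e.trans e').trans e2) hau hm' ?_
    rw [hAc]
    refine not_bad_scalar hc hau ha hu fun h => hA0 ?_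
    rw [hAc, h, zero_smul, det_zero]
  · subst hq
    obtain ⟨p, φ, hpφ, hp, hφ, hφp⟩ := exists_rank_one hk hN (sub_ne_zero.2 hne)
    haveI : Nontrivial (Fin k) := Fin.nontrivial_iff_two_le.2 (by
      by_contra hk2
      obtain ⟨i, hi⟩ := Function.ne_iff.1 hp
      obtain ⟨j, hj⟩ := Function.ne_iff.1 hφ
      obtain rfl : k = 1 := by have := i.isLt; omega
      rw [Fin.fin_one_eq_zero i] at hi
      rw [Fin.fin_one_eq_zero j] at hj
      simp only [dotProduct, Fin.sum_univ_one, mul_eq_zero] at hφp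
      exact hφp.elim hj hi)
    obtain ⟨g', a, u, e2, hgs, hm'⟩ := exists_shift SD h4 hX hY A hμ hY0 (p := p) (q₀ := star φ)
      (Or.inr ⟨hp, fun h => hφ (star_eq_zero.1 h), by rw [star_star]; exact hφp⟩)
    refine finish g' a u ((e.trans e').trans e2) hgs.1 hm' ?_
    exact not_bad_transvection D hk (by rw [← hpφ]; abel) hp hφ hφp (real_eq_one D hrA hA0) hgs
  · haveI : Nontrivial (Fin k) := Fin.nontrivial_iff_two_le.2 (by omega)
    obtain ⟨g', a, u, e2, ⟨hau, ha, hu, -⟩, hm'⟩ :=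
      exists_shift SD h4 hX hY A hμ hY0 (p := 0) (q₀ := 0) (Or.inl ⟨rfl, rfl⟩)
    exact finish g' a u ((e.trans e').trans e2) hau hm' (not_bad_quad hQ hk ha hu hau)

end CfsgLib.OreSU
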