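import Mathlib

/-!
# Unitary groups of a split form

`gu ι κ` is the unitary group of the form with matrix `jj` on `ι ⊕ κ ⊕ ι`, which pairs the two copies
of `ι` and is the identity on `κ`. Unipotent radicals `lo`, `up` and Levi elements `dg`.
-/

set_option autoImplicit false
set_option linter.unusedSectionVars false
set_option linter.unusedSimpArgs false

namespace CfsgLib.OreSU

open Matrix

variable {F : Type*} [Field F] [StarRing F] {ι κ : Type*} [Fintype ι] [DecidableEq ι] [Fintype κ]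
  [DecidableEq κ]

/-- A matrix on `ι ⊕ κ ⊕ ι` given by nine blocks. -/
def b3 (a : Matrix ι ι F) (b : Matrix ι κ F) (c : Matrix ι ι F) (d : Matrix κ ι F) (e : Matrix κ κ F)
    (f : Matrix κ ι F) (g : Matrix ι ι F) (h : Matrix ι κ F) (i : Matrix ι ι F) :
    Matrix (ι ⊕ κ ⊕ ι) (ι ⊕ κ ⊕ ι) F :=
  Matrix.of fun r s => match r, s with
    | .inl x, .inl y => a x y
    | .inl x, .inr (.inl y) => b x y
    | .inl x, .inr (.inr y) => c x y
    | .inr (.inl x), .inl y => d x y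
    | .inr (.inl x), .inr (.inl y) => e x y
    | .inr (.inl x), .inr (.inr y) => f x y
    | .inr (.inr x), .inl y => g x y
    | .inr (.inr x), .inr (.inl y) => h x y
    | .inr (.inr x), .inr (.inr y) => i x y

theorem b3_mul (a : Matrix ι ι F) (b : Matrix ι κ F) (c : Matrix ι ι F) (d : Matrix κ ι F)
    (e : Matrix κ κ F) (f : Matrix κ ι F) (g : Matrix ι ι F) (h : Matrix ι κ F) (i : Matrix ι ι F)
    (a' : Matrix ι ι F) (b' : Matrix ι κ F) (c' : Matrix ι ι F) (d' : Matrix κ ι F) (e' : Matrix κ κ F)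
    (f' : Matrix κ ι F) (g' : Matrix ι ι F) (h' : Matrix ι κ F) (i' : Matrix ι ι F) :
    b3 a b c d e f g h i * b3 a' b' c' d' e' f' g' h' i' =
      b3 (a * a' + b * d' + c * g') (a * b' + b * e' + c * h') (a * c' + b * f' + c * i')
        (d * a' + e * d' + f * g') (d * b' + e * e' + f * h') (d * c' + e * f' + f * i')
        (g * a' + h * d' + i * g') (g * b' + h * e' + i * h') (g * c' + h * f' + i * i') := by
  ext (r | r | r) (s | s | s) <;>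
    simp only [b3, Matrix.of_apply, Matrix.mul_apply, Fintype.sum_sum_type, Matrix.add_apply, add_assoc]

theorem b3_one : (1 : Matrix (ι ⊕ κ ⊕ ι) (ι ⊕ κ ⊕ ι) F) = b3 1 0 0 0 1 0 0 0 1 := by
  ext (r | r | r) (s | s | s) <;> simp [b3, Matrix.one_apply]

theorem b3_conjTranspose (a : Matrix ι ι F) (b : Matrix ι κ F) (c : Matrix ι ι F) (d : Matrix κ ι F)
    (e : Matrix κ κ F) (f : Matrix κ ι F) (g : Matrix ι ι F) (h : Matrix ι κ F) (i : Matrix ι ι F) :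
    (b3 a b c d e f g h i)ᴴ = b3 aᴴ dᴴ gᴴ bᴴ eᴴ hᴴ cᴴ fᴴ iᴴ := by
  ext (r | r | r) (s | s | s) <;> rfl

theorem b3_inj {a a' : Matrix ι ι F} {b b' : Matrix ι κ F} {c c' : Matrix ι ι F} {d d' : Matrix κ ι F}
    {e e' : Matrix κ κ F} {f f' : Matrix κ ι F} {g g' : Matrix ι ι F} {h h' : Matrix ι κ F}
    {i i' : Matrix ι ι F} :
    b3 a b c d e f g h i = b3 a' b' c' d' e' f' g' h' i' ↔
      a = a' ∧ b = b' ∧ c = c' ∧ d = d' ∧ e = e' ∧ f = f' ∧ g = g' ∧ h = h' ∧ i = i' := by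
  constructor
  · intro he
    refine ⟨?_, ?_, ?_, ?_, ?_, ?_, ?_, ?_, ?_⟩ <;> ext x y
    · exact congrFun (congrFun he (.inl x)) (.inl y)
    · exact congrFun (congrFun he (.inl x)) (.inr (.inl y))
    · exact congrFun (congrFun he (.inl x)) (.inr (.inr y))
    · exact congrFun (congrFun he (.inr (.inl x))) (.inl y)
    · exact congrFun (congrFun he (.inr (.inl x))) (.inr (.inl y))
    · exact congrFun (congrFun he (.inr (.inl x))) (.inr (.inr y))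
    · exact congrFun (congrFun he (.inr (.inr x))) (.inl y)
    · exact congrFun (congrFun he (.inr (.inr x))) (.inr (.inl y))
    · exact congrFun (congrFun he (.inr (.inr x))) (.inr (.inr y))
  · rintro ⟨rfl, rfl, rfl, rfl, rfl, rfl, rfl, rfl, rfl⟩
    rfl

theorem exists_b3 (M : Matrix (ι ⊕ κ ⊕ ι) (ι ⊕ κ ⊕ ι) F) :
    ∃ a b c d e f g h i, M = b3 a b c d e f g h i := by
  refine ⟨Matrix.of fun x y => M (.inl x) (.inl y), Matrix.of fun x y => M (.inl x) (.inr (.inl y)),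
    Matrix.of fun x y => M (.inl x) (.inr (.inr y)), Matrix.of fun x y => M (.inr (.inl x)) (.inl y),
    Matrix.of fun x y => M (.inr (.inl x)) (.inr (.inl y)),
    Matrix.of fun x y => M (.inr (.inl x)) (.inr (.inr y)),
    Matrix.of fun x y => M (.inr (.inr x)) (.inl y), Matrix.of fun x y => M (.inr (.inr x)) (.inr (.inl y)),
    Matrix.of fun x y => M (.inr (.inr x)) (.inr (.inr y)), ?_⟩
  ext (r | r | r) (s | s | s) <;> rfl

variable (ι κ) in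
/-- The matrix of the form. -/
def jj : Matrix (ι ⊕ κ ⊕ ι) (ι ⊕ κ ⊕ ι) F := b3 0 0 1 0 1 0 1 0 0

variable (ι κ F) in
/-- The unitary group of `jj`. -/
def gu : Subgroup (Matrix (ι ⊕ κ ⊕ ι) (ι ⊕ κ ⊕ ι) F)ˣ where
  carrier := {g | (g : Matrix (ι ⊕ κ ⊕ ι) (ι ⊕ κ ⊕ ι) F)ᴴ * jj ι κ *
    (g : Matrix (ι ⊕ κ ⊕ ι) (ι ⊕ κ ⊕ ι) F) = jj ι κ}
  mul_mem' {a b} ha hb := by
    simp only [Set.mem_ofPred_eq, Units.val_mul, conjTranspose_mul] at ha hb ⊢
    calc _ = (b : Matrix (ι ⊕ κ ⊕ ι) (ι ⊕ κ ⊕ ι) F)ᴴ *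
          ((a : Matrix (ι ⊕ κ ⊕ ι) (ι ⊕ κ ⊕ ι) F)ᴴ * jj ι κ * (a : Matrix (ι ⊕ κ ⊕ ι) (ι ⊕ κ ⊕ ι) F)) *
          (b : Matrix (ι ⊕ κ ⊕ ι) (ι ⊕ κ ⊕ ι) F) := by simp only [Matrix.mul_assoc]
      _ = _ := by rw [ha, hb]
  one_mem' := by simp
  inv_mem' {a} ha := by
    simp only [Set.mem_ofPred_eq] at ha ⊢
    calc _ = (↑a⁻¹ : Matrix (ι ⊕ κ ⊕ ι) (ι ⊕ κ ⊕ ι) F)ᴴ *
          ((a : Matrix (ι ⊕ κ ⊕ ι) (ι ⊕ κ ⊕ ι) F)ᴴ * jj ι κ * (a : Matrix (ι ⊕ κ ⊕ ι) (ι ⊕ κ ⊕ ι) F)) *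
            (↑a⁻¹ : Matrix (ι ⊕ κ ⊕ ι) (ι ⊕ κ ⊕ ι) F) := by rw [ha]
      _ = ((a : Matrix (ι ⊕ κ ⊕ ι) (ι ⊕ κ ⊕ ι) F) * (↑a⁻¹ : Matrix (ι ⊕ κ ⊕ ι) (ι ⊕ κ ⊕ ι) F))ᴴ *
          jj ι κ * ((a : Matrix (ι ⊕ κ ⊕ ι) (ι ⊕ κ ⊕ ι) F) * (↑a⁻¹ : Matrix (ι ⊕ κ ⊕ ι) (ι ⊕ κ ⊕ ι) F)) := by
        simp only [conjTranspose_mul, Matrix.mul_assoc]
      _ = _ := by rw [Units.mul_inv, conjTranspose_one, Matrix.one_mul, Matrix.mul_one]

/-- The underlying matrix. -/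
abbrev mat (g : gu F ι κ) : Matrix (ι ⊕ κ ⊕ ι) (ι ⊕ κ ⊕ ι) F :=
  ((g : (Matrix (ι ⊕ κ ⊕ ι) (ι ⊕ κ ⊕ ι) F)ˣ) : Matrix (ι ⊕ κ ⊕ ι) (ι ⊕ κ ⊕ ι) F)

/-- The upper left block. -/
def m11 (g : gu F ι κ) : Matrix ι ι F := Matrix.of fun x y => mat g (.inl x) (.inl y)

theorem gu_ext {g h : gu F ι κ} (e : mat g = mat h) : g = h := Subtype.ext (Units.ext e)

theorem mem_gu (g : gu F ι κ) : (mat g)ᴴ * jj ι κ * mat g = jj ι κ := g.2

/-- The first columns of a member are isotropic. -/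
theorem col_isotropic (g : gu F ι κ) {a : Matrix ι ι F} {b : Matrix ι κ F} {c : Matrix ι ι F}
    {d : Matrix κ ι F} {e : Matrix κ κ F} {f : Matrix κ ι F} {g' : Matrix ι ι F} {h : Matrix ι κ F}
    {i : Matrix ι ι F} (hg : mat g = b3 a b c d e f g' h i) : g'ᴴ * a + dᴴ * d + aᴴ * g' = 0 := by
  have h1 := mem_gu g
  rw [hg, jj, b3_conjTranspose, b3_mul, b3_mul, b3_inj] at h1
  simpa using h1.1

/-- The adjoint equation in the other order. -/
theorem mul_jj_mul (g : gu F ι κ) : mat g * jj ι κ * (mat g)ᴴ = jj ι κ := by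
  have h1 := mem_gu g
  have hjj : (jj ι κ : Matrix (ι ⊕ κ ⊕ ι) (ι ⊕ κ ⊕ ι) F) * jj ι κ = 1 := by
    simp [jj, b3_mul, b3_one]
  have h2 : (jj ι κ * (mat g)ᴴ * jj ι κ) * mat g = 1 := by
    rw [Matrix.mul_assoc (jj ι κ), Matrix.mul_assoc (jj ι κ), h1, hjj]
  have h3 := congrArg (fun X => X * jj ι κ) (mul_eq_one_comm.1 h2)
  simp only [Matrix.one_mul, Matrix.mul_assoc, hjj, Matrix.mul_one] at h3
  rw [Matrix.mul_assoc]
  exact h3

/-- Make a member from a matrix and its inverse. -/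
def mkGu (A B : Matrix (ι ⊕ κ ⊕ ι) (ι ⊕ κ ⊕ ι) F) (hAB : A * B = 1) (hA : Aᴴ * jj ι κ * A = jj ι κ) :
    gu F ι κ :=
  ⟨⟨A, B, hAB, mul_eq_one_comm.1 hAB⟩, hA⟩

/-- Validity of a radical element. -/
def Rad (v : Matrix κ ι F) (X : Matrix ι ι F) : Prop := X + Xᴴ + vᴴ * v = 0

theorem Rad.inv {v : Matrix κ ι F} {X : Matrix ι ι F} (h : Rad v X) : Rad (-v) Xᴴ := by
  unfold Rad at *
  rw [conjTranspose_conjTranspose, conjTranspose_neg, Matrix.neg_mul, Matrix.mul_neg, neg_neg, add_comm Xᴴ X]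
  exact h

/-- Lower radical element. -/
def lo (v : Matrix κ ι F) (X : Matrix ι ι F) (h : Rad v X) : gu F ι κ :=
  mkGu (b3 1 0 0 v 1 0 X (-vᴴ) 1) (b3 1 0 0 (-v) 1 0 Xᴴ vᴴ 1)
    (by
      have h' : X + Xᴴ + vᴴ * v = 0 := h
      rw [b3_mul, b3_one, b3_inj]
      simp
      rw [← h']; abel)
    (by
      have h' : X + Xᴴ + vᴴ * v = 0 := h
      rw [jj, b3_conjTranspose, b3_mul, b3_mul, b3_inj]
      simp
      rw [← h']; abel)

theorem mat_lo (v : Matrix κ ι F) (X : Matrix ι ι F) (h : Rad v X) :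
    mat (lo v X h) = b3 1 0 0 v 1 0 X (-vᴴ) 1 := rfl

theorem lo_inv (v : Matrix κ ι F) (X : Matrix ι ι F) (h : Rad v X) :
    (lo v X h)⁻¹ = lo (-v) Xᴴ h.inv := by
  refine gu_ext ?_
  show b3 1 0 0 (-v) 1 0 Xᴴ vᴴ 1 = b3 1 0 0 (-v) 1 0 Xᴴ (-(-v)ᴴ) 1
  rw [conjTranspose_neg, neg_neg]

/-- The element exchanging the two copies of `ι`. -/
def wl : gu F ι κ :=
  mkGu (jj ι κ) (jj ι κ) (by simp [jj, b3_mul, b3_one])
    (by simp [jj, b3_mul, b3_conjTranspose])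

theorem mat_wl : mat (wl : gu F ι κ) = jj ι κ := rfl

theorem wl_inv : (wl : gu F ι κ)⁻¹ = wl := by
  refine gu_ext ?_
  rfl

/-- Upper radical element. -/
def up (v : Matrix κ ι F) (X : Matrix ι ι F) (h : Rad v X) : gu F ι κ :=
  wl * lo v X h * wl

theorem mat_up (v : Matrix κ ι F) (X : Matrix ι ι F) (h : Rad v X) :
    mat (up v X h) = b3 1 (-vᴴ) X 0 1 v 0 0 1 := by
  show jj ι κ * b3 1 0 0 v 1 0 X (-vᴴ) 1 * jj ι κ = _
  simp [jj, b3_mul]

theorem up_inv (v : Matrix κ ι F) (X : Matrix ι ι F) (h : Rad v X) :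
    (up v X h)⁻¹ = up (-v) Xᴴ h.inv := by
  simp only [up, _root_.mul_inv_rev, wl_inv, lo_inv, mul_assoc]

/-- Levi element. -/
def dg (A : (Matrix ι ι F)ˣ) (μ : F) (hμ : μ * star μ = 1) : gu F ι κ :=
  mkGu (b3 (A : Matrix ι ι F) 0 0 0 (μ • 1) 0 0 0 (↑A⁻¹ : Matrix ι ι F)ᴴ)
    (b3 (↑A⁻¹ : Matrix ι ι F) 0 0 0 (star μ • 1) 0 0 0 (A : Matrix ι ι F)ᴴ)
    (by simp [b3_mul, b3_one, smul_smul, hμ, mul_comm (star μ), ← conjTranspose_mul])
    (by
      simp [jj, b3_mul, b3_conjTranspose, smul_smul, hμ, mul_comm (star μ), ← conjTranspose_mul])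

theorem mat_dg (A : (Matrix ι ι F)ˣ) (μ : F) (hμ : μ * star μ = 1) :
    mat (dg A μ hμ : gu F ι κ) =
      b3 (A : Matrix ι ι F) 0 0 0 (μ • 1) 0 0 0 (↑A⁻¹ : Matrix ι ι F)ᴴ := rfl

theorem dg_mul (A B : (Matrix ι ι F)ˣ) (μ ν : F) (hμ : μ * star μ = 1) (hν : ν * star ν = 1)
    (h : μ * ν * star (μ * ν) = 1) :
    (dg (A * B) (μ * ν) h : gu F ι κ) = dg A μ hμ * dg B ν hν := by
  refine gu_ext ?_
  show mat _ = mat (dg A μ hμ) * mat (dg B ν hν)
  simp [mat_dg, b3_mul, smul_smul, conjTranspose_mul, mul_comm μ ν]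

theorem wl_dg (A : (Matrix ι ι F)ˣ) (μ : F) (hμ : μ * star μ = 1) :
    (wl : gu F ι κ) * dg A μ hμ * wl =
      dg ⟨(↑A⁻¹ : Matrix ι ι F)ᴴ, (A : Matrix ι ι F)ᴴ, by rw [← conjTranspose_mul, Units.mul_inv,
        conjTranspose_one], by rw [← conjTranspose_mul, Units.inv_mul, conjTranspose_one]⟩ μ hμ := by
  refine gu_ext ?_
  show jj ι κ * mat (dg A μ hμ) * jj ι κ = _
  simp [mat_dg, jj, b3_mul]

theorem det_b3_lower (a : Matrix ι ι F) (d : Matrix κ ι F) (e : Matrix κ κ F) (g : Matrix ι ι F)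
    (h : Matrix ι κ F) (i : Matrix ι ι F) :
    (b3 a 0 0 d e 0 g h i).det = a.det * (e.det * i.det) := by
  have hb : b3 a 0 0 d e 0 g h i =
      Matrix.fromBlocks a 0 (Matrix.fromRows d g) (Matrix.fromBlocks e 0 h i) := by
    ext (r | r | r) (s | s | s) <;> rfl
  rw [hb, det_fromBlocks_zero₁₂, det_fromBlocks_zero₁₂]

theorem det_lo (v : Matrix κ ι F) (X : Matrix ι ι F) (h : Rad v X) : (mat (lo v X h)).det = 1 := by
  simp [mat_lo, det_b3_lower]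

theorem det_wl_sq : (mat (wl : gu F ι κ)).det * (mat (wl : gu F ι κ)).det = 1 := by
  rw [← det_mul, mat_wl]
  simp [jj, b3_mul, ← b3_one]

theorem det_up (v : Matrix κ ι F) (X : Matrix ι ι F) (h : Rad v X) : (mat (up v X h)).det = 1 := by
  show (mat wl * mat (lo v X h) * mat wl).det = 1
  rw [det_mul, det_mul, det_lo, mul_one, det_wl_sq]

theorem det_dg (A : (Matrix ι ι F)ˣ) (μ : F) (hμ : μ * star μ = 1) :
    (mat (dg A μ hμ : gu F ι κ)).det =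
      (A : Matrix ι ι F).det * μ ^ Fintype.card κ * (star (A : Matrix ι ι F).det)⁻¹ := by
  rw [mat_dg, det_b3_lower, det_smul, det_one, mul_one, det_conjTranspose, Matrix.coe_units_inv,
    det_nonsing_inv, Ring.inverse_eq_inv', star_inv₀, mul_assoc]

/-- A matrix that is a scalar on a subsingleton index type. -/
theorem eq_smul_one [Subsingleton κ] (e : Matrix κ κ F) : ∃ μ : F, e = μ • 1 := by
  rcases isEmpty_or_nonempty κ with h | ⟨⟨i⟩⟩
  · exact ⟨1, Matrix.ext fun x => h.elim x⟩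
  · refine ⟨e i i, Matrix.ext fun x y => ?_⟩
    rw [Subsingleton.elim x i, Subsingleton.elim y i]
    simp

/-- Factorisation through the Levi factor when the upper left block is invertible. -/
theorem exists_ldu [Subsingleton κ] (g : gu F ι κ) (hM : IsUnit (m11 g)) :
    ∃ (v w : Matrix κ ι F) (X Y : Matrix ι ι F) (hX : Rad v X) (hY : Rad w Y) (μ : F)
      (hμ : μ * star μ = 1), g = lo v X hX * dg hM.unit μ hμ * up w Y hY := by
  obtain ⟨a, b, c, d, e, f, g', h, i, hg⟩ := exists_b3 (mat g)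
  have ha : m11 g = a := Matrix.ext fun x y => congrFun (congrFun hg (.inl x)) (.inl y)
  obtain ⟨A, hA⟩ : ∃ A : (Matrix ι ι F)ˣ, (A : Matrix ι ι F) = a := ⟨hM.unit, by rw [IsUnit.unit_spec, ha]⟩
  have hAu : hM.unit = A := Units.ext (by rw [IsUnit.unit_spec, ha, hA])
  rw [hAu]
  subst hA
  set B : Matrix ι ι F := ↑A⁻¹ with hB
  have hBA : B * (A : Matrix ι ι F) = 1 := A.inv_mul
  have hAB : (A : Matrix ι ι F) * B = 1 := A.mul_inv
  have hX : Rad (d * B) (g' * B) := by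
    have h0 := col_isotropic g hg
    show g' * B + (g' * B)ᴴ + (d * B)ᴴ * (d * B) = 0
    have h1 := congrArg (fun Z => Bᴴ * Z * B) h0
    simp only [Matrix.mul_add, Matrix.add_mul, Matrix.mul_zero, Matrix.zero_mul] at h1
    rw [← h1, conjTranspose_mul, conjTranspose_mul]
    have e1 : Bᴴ * ((A : Matrix ι ι F)ᴴ * g') * B = g' * B := by
      rw [← Matrix.mul_assoc, ← conjTranspose_mul, hAB, conjTranspose_one, Matrix.one_mul]
    have e2 : Bᴴ * (g'ᴴ * (A : Matrix ι ι F)) * B = Bᴴ * g'ᴴ := by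
      simp only [Matrix.mul_assoc, hAB, Matrix.mul_one]
    rw [e1, e2]
    simp only [Matrix.mul_assoc]
    abel
  set k : gu F ι κ := (dg A 1 (by simp))⁻¹ * (lo (d * B) (g' * B) hX)⁻¹ * g with hk
  obtain ⟨b', c', e', f', h', i', hk'⟩ : ∃ b' c' e' f' h' i', mat k = b3 1 b' c' 0 e' f' 0 h' i' := by
    refine ⟨B * b, B * c, -(d * B * b) + e, -(d * B * c) + f, (A : Matrix ι ι F)ᴴ * ((g' * B)ᴴ * b + (d * B)ᴴ * e + h),
      (A : Matrix ι ι F)ᴴ * ((g' * B)ᴴ * c + (d * B)ᴴ * f + i), ?_⟩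
    show b3 B 0 0 0 ((star (1 : F)) • 1) 0 0 0 (A : Matrix ι ι F)ᴴ *
      b3 1 0 0 (-(d * B)) 1 0 (g' * B)ᴴ (d * B)ᴴ 1 * mat g = _
    rw [hg, b3_mul, b3_mul, b3_inj]
    have h0 : (g' * B)ᴴ * (A : Matrix ι ι F) + (d * B)ᴴ * d + g' = 0 := by
      have h1 := congrArg (fun Z => Z * (A : Matrix ι ι F)) (show g' * B + (g' * B)ᴴ + (d * B)ᴴ * (d * B) = 0 from hX)
      simp only [Matrix.add_mul, Matrix.zero_mul, Matrix.mul_assoc, hBA, Matrix.mul_one] at h1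
      rw [← h1]; abel
    simp only [star_one, one_smul, Matrix.one_mul, Matrix.mul_one, Matrix.zero_mul, Matrix.mul_zero,
      add_zero, zero_add]
    refine ⟨hBA, trivial, trivial, ?_, ?_, ?_, ?_, ?_, ?_⟩
    · rw [Matrix.neg_mul, Matrix.mul_assoc, hBA, Matrix.mul_one, neg_add_cancel]
    · rw [Matrix.neg_mul]
    · rw [Matrix.neg_mul]
    · rw [Matrix.mul_assoc, Matrix.mul_assoc, ← Matrix.mul_add, ← Matrix.mul_add, h0, Matrix.mul_zero]
    · simp only [Matrix.mul_assoc, Matrix.mul_add]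
    · simp only [Matrix.mul_assoc, Matrix.mul_add]
  have hkk := mem_gu k
  rw [hk', jj, b3_conjTranspose, b3_mul, b3_mul, b3_inj] at hkk
  simp at hkk
  obtain ⟨hh, hi, -, h22, h23, -, -, h33⟩ := hkk
  subst hh hi
  simp at h22 h23 h33
  obtain ⟨μ₀, rfl⟩ := eq_smul_one e'
  obtain ⟨μ, hμ, hμe⟩ : ∃ μ : F, μ * star μ = 1 ∧ (μ₀ • 1 : Matrix κ κ F) = μ • 1 := by
    rcases isEmpty_or_nonempty κ with hκ | ⟨⟨j⟩⟩
    · exact ⟨1, by simp, Matrix.ext fun x => hκ.elim x⟩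
    · refine ⟨μ₀, ?_, rfl⟩
      have := congrFun (congrFun h22 j) j
      simpa [smul_smul, mul_comm] using this
  rw [hμe] at hk' h22 h23
  have hf : star μ • f' + b'ᴴ = 0 := by
    rw [conjTranspose_smul, conjTranspose_one, Matrix.smul_mul, Matrix.one_mul] at h23
    exact h23
  have hb : b' = -(star μ • f')ᴴ := by
    rw [← conjTranspose_inj, conjTranspose_neg, conjTranspose_conjTranspose]
    exact eq_neg_of_add_eq_zero_right hf
  have hμ' : μ • star μ • f' = f' := by rw [smul_smul, hμ, one_smul]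
  have hw : Rad (star μ • f') c' := by
    show c' + c'ᴴ + (star μ • f')ᴴ * (star μ • f') = 0
    rw [conjTranspose_smul, star_star, Matrix.smul_mul, Matrix.mul_smul, smul_smul, hμ, one_smul, ← h33]
    abel
  refine ⟨d * B, star μ • f', g' * B, c', hX, hw, μ, hμ, ?_⟩
  have h4 : k = dg 1 μ hμ * up (star μ • f') c' hw := by
    refine gu_ext ?_
    show mat k = mat (dg 1 μ hμ) * mat (up _ c' hw)
    rw [hk', mat_dg, mat_up, b3_mul, b3_inj]
    simp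
    exact ⟨by rw [hb, conjTranspose_smul, star_star], by rw [smul_comm]; exact hμ'.symm⟩
  have h5 : g = lo (d * B) (g' * B) hX * dg A 1 (by simp) * k := by rw [hk]; group
  rw [h5, h4, ← mul_assoc, mul_assoc (lo _ _ hX)]
  congr 2
  rw [← dg_mul A 1 1 μ _ hμ (by simpa using hμ)]
  simp

end CfsgLib.OreSU
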