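import Cfsg.Agent.OreSU.Model

/-!
# Conjugation by unipotent radical elements

How the blocks of an element change, and the invertibility of the upper left block of some conjugate.
-/

set_option autoImplicit false
set_option linter.unusedSectionVars false
set_option linter.unusedSimpArgs false

namespace CfsgLib.OreSU

open Matrix

variable {F : Type*} [Field F] [StarRing F] {ι κ : Type*} [Fintype ι] [DecidableEq ι] [Fintype κ]
  [DecidableEq κ]

variable (ι κ F) in
/-- The determinant. -/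
def dt : gu F ι κ →* F where
  toFun g := (mat g).det
  map_one' := by show (1 : Matrix (ι ⊕ κ ⊕ ι) (ι ⊕ κ ⊕ ι) F).det = 1; exact det_one
  map_mul' g h := by show (mat g * mat h).det = _; exact det_mul _ _

theorem dt_apply (g : gu F ι κ) : dt F ι κ g = (mat g).det := rfl

theorem jj_det_ne : (jj ι κ : Matrix (ι ⊕ κ ⊕ ι) (ι ⊕ κ ⊕ ι) F).det ≠ 0 := fun h => by
  have := det_wl_sq (F := F) (ι := ι) (κ := κ)
  rw [mat_wl, h, zero_mul] at this
  exact zero_ne_one this

theorem dt_norm (g : gu F ι κ) : star (dt F ι κ g) * dt F ι κ g = 1 := by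
  have h := congrArg Matrix.det (mem_gu g)
  rw [det_mul, det_mul, det_conjTranspose] at h
  refine mul_right_cancel₀ (jj_det_ne (F := F) (ι := ι) (κ := κ)) ?_
  rw [dt_apply, one_mul]
  linear_combination h

theorem dt_conj (a g : gu F ι κ) : dt F ι κ (a * g * a⁻¹) = dt F ι κ g := by
  rw [map_mul, map_mul, mul_right_comm, ← map_mul, mul_inv_cancel, map_one, one_mul]

/-- The middle block left of the upper part. -/
def m12 (g : gu F ι κ) : Matrix ι κ F := Matrix.of fun x y => mat g (.inl x) (.inr (.inl y))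
/-- The upper right block. -/
def m13 (g : gu F ι κ) : Matrix ι ι F := Matrix.of fun x y => mat g (.inl x) (.inr (.inr y))
/-- The block below the upper left one. -/
def m21 (g : gu F ι κ) : Matrix κ ι F := Matrix.of fun x y => mat g (.inr (.inl x)) (.inl y)
/-- The lower left block. -/
def m31 (g : gu F ι κ) : Matrix ι ι F := Matrix.of fun x y => mat g (.inr (.inr x)) (.inl y)

theorem blocks_of_eq {g : gu F ι κ} {a : Matrix ι ι F} {b : Matrix ι κ F} {c : Matrix ι ι F}
    {d : Matrix κ ι F} {e : Matrix κ κ F} {f : Matrix κ ι F} {g' : Matrix ι ι F} {h : Matrix ι κ F}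
    {i : Matrix ι ι F} (hg : mat g = b3 a b c d e f g' h i) :
    m11 g = a ∧ m12 g = b ∧ m13 g = c ∧ m21 g = d ∧ m31 g = g' :=
  ⟨Matrix.ext fun x y => congrFun (congrFun hg (.inl x)) (.inl y),
    Matrix.ext fun x y => congrFun (congrFun hg (.inl x)) (.inr (.inl y)),
    Matrix.ext fun x y => congrFun (congrFun hg (.inl x)) (.inr (.inr y)),
    Matrix.ext fun x y => congrFun (congrFun hg (.inr (.inl x))) (.inl y),
    Matrix.ext fun x y => congrFun (congrFun hg (.inr (.inr x))) (.inl y)⟩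

theorem exists_blocks (g : gu F ι κ) :
    ∃ e f h i, mat g = b3 (m11 g) (m12 g) (m13 g) (m21 g) e f (m31 g) h i := by
  obtain ⟨a, b, c, d, e, f, g', h, i, hg⟩ := exists_b3 (mat g)
  obtain ⟨h1, h2, h3, h4, h5⟩ := blocks_of_eq hg
  exact ⟨e, f, h, i, by rw [h1, h2, h3, h4, h5]; exact hg⟩

/-- Blocks of a conjugate by a lower radical element. -/
theorem conj_lo_blocks (g : gu F ι κ) (t : Matrix κ ι F) (S : Matrix ι ι F) (h : Rad t S)
    {a : Matrix ι ι F} {b : Matrix ι κ F} {c : Matrix ι ι F} {d : Matrix κ ι F} {e : Matrix κ κ F}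
    {f : Matrix κ ι F} {g' : Matrix ι ι F} {k : Matrix ι κ F} {i : Matrix ι ι F}
    (hg : mat g = b3 a b c d e f g' k i) :
    m11 ((lo t S h)⁻¹ * g * lo t S h) = a + b * t + c * S ∧
      m21 ((lo t S h)⁻¹ * g * lo t S h) = (d - t * a) + (e - t * b) * t + (f - t * c) * S ∧
      m31 ((lo t S h)⁻¹ * g * lo t S h) =
        (Sᴴ * a + tᴴ * d + g') + (Sᴴ * b + tᴴ * e + k) * t + (Sᴴ * c + tᴴ * f + i) * S := by
  have hm : mat ((lo t S h)⁻¹ * g * lo t S h) =
      b3 1 0 0 (-t) 1 0 Sᴴ (-(-t)ᴴ) 1 * b3 a b c d e f g' k i * b3 1 0 0 t 1 0 S (-tᴴ) 1 := by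
    show mat (lo t S h)⁻¹ * mat g * mat (lo t S h) = _
    rw [lo_inv, mat_lo, mat_lo, hg]
  rw [b3_mul, b3_mul] at hm
  obtain ⟨h1, -, -, h2, h3⟩ := blocks_of_eq hm
  refine ⟨h1.trans ?_, h2.trans ?_, h3.trans ?_⟩ <;>
    simp only [Matrix.one_mul, Matrix.mul_one, Matrix.zero_mul, add_zero, zero_add, neg_neg,
      conjTranspose_neg, Matrix.neg_mul, sub_eq_neg_add]

/-- The blocks of a product in factorised form. -/
theorem blocks_ldu {v w : Matrix κ ι F} {X Y : Matrix ι ι F} (hX : Rad v X) (hY : Rad w Y)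
    (A : (Matrix ι ι F)ˣ) {μ : F} (hμ : μ * star μ = 1) :
    mat (lo v X hX * dg A μ hμ * up w Y hY) =
      b3 (A : Matrix ι ι F) (-((A : Matrix ι ι F) * wᴴ)) ((A : Matrix ι ι F) * Y)
        (v * (A : Matrix ι ι F)) (-(v * (A : Matrix ι ι F) * wᴴ) + μ • 1)
        (v * (A : Matrix ι ι F) * Y + μ • w)
        (X * (A : Matrix ι ι F)) (-(X * (A : Matrix ι ι F) * wᴴ) + -(μ • vᴴ))
        (X * (A : Matrix ι ι F) * Y + -(μ • (vᴴ * w)) + (↑A⁻¹ : Matrix ι ι F)ᴴ) := by
  show mat (lo v X hX) * mat (dg A μ hμ) * mat (up w Y hY) = _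
  rw [mat_lo, mat_dg, mat_up, b3_mul, b3_mul, b3_inj]
  simp [Matrix.mul_assoc]

/-- The transformation `g ↦ wl * g⁻¹ * wl`. -/
def flip (g : gu F ι κ) : gu F ι κ := wl * g⁻¹ * wl

theorem flip_flip (g : gu F ι κ) : flip (flip g) = g := by
  simp only [flip, _root_.mul_inv_rev, wl_inv, inv_inv]
  have h : (wl : gu F ι κ) * wl = 1 := mul_eq_one_iff_eq_inv.2 wl_inv.symm
  simp [← mul_assoc, h]
  simp [mul_assoc, h]

theorem flip_ldu {v w : Matrix κ ι F} {X Y : Matrix ι ι F} (hX : Rad v X) (hY : Rad w Y)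
    (A : (Matrix ι ι F)ˣ) {μ : F} (hμ : μ * star μ = 1) :
    ∃ (B : (Matrix ι ι F)ˣ) (hμ' : star μ * star (star μ) = 1),
      (B : Matrix ι ι F) = (A : Matrix ι ι F)ᴴ ∧
      flip (lo v X hX * dg A μ hμ * up w Y hY) = lo (-w) Yᴴ hY.inv * dg B (star μ) hμ' * up (-v) Xᴴ hX.inv := by
  have h : (wl : gu F ι κ) * wl = 1 := mul_eq_one_iff_eq_inv.2 wl_inv.symm
  have hμ' : star μ * star (star μ) = 1 := by rw [star_star, mul_comm, hμ]
  refine ⟨⟨(A : Matrix ι ι F)ᴴ, (↑A⁻¹ : Matrix ι ι F)ᴴ, by rw [← conjTranspose_mul, Units.inv_mul,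
        conjTranspose_one], by rw [← conjTranspose_mul, Units.mul_inv, conjTranspose_one]⟩, hμ', rfl, ?_⟩
  have hd : (dg A μ hμ : gu F ι κ)⁻¹ = dg A⁻¹ (star μ) hμ' := by
    refine gu_ext ?_
    show b3 (↑A⁻¹ : Matrix ι ι F) 0 0 0 (star μ • 1) 0 0 0 (A : Matrix ι ι F)ᴴ = _
    rw [mat_dg, inv_inv]
  have hw := wl_dg (F := F) (κ := κ) A⁻¹ (star μ) hμ'
  simp only [inv_inv] at hw
  rw [← hw, flip, _root_.mul_inv_rev, _root_.mul_inv_rev, lo_inv, up_inv, hd]
  simp only [up, mul_assoc]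
  simp only [← mul_assoc wl wl, h, one_mul]

theorem dt_flip (g : gu F ι κ) : dt F ι κ (flip g) = (dt F ι κ g)⁻¹ := by
  rw [flip]
  have h := dt_conj (wl : gu F ι κ) g⁻¹
  rw [wl_inv] at h
  rw [h]
  exact (inv_eq_of_mul_eq_one_right (by rw [← map_mul, mul_inv_cancel, map_one])).symm

/-- A single entry of the middle index set. -/
theorem sq_eq_zero [Subsingleton κ] {v : κ → F} (h : v ⬝ᵥ star v = 0) : v = 0 := by
  funext j
  rw [dotProduct, Fintype.sum_subsingleton _ j] at h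
  rcases mul_eq_zero.1 h with h' | h'
  · exact h'
  · exact star_eq_zero.1 (by simpa using h')

/-- Some conjugate has invertible upper left block. -/
theorem exists_invertible [Subsingleton κ] {δ : F} (hδ : star δ = -δ) (hδ0 : δ ≠ 0) (g : gu F ι κ) :
    ∃ a : gu F ι κ, IsUnit (m11 (a * g * a⁻¹)) := by
  classical
  obtain ⟨e, f, k, i, hg⟩ := exists_blocks g
  set A := m11 g
  set C := m13 g
  set D := m21 g
  set G := m31 g
  have h1 := mem_gu g
  rw [hg, jj, b3_conjTranspose, b3_mul, b3_mul, b3_inj] at h1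
  simp at h1
  obtain ⟨h11, -, h13, -⟩ := h1
  set K := LinearMap.ker (Matrix.mulVecLin A)
  let bas := Module.finBasis F K
  let Bm : Matrix ι (Fin (Module.finrank F K)) F := Matrix.of fun x j => (bas j : ι → F) x
  have hBv : ∀ z, Bm *ᵥ z = ((∑ j, z j • bas j : K) : ι → F) := fun z => by
    rw [Submodule.coe_sum]
    funext x
    simp [Bm, Matrix.mulVec, dotProduct, mul_comm]
  have hBinj : Function.Injective Bm.mulVecLin := by
    rw [injective_iff_map_eq_zero]
    intro z hz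
    rw [Matrix.mulVecLin_apply, hBv, Submodule.coe_eq_zero] at hz
    exact funext fun j => Fintype.linearIndependent_iff.1 bas.linearIndependent z hz j
  obtain ⟨E, hE⟩ := Matrix.mulVecLin Bm |>.exists_leftInverse_of_injective (LinearMap.ker_eq_bot.2 hBinj)
  set Em : Matrix (Fin (Module.finrank F K)) ι F := LinearMap.toMatrix' E
  have hEB : ∀ z, Em *ᵥ (Bm *ᵥ z) = z := fun z => by
    rw [← Matrix.toLin'_apply Em, Matrix.toLin'_toMatrix']
    exact LinearMap.congr_fun hE z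
  set S : Matrix ι ι F := δ • (Emᴴ * Em)
  have hS : Rad (0 : Matrix κ ι F) S := by
    show S + Sᴴ + (0 : Matrix κ ι F)ᴴ * 0 = 0
    simp [S, conjTranspose_smul, conjTranspose_mul, hδ]
  refine ⟨(lo 0 S hS)⁻¹, ?_⟩
  rw [inv_inv, (conj_lo_blocks g 0 S hS hg).1, Matrix.mul_zero, add_zero, Matrix.isUnit_iff_isUnit_det,
    isUnit_iff_ne_zero]
  intro h0
  obtain ⟨x, hx0, hx⟩ := Matrix.exists_mulVec_eq_zero_iff.2 h0
  apply hx0
  have hkey : ∀ z, star (Bm *ᵥ z) ⬝ᵥ (S *ᵥ x) = 0 := by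
    intro z
    have hk : A *ᵥ (Bm *ᵥ z) = 0 := by
      have := (∑ j, z j • bas j : K).2
      rw [LinearMap.mem_ker, Matrix.mulVecLin_apply, ← hBv] at this
      exact this
    set k := Bm *ᵥ z
    have h2 := congrArg (fun T => star k ⬝ᵥ (T *ᵥ k)) h11
    simp only [add_mulVec, ← mulVec_mulVec, hk, mulVec_zero, dotProduct_add, dotProduct_zero,
      zero_mulVec, zero_add] at h2
    rw [dotProduct_mulVec _ Aᴴ, ← star_mulVec, hk, star_zero, zero_dotProduct, add_zero,
      dotProduct_mulVec, ← star_mulVec, dotProduct_comm] at h2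
    have hdk : D *ᵥ k = 0 := sq_eq_zero h2
    have hzA : star (G *ᵥ k) ᵥ* A = 0 := by
      have h3 := congrArg (fun T => star k ᵥ* T) h11
      simp only [vecMul_add, ← vecMul_vecMul, vecMul_zero] at h3
      simpa only [← star_mulVec, hdk, hk, star_zero, zero_vecMul, add_zero] using h3
    have hzC : star (G *ᵥ k) ᵥ* C = star k := by
      have h3 := congrArg (fun T => star k ᵥ* T) h13
      simp only [vecMul_add, ← vecMul_vecMul, vecMul_one] at h3
      simpa only [← star_mulVec, hdk, hk, star_zero, zero_vecMul, add_zero] using h3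
    have h4 := congrArg (fun v => star (G *ᵥ k) ⬝ᵥ v) hx
    simp only [add_mulVec, ← mulVec_mulVec, dotProduct_add, dotProduct_mulVec _ A, hzA, zero_dotProduct,
      zero_add, dotProduct_mulVec _ C, hzC, dotProduct_zero] at h4
    exact h4
  have hEx : Em *ᵥ x = 0 := by
    refine funext fun j => ?_
    have h5 := hkey (Pi.single j 1)
    rw [show S *ᵥ x = δ • (Emᴴ *ᵥ (Em *ᵥ x)) by simp [S, smul_mulVec, mulVec_mulVec], dotProduct_smul,
      smul_eq_mul, mul_eq_zero, dotProduct_mulVec, ← star_mulVec, hEB] at h5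
    simpa [star_eq_zero] using h5.resolve_left hδ0
  have hAx : A *ᵥ x = 0 := by
    simpa [S, add_mulVec, smul_mulVec, ← mulVec_mulVec, hEx, mulVec_smul] using hx
  obtain ⟨z, hz⟩ : ∃ z, x = Bm *ᵥ z := by
    refine ⟨fun j => bas.repr ⟨x, LinearMap.mem_ker.2 hAx⟩ j, ?_⟩
    rw [hBv, bas.sum_repr]
  rw [hz, show z = 0 by rw [← hEB z, ← hz, hEx], mulVec_zero]

end CfsgLib.OreSU
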