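import Cfsg.Agent.OreSU.Forms
import Cfsg.Agent.OreSU.Criterion

/-!
# Irreducible polynomials coprime to their adjoint

Facts about a field with `q ^ 2` elements and the involution `x ↦ x ^ q`.
-/

set_option autoImplicit false
set_option linter.unusedSectionVars false
set_option linter.unusedSimpArgs false

namespace CfsgLib.OreSU

open Matrix Polynomial

variable (F : Type*) [Field F] [StarRing F] [Fintype F]

/-- The field has `q ^ 2` elements and the involution is the power map with exponent `q`. -/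
structure FinData (q : ℕ) : Prop where
  card : Fintype.card F = q ^ 2
  star_eq : ∀ x : F, star x = x ^ q

variable {F} {q : ℕ}

theorem FinData.two_le (D : FinData F q) : 2 ≤ q := by
  by_contra h
  have := Fintype.one_lt_card (α := F)
  rw [D.card] at this
  interval_cases q <;> simp at this

theorem FinData.exists_gen (D : FinData F q) : ∃ γ : F, orderOf γ = q ^ 2 - 1 ∧ γ ≠ 0 ∧ ∀ x : F, x ≠ 0 → ∃ i : ℕ, x = γ ^ i := by
  classical
  obtain ⟨g, hg⟩ := IsCyclic.exists_generator (α := Fˣ)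
  refine ⟨(g : F), ?_, g.ne_zero, fun x hx => ?_⟩
  · rw [orderOf_units, orderOf_eq_card_of_forall_mem_zpowers hg, Nat.card_eq_fintype_card, Fintype.card_units,
      D.card]
  · obtain ⟨i, hi⟩ := mem_powers_iff_mem_zpowers.2 (hg (Units.mk0 x hx))
    exact ⟨i, by simpa using (congrArg Units.val hi).symm⟩

theorem FinData.real_of_pow (D : FinData F q) (y : F) : star (y ^ (q + 1)) = y ^ (q + 1) := by
  have h : (y ^ q) ^ q = y := by rw [← pow_mul, ← pow_two, ← D.card, FiniteField.pow_card]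
  rw [star_pow, D.star_eq, pow_succ, h, ← pow_succ']

theorem FinData.real_pow (D : FinData F q) {c : F} (hc : star c = c) (hc0 : c ≠ 0) : c ^ (q - 1) = 1 := by
  have := D.two_le
  rw [D.star_eq] at hc
  refine mul_right_cancel₀ hc0 ?_
  rw [← pow_succ, show q - 1 + 1 = q by omega, hc, one_mul]

theorem FinData.starData (D : FinData F q) : StarData F := by
  classical
  obtain ⟨γ, hγ, hγ0, hgen⟩ := D.exists_gen
  have h2 := D.two_le
  have hsq : q < q ^ 2 := by nlinarith
  have hnr : star γ ≠ γ := by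
    intro h
    have h1 := D.real_pow h hγ0
    have := Nat.le_of_dvd (by omega) (hγ ▸ orderOf_dvd_of_pow_eq_one h1)
    omega
  refine ⟨⟨γ - star γ, by rw [star_sub, star_star, neg_sub], sub_ne_zero.2 (Ne.symm hnr)⟩, ?_, fun c hc => ?_⟩
  · obtain ⟨a, ha⟩ : ∃ a : F, a + star a ≠ 0 := by
      by_contra hall
      push Not at hall
      have hdeg : (X ^ q + X : F[X]).natDegree = q := by
        rw [natDegree_add_eq_left_of_natDegree_lt] <;> simp [natDegree_X]
        omega
      have hne : (X ^ q + X : F[X]) ≠ 0 := fun h => by rw [h, natDegree_zero] at hdeg; omega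
      have hle := (Finset.card_le_card (s := (Finset.univ : Finset F)) (t := (X ^ q + X : F[X]).roots.toFinset)
        (fun x _ => by
          rw [Multiset.mem_toFinset, mem_roots hne]
          simp [IsRoot, ← D.star_eq, add_comm, hall x])).trans
        ((Multiset.toFinset_card_le _).trans (card_roots' _))
      rw [hdeg, Finset.card_univ, D.card] at hle
      omega
    refine ⟨a / (a + star a), ?_⟩
    rw [star_div₀, star_add, star_star, add_comm (star a) a, ← add_div, div_self ha]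
  · by_cases hc0 : c = 0
    · exact ⟨0, by simp [hc0]⟩
    obtain ⟨i, rfl⟩ := hgen c hc0
    have h1 := D.real_pow hc hc0
    rw [← pow_mul] at h1
    have h2' : (q + 1) * (q - 1) ∣ i * (q - 1) := by
      have := hγ ▸ orderOf_dvd_of_pow_eq_one h1
      rwa [show (q + 1) * (q - 1) = q ^ 2 - 1 by rw [← Nat.sq_sub_sq, one_pow]]
    obtain ⟨j, rfl⟩ := Nat.dvd_of_mul_dvd_mul_right (by omega) h2'
    exact ⟨γ ^ j, by rw [D.star_eq, ← pow_succ', ← pow_mul, mul_comm]⟩

theorem FinData.exists_real (D : FinData F q) (h3 : 3 ≤ q) : ∃ r : F, star r = r ∧ r ≠ 0 ∧ r ≠ 1 := by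
  obtain ⟨γ, hγ, hγ0, -⟩ := D.exists_gen
  refine ⟨γ ^ (q + 1), D.real_of_pow γ, pow_ne_zero _ hγ0, fun h => ?_⟩
  have := Nat.le_of_dvd (by omega) (hγ ▸ orderOf_dvd_of_pow_eq_one h)
  have : q + 1 < q ^ 2 - 1 := by
    have : 3 * q ≤ q ^ 2 := by nlinarith
    omega
  omega

/-- An element of given norm different from one whose square is not real. -/
theorem FinData.exists_beta (D : FinData F q) (h3 : 3 ≤ q) {ν : F} (hν : star ν = ν) (hν0 : ν ≠ 0) (hν1 : ν ≠ 1) :
    ∃ β : F, β * star β = ν ∧ star (β * β) ≠ β * β := by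
  obtain ⟨β, hβ⟩ := D.starData.norm ν hν
  have hβ0 : β ≠ 0 := fun h => hν0 (by rw [← hβ, h, zero_mul])
  by_cases hb : star (β * β) = β * β
  swap
  · exact ⟨β, hβ, hb⟩
  obtain ⟨γ, hγ, hγ0, -⟩ := D.exists_gen
  set ζ := γ ^ (q - 1) with hζ
  have hN : (q + 1) * (q - 1) = q ^ 2 - 1 := by rw [← Nat.sq_sub_sq, one_pow]
  have hζ1 : ζ * star ζ = 1 := by
    rw [D.star_eq, ← pow_succ', hζ, ← pow_mul, mul_comm (q - 1), hN, ← hγ, pow_orderOf_eq_one]
  refine ⟨β * ζ, ?_, fun h => ?_⟩
  · rw [star_mul', ← hβ]; linear_combination (β * star β) * hζ1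
  have h1 : star (ζ * ζ) = ζ * ζ := by
    rw [show β * ζ * (β * ζ) = (β * β) * (ζ * ζ) by ring, star_mul' (β * β), hb] at h
    exact mul_left_cancel₀ (mul_ne_zero hβ0 hβ0) h
  have h4 : ζ ^ 4 = 1 := by
    rw [star_mul'] at h1
    calc ζ ^ 4 = (ζ * ζ) * (ζ * ζ) := by ring
      _ = (ζ * ζ) * (star ζ * star ζ) := by rw [h1]
      _ = (ζ * star ζ) * (ζ * star ζ) := by ring
      _ = 1 := by rw [hζ1, one_mul]
  rw [hζ, ← pow_mul] at h4
  have h5 := Nat.le_of_dvd (by omega) (Nat.dvd_of_mul_dvd_mul_right (by omega) (show (q + 1) * (q - 1) ∣ 4 * (q - 1) by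
    rw [hN, mul_comm 4]; exact hγ ▸ orderOf_dvd_of_pow_eq_one h4))
  obtain rfl : q = 3 := by omega
  apply hν1
  rw [← hβ, D.star_eq]
  rw [D.star_eq] at hb
  refine mul_right_cancel₀ (mul_ne_zero hβ0 hβ0) ?_
  rw [one_mul]
  calc β * β ^ 3 * (β * β) = (β * β) ^ 3 := by ring
    _ = β * β := hb

section Field

variable {L : Type*} [Field L] [Fintype L] [Algebra F L]

theorem FinData.aeval_twist (D : FinData F q) {p a : ℕ} [hp : Fact p.Prime] [CharP L p] (hq : q = p ^ a)
    (f : F[X]) (z : L) : aeval (z ^ q) f = (aeval z (f.map (starRingEnd F))) ^ q := by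
  rw [aeval_eq_sum_range, aeval_eq_sum_range' (n := f.natDegree + 1) (Nat.lt_succ_of_le natDegree_map_le),
    hq, sum_pow_char_pow]
  refine Finset.sum_congr rfl fun i _ => ?_
  rw [coeff_map, starRingEnd_apply, Algebra.smul_def, Algebra.smul_def, mul_pow, ← hq, ← map_pow, ← pow_mul,
    ← pow_mul, mul_comm q i, D.star_eq, ← pow_mul, ← pow_two, ← D.card, FiniteField.pow_card]

/-- No small power of `y` is one. -/
def HighOrder (q d : ℕ) (y : L) : Prop := ∀ m : ℕ, 0 < m → m ≤ q ^ d + 1 → y ^ m ≠ 1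

theorem HighOrder.inv {d : ℕ} {y : L} (h : HighOrder q d y) : HighOrder q d y⁻¹ := fun m hm hm' hy =>
  h m hm hm' (by rw [inv_pow, inv_eq_one] at hy; exact hy)

theorem pow_q_dvd {e d : ℕ} (h : e ∣ d) (hlt : e < d) : 2 * e ≤ d := by
  obtain ⟨c, rfl⟩ := h
  rcases c with _ | _ | c
  · simp at hlt
  · simp at hlt
  · nlinarith

theorem FinData.minpoly_data (D : FinData F q) {d : ℕ} (hd : Module.finrank F L = d) {y : L} (hy : y ≠ 0)
    (h : HighOrder q d y) :
    (minpoly F y).Monic ∧ Irreducible (minpoly F y) ∧ (minpoly F y).natDegree = d ∧ (minpoly F y).coeff 0 ≠ 0 := by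
  have hi : IsIntegral F y := IsIntegral.of_finite F y
  have hirr := minpoly.irreducible hi
  refine ⟨minpoly.monic hi, hirr, ?_, minpoly.coeff_zero_ne_zero hi hy⟩
  set e := (minpoly F y).natDegree
  have hed : e ∣ d := hd ▸ minpoly.degree_dvd hi
  by_contra hne
  have he : 0 < e := minpoly.natDegree_pos hi
  have hd0 : 0 < d := hd ▸ Module.finrank_pos
  have hlt : e < d := lt_of_le_of_ne (Nat.le_of_dvd hd0 hed) hne
  have h2 := pow_q_dvd hed hlt
  obtain ⟨r, hr⟩ := (hirr.natDegree_dvd_iff_dvd_X_pow_card_pow_sub_X (n := e)).1 dvd_rfl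
  have hroot := congrArg (aeval y) hr
  rw [map_mul, minpoly.aeval, zero_mul, map_sub, map_pow, aeval_X, sub_eq_zero, Nat.card_eq_fintype_card,
    D.card, ← pow_mul] at hroot
  have h1 : 1 < q ^ (2 * e) := Nat.one_lt_pow (by omega) D.two_le
  refine h (q ^ (2 * e) - 1) (by omega) ?_ (mul_right_cancel₀ hy ?_)
  · have := Nat.pow_le_pow_right (show 0 < q by have := D.two_le; omega) h2
    omega
  · rw [one_mul, ← pow_succ, Nat.sub_add_cancel h1.le, hroot]

/-- The minimal polynomial is coprime to its adjoint. -/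
theorem FinData.coprime_twist (D : FinData F q) {d : ℕ} (hd : Module.finrank F L = d) {y : L} (hy : y ≠ 0)
    (h : HighOrder q d y) :
    IsCoprime (minpoly F y) ((minpoly F y).map (starRingEnd F)).reverse := by
  classical
  obtain ⟨-, hirr, -, -⟩ := D.minpoly_data hd hy h
  obtain ⟨p, hp⟩ := CharP.exists F
  haveI := hp
  haveI : Fact p.Prime := ⟨CharP.char_is_prime F p⟩
  haveI : CharP L p := charP_of_injective_algebraMap (algebraMap F L).injective p
  obtain ⟨⟨n, hn⟩, -, hcard⟩ := FiniteField.card F p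
  obtain ⟨a, -, ha⟩ := (Nat.dvd_prime_pow (CharP.char_is_prime F p)).1 (show q ∣ p ^ n from
    hcard ▸ D.card ▸ dvd_pow_self q two_ne_zero)
  refine hirr.coprime_iff_not_dvd.2 fun hdvd => ?_
  obtain ⟨r, hr⟩ := hdvd
  have h0 := congrArg (aeval y) hr
  rw [map_mul, minpoly.aeval, zero_mul] at h0
  haveI : Invertible y⁻¹ := invertibleOfNonzero (inv_ne_zero hy)
  replace h0 : aeval y⁻¹ ((minpoly F y).map (starRingEnd F)) = 0 :=
    (eval₂_reverse_eq_zero_iff (algebraMap F L) y⁻¹ _).1 (by rwa [invOf_eq_inv, inv_inv])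
  have h1 : aeval (y⁻¹ ^ q) (minpoly F y) = 0 := by
    rw [D.aeval_twist ha, h0, zero_pow (by have := D.two_le; omega)]
  have hmin : minpoly F (y⁻¹ ^ q) = minpoly F y :=
    (minpoly.eq_of_irreducible_of_monic hirr h1 (minpoly.monic (IsIntegral.of_finite F y))).symm
  obtain ⟨σ, hσ⟩ := (Normal.minpoly_eq_iff_mem_orbit (F := F) (E := L)).1 hmin
  obtain ⟨⟨i, hi⟩, rfl⟩ := (FiniteField.bijective_frobeniusAlgEquivOfAlgebraic_pow F L).2 σ
  simp only [AlgEquiv.smul_def, AlgEquiv.coe_pow, FiniteField.coe_frobeniusAlgEquivOfAlgebraic,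
    pow_iterate, Nat.card_eq_fintype_card, D.card, ← pow_mul] at hσ
  rw [hd] at hi
  have hkey : y ^ (q ^ (2 * i) + q) = 1 := by
    rw [pow_add, hσ, inv_pow, inv_mul_cancel₀ (pow_ne_zero _ hy)]
  have h2 := D.two_le
  rcases Nat.eq_zero_or_pos i with rfl | hi0
  · refine h (1 + q) (by omega) ?_ (by simpa using hkey)
    have := Nat.pow_le_pow_right (show 0 < q by omega) (show 1 ≤ d by omega)
    simp only [pow_one] at this
    omega
  obtain ⟨j, hj⟩ : ∃ j, 2 * i = j + 1 := ⟨2 * i - 1, by omega⟩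
  have hj1 : y ^ (q ^ j + 1) = 1 := by
    have e : (y ^ (q ^ j + 1)) ^ q = 1 := by rw [← pow_mul, add_mul, ← pow_succ, ← hj, one_mul, hkey]
    exact iterateFrobenius_inj L p a (by simp only [iterateFrobenius_def, ← ha, e, one_pow])
  have hN : (q ^ (2 * d) : ℕ) = Fintype.card L := by
    rw [Module.card_eq_pow_finrank (K := F) (V := L), D.card, hd, ← pow_mul]
  rcases le_or_gt j d with hjd | hjd
  · refine h _ (by omega) ?_ hj1
    have := Nat.pow_le_pow_right (show 0 < q by omega) hjd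
    omega
  · refine h (q ^ (2 * d - j) + 1) (by omega) ?_ ?_
    · have := Nat.pow_le_pow_right (show 0 < q by omega) (show 2 * d - j ≤ d by omega)
      omega
    · have h3 : y ^ q ^ j = y⁻¹ := by
        rw [pow_succ] at hj1
        exact eq_inv_of_mul_eq_one_left hj1
      have h4 : (y⁻¹) ^ q ^ (2 * d - j) = y := by
        rw [← h3, ← pow_mul, ← pow_add, show j + (2 * d - j) = 2 * d by omega, hN, FiniteField.pow_card]
      rw [inv_pow] at h4
      rw [pow_succ]
      conv_lhs => rw [show y ^ q ^ (2 * d - j) * y = y ^ q ^ (2 * d - j) * (y ^ q ^ (2 * d - j))⁻¹ by rw [h4]]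
      exact mul_inv_cancel₀ (pow_ne_zero _ hy)

theorem neg_one_pow_coeff_minpoly {d : ℕ} (hd : Module.finrank F L = d) {y : L}
    (hdeg : (minpoly F y).natDegree = d) :
    algebraMap F L ((-1) ^ d * (minpoly F y).coeff 0) =
      y ^ ((Fintype.card L - 1) / (Fintype.card F - 1)) := by
  have hi : IsIntegral F y := IsIntegral.of_finite F y
  have htop := (Field.primitive_element_iff_minpoly_natDegree_eq F y).2 (by rw [hdeg, hd])
  let pb := (IntermediateField.adjoin.powerBasis hi).map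
    ((IntermediateField.equivOfEq htop).trans IntermediateField.topEquiv)
  have hgen : pb.gen = y := rfl
  have := Algebra.PowerBasis.norm_gen_eq_coeff_zero_minpoly pb
  rw [hgen, show pb.dim = d from (by
    show (minpoly F y).natDegree = d
    exact hdeg)] at this
  rw [← this, FiniteField.algebraMap_norm_eq_pow]
  simp only [Nat.card_eq_fintype_card]

end Field

theorem aeval_eq_zero_of_inv {d : ℕ} {L : Type*} [Field L] [Algebra F L] {y : L} (hy : y ≠ 0)
    {M : Matrix (Fin d) (Fin d) F} (hM : aeval M (minpoly F y) = 0) (hdet : M.det ≠ 0) :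
    aeval M⁻¹ (minpoly F y⁻¹) = 0 := by
  haveI : Invertible y⁻¹ := invertibleOfNonzero (inv_ne_zero hy)
  have h1 : aeval y (minpoly F y⁻¹).reverse = 0 := by
    rw [aeval_def, show y = ⅟(y⁻¹) by rw [invOf_eq_inv, inv_inv], eval₂_reverse_eq_zero_iff, ← aeval_def,
      invOf_eq_inv, inv_inv]
    exact minpoly.aeval F _
  obtain ⟨r, hr⟩ := minpoly.dvd F y h1
  have uM : IsUnit M.det := isUnit_iff_ne_zero.2 hdet
  set A : (Matrix (Fin d) (Fin d) F)ˣ := ⟨M, M⁻¹, Matrix.mul_nonsing_inv M uM, Matrix.nonsing_inv_mul M uM⟩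
  have h2 := aeval_inv_reverse A (minpoly F y⁻¹)
  rw [hr, map_mul, show aeval (A : Matrix (Fin d) (Fin d) F) (minpoly F y) = 0 from hM, zero_mul] at h2
  exact (IsUnit.mul_left_eq_zero (A.isUnit.pow _)).1 h2

/-- The polynomials used for the big block. -/
theorem FinData.exists_root_data (D : FinData F q) {d : ℕ} (hd2 : 2 ≤ d) (hq : 3 ≤ q ∨ 3 ≤ d) {v : F}
    (hv : v ≠ 0) :
    ∃ (f f' : F[X]) (r : F), f.Monic ∧ f.natDegree = d ∧ Irreducible f ∧ f.coeff 0 ≠ 0 ∧
      f'.Monic ∧ f'.natDegree = d ∧ Irreducible f' ∧ f'.coeff 0 ≠ 0 ∧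
      IsCoprime f (f.map (starRingEnd F)).reverse ∧ IsCoprime f' (f'.map (starRingEnd F)).reverse ∧
      star r = r ∧ r ≠ 0 ∧ (-1) ^ d * f.coeff 0 = v * r ∧
      ∀ M : Matrix (Fin d) (Fin d) F, M.charpoly = f → M⁻¹.charpoly = f' := by
  classical
  obtain ⟨p, hp⟩ := CharP.exists F
  haveI := hp
  haveI : Fact p.Prime := ⟨CharP.char_is_prime F p⟩
  haveI : NeZero d := ⟨by omega⟩
  let L := FiniteField.Extension F p d
  haveI : Finite L := Module.finite_of_finite F
  letI : Fintype L := Fintype.ofFinite L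
  have hfin : Module.finrank F L = d := FiniteField.finrank_extension F p d
  have h2 := D.two_le
  have hcard : Fintype.card L = q ^ (2 * d) := by
    rw [Module.card_eq_pow_finrank (K := F) (V := L), D.card, hfin, ← pow_mul]
  obtain ⟨g, hg⟩ := IsCyclic.exists_generator (α := Lˣ)
  set γ : L := (g : L)
  have hord : orderOf γ = q ^ (2 * d) - 1 := by
    rw [orderOf_units, orderOf_eq_card_of_forall_mem_zpowers hg, Nat.card_eq_fintype_card, Fintype.card_units,
      hcard]
  have hγ0 : γ ≠ 0 := g.ne_zero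
  set E := (Fintype.card L - 1) / (Fintype.card F - 1)
  obtain ⟨w, hw⟩ : ∃ w : F, algebraMap F L w = γ ^ E := by
    refine ⟨Algebra.norm F γ, ?_⟩
    rw [FiniteField.algebraMap_norm_eq_pow]
    simp only [Nat.card_eq_fintype_card, E]
  obtain ⟨j, hj⟩ : ∃ j : ℕ, v = w ^ j := by
    obtain ⟨z, hz⟩ := FiniteField.unitsMap_norm_surjective F L (Units.mk0 v hv)
    obtain ⟨j, hj⟩ := mem_powers_iff_mem_zpowers.2 (hg z)
    refine ⟨j, (algebraMap F L).injective ?_⟩
    have hz' : Algebra.norm F (z : L) = v := congrArg Units.val hz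
    rw [map_pow, hw, ← hz', FiniteField.algebraMap_norm_eq_pow,
      show (z : L) = γ ^ j by rw [← hj]; simp [γ]]
    simp only [Nat.card_eq_fintype_card, E]
    rw [← pow_mul, ← pow_mul, mul_comm]
  set i := j % (q + 1) + (if j % (q + 1) = 0 then q + 1 else 0) with hidef
  have hi : 1 ≤ i ∧ i ≤ q + 1 := by
    have := Nat.mod_lt j (show 0 < q + 1 by omega)
    rw [hidef]; split <;> omega
  obtain ⟨s, t, hst⟩ : ∃ s t : ℕ, i + (q + 1) * s = j + (q + 1) * t := by
    have := Nat.mod_add_div j (q + 1)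
    by_cases h0 : j % (q + 1) = 0
    · exact ⟨j / (q + 1), 1, by rw [hidef, if_pos h0]; omega⟩
    · exact ⟨j / (q + 1), 0, by rw [hidef, if_neg h0]; omega⟩
  set x := γ ^ i with hx
  have hx0 : x ≠ 0 := pow_ne_zero _ hγ0
  have hbound : (q + 1) * (q ^ d + 1) < q ^ (2 * d) - 1 := by
    have hA : 4 ≤ q ^ d := (show 4 = 2 ^ 2 by rfl) ▸ (Nat.pow_le_pow_left h2 2).trans (Nat.pow_le_pow_right (by omega) hd2)
    have hB : q + 3 ≤ q ^ d := by
      rcases hq with hq | hq
      · have h9 := Nat.pow_le_pow_right (show 0 < q by omega) hd2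
        nlinarith
      · have h8 := Nat.pow_le_pow_right (show 0 < q by omega) hq
        nlinarith [Nat.mul_le_mul h2 h2]
    have hC : q ^ (2 * d) = q ^ d * q ^ d := by rw [two_mul, pow_add]
    rw [hC]
    have : (q + 1) * (q ^ d + 1) + 2 ≤ q ^ d * q ^ d := by nlinarith
    omega
  have hhigh : HighOrder q d x := by
    intro m hm hm' he
    rw [hx, ← pow_mul] at he
    have := Nat.le_of_dvd (Nat.mul_pos hi.1 hm) (hord ▸ orderOf_dvd_of_pow_eq_one he)
    have := Nat.mul_le_mul hi.2 hm'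
    omega
  obtain ⟨m1, i1, d1, c1⟩ := D.minpoly_data hfin hx0 hhigh
  obtain ⟨m2, i2, d2, c2⟩ := D.minpoly_data hfin (inv_ne_zero hx0) hhigh.inv
  set r := (w ^ t)⁻¹ ^ (q + 1) * (w ^ s) ^ (q + 1) with hr
  have hw0 : w ≠ 0 := fun h => pow_ne_zero E hγ0 (by rw [← hw, h, map_zero])
  refine ⟨minpoly F x, minpoly F x⁻¹, r⁻¹, m1, d1, i1, c1, m2, d2, i2, c2, D.coprime_twist hfin hx0 hhigh,
    D.coprime_twist hfin (inv_ne_zero hx0) hhigh.inv, ?_, ?_, ?_, ?_⟩
  · rw [star_inv₀, hr, star_mul', D.real_of_pow, D.real_of_pow]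
  · rw [hr]; simp [hw0]
  · have hN : (-1) ^ d * (minpoly F x).coeff 0 = w ^ i := by
      apply (algebraMap F L).injective
      rw [neg_one_pow_coeff_minpoly hfin d1, map_pow, hw, hx, ← pow_mul, ← pow_mul, mul_comm]
    rw [hN, hj, hr]
    have e : w ^ i * (w ^ s) ^ (q + 1) = w ^ j * (w ^ t) ^ (q + 1) := by
      rw [← pow_mul, ← pow_add, ← pow_mul, ← pow_add, mul_comm s, mul_comm t, hst]
    rw [inv_pow]
    field_simp
    linear_combination e
  · intro M hM
    have hdet : M.det ≠ 0 := by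
      rw [det_eq_sign_charpoly_coeff, hM]
      exact mul_ne_zero (pow_ne_zero _ (neg_ne_zero.2 one_ne_zero)) c1
    haveI : Nonempty (Fin d) := ⟨⟨0, by omega⟩⟩
    have h0 := aeval_eq_zero_of_inv hx0 (by rw [← hM, Matrix.aeval_self_charpoly]) hdet
    have hmin := minpoly.eq_of_irreducible_of_monic i2 h0 m2
    obtain ⟨c, hc⟩ := Matrix.minpoly_dvd_charpoly M⁻¹
    rw [← hmin] at hc
    have hdc : (M⁻¹.charpoly).natDegree = d := by rw [charpoly_natDegree_eq_dim, Fintype.card_fin]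
    exact (eq_of_monic_of_dvd_of_natDegree_le m2 (charpoly_monic _) ⟨c, hc⟩ (by rw [hdc, d2])).symm ▸ rfl

end CfsgLib.OreSU
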