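import Cfsg.Agent.OreSU.Ops
import Cfsg.Agent.OreSU.Forms

/-!
# Normalising an element of the unitary group

Up to conjugation and `flip`: the middle scalar becomes one, and a scalar or exceptional upper left
block can be multiplied by `1 + a * star u` with `star u ⬝ᵥ a = 0`.
-/

set_option autoImplicit false
set_option linter.unusedSectionVars false
set_option linter.unusedSimpArgs false

namespace CfsgLib.OreSU

open Matrix

variable {F : Type*} [Field F] [StarRing F] {ι κ : Type*} [Fintype ι] [DecidableEq ι] [Fintype κ]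
  [DecidableEq κ]

/-- Membership in an orbit under conjugation and `flip`. -/
inductive Equiv' : gu F ι κ → gu F ι κ → Prop
  | refl (g) : Equiv' g g
  | conj {g h} (a : gu F ι κ) : Equiv' g h → Equiv' g (a * h * a⁻¹)
  | flip {g h} : Equiv' g h → Equiv' g (flip h)

theorem Equiv'.trans {f g h : gu F ι κ} (h1 : Equiv' f g) (h2 : Equiv' g h) : Equiv' f h := by
  induction h2 with
  | refl => exact h1
  | conj a _ ih => exact ih.conj a
  | flip _ ih => exact ih.flip

theorem Equiv'.conj' {g h : gu F ι κ} (a : gu F ι κ) (e : Equiv' g h) : Equiv' g (a⁻¹ * h * a) := by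
  simpa using e.conj a⁻¹

theorem Equiv'.dt_eq_one {g h : gu F ι κ} (e : Equiv' g h) (hg : dt F ι κ g = 1) : dt F ι κ h = 1 := by
  induction e with
  | refl => exact hg
  | conj a _ ih => rw [dt_conj, ih]
  | flip _ ih => rw [dt_flip, ih, inv_one]

/-- The element is a scalar matrix. -/
def IsScal (g : gu F ι κ) : Prop := ∃ c : F, mat g = c • 1

theorem IsScal.conj {g : gu F ι κ} (h : IsScal g) (a : gu F ι κ) : IsScal (a * g * a⁻¹) := by
  obtain ⟨c, hc⟩ := h
  refine ⟨c, ?_⟩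
  show mat a * mat g * mat a⁻¹ = _
  rw [hc, Matrix.mul_smul, Matrix.mul_one, Matrix.smul_mul]
  congr 1
  exact congrArg mat (mul_inv_cancel a)

theorem IsScal.inv {g : gu F ι κ} (h : IsScal g) : IsScal g⁻¹ := by
  obtain ⟨c, hc⟩ := h
  refine ⟨c⁻¹, ?_⟩
  have h1 : mat g * mat g⁻¹ = 1 := congrArg mat (mul_inv_cancel g)
  rw [hc, Matrix.smul_mul, Matrix.one_mul] at h1
  by_cases hc0 : c = 0
  · rw [hc0, zero_smul] at h1
    rw [hc0, _root_.inv_zero, zero_smul]
    have := congrArg (mat g⁻¹ * ·) h1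
    simp only [Matrix.mul_zero, Matrix.mul_one] at this
    exact this.symm
  · rw [← h1, smul_smul, inv_mul_cancel₀ hc0, one_smul]

theorem IsScal.flip {g : gu F ι κ} (h : IsScal g) : IsScal (flip g) := by
  have := h.inv.conj wl
  rwa [wl_inv] at this

theorem Equiv'.not_scal {g h : gu F ι κ} (e : Equiv' g h) (hg : ¬ IsScal g) : ¬ IsScal h := by
  induction e with
  | refl => exact hg
  | @conj h' a _ ih =>
    intro hs
    refine ih ?_
    have := hs.conj a⁻¹
    simpa [mul_assoc] using this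
  | @flip h' _ ih =>
    intro hs
    refine ih ?_
    have := hs.flip
    rwa [flip_flip] at this

theorem m11_ldu {v w : Matrix κ ι F} {X Y : Matrix ι ι F} (hX : Rad v X) (hY : Rad w Y)
    (A : (Matrix ι ι F)ˣ) {μ : F} (hμ : μ * star μ = 1) :
    m11 (lo v X hX * dg A μ hμ * up w Y hY) = (A : Matrix ι ι F) :=
  (blocks_of_eq (blocks_ldu hX hY A hμ)).1

/-- Conjugation by a lower radical element, seen on the upper left block. -/
theorem m11_conj_lo {v w : Matrix κ ι F} {X Y : Matrix ι ι F} (hX : Rad v X) (hY : Rad w Y)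
    (A : (Matrix ι ι F)ˣ) {μ : F} (hμ : μ * star μ = 1) (t : Matrix κ ι F) (S : Matrix ι ι F)
    (h : Rad t S) :
    m11 ((lo t S h)⁻¹ * (lo v X hX * dg A μ hμ * up w Y hY) * lo t S h) =
      (A : Matrix ι ι F) * (1 - wᴴ * t + Y * S) := by
  rw [(conj_lo_blocks _ t S h (blocks_ldu hX hY A hμ)).1]
  simp only [Matrix.mul_add, Matrix.mul_sub, Matrix.mul_one, Matrix.neg_mul, Matrix.mul_neg, Matrix.mul_assoc,
    sub_eq_add_neg]

section Subsingleton

variable [Subsingleton κ]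

theorem row_mul (w : Matrix κ ι F) (r : ι → F) :
    wᴴ * (Matrix.of fun _ : κ => r) = vecMulVec (wᴴ *ᵥ fun _ => 1) r := by
  ext x y
  simp [Matrix.mul_apply, vecMulVec_apply, Matrix.mulVec, dotProduct, Finset.sum_mul]

theorem gram_eq (w : Matrix κ ι F) : wᴴ * w = vecMulVec (wᴴ *ᵥ fun _ => 1) (star (wᴴ *ᵥ fun _ => 1)) := by
  ext x y
  simp only [Matrix.mul_apply, vecMulVec_apply, Matrix.mulVec, dotProduct, conjTranspose_apply, mul_one,
    Pi.star_apply]
  rcases isEmpty_or_nonempty κ with hκ | ⟨⟨j⟩⟩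
  · simp
  · simp [Fintype.sum_subsingleton _ j]

theorem vec_eq_zero {w : Matrix κ ι F} (h : (wᴴ *ᵥ fun _ => (1 : F)) = 0) : w = 0 := by
  ext j x
  have := congrFun h x
  simp [Matrix.mulVec, dotProduct, Fintype.sum_subsingleton _ j] at this
  exact this

theorem rad_sq {w : Matrix κ ι F} {Y : Matrix ι ι F} (hY : Rad w Y) (u : ι → F) :
    sq Y u u + star (sq Y u u) +
      (star u ⬝ᵥ (wᴴ *ᵥ fun _ => 1)) * star (star u ⬝ᵥ (wᴴ *ᵥ fun _ => 1)) = 0 := by
  set ω := wᴴ *ᵥ fun _ => (1 : F)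
  have h1 : sq (Y + Yᴴ + wᴴ * w) u u = 0 := by
    rw [show Y + Yᴴ + wᴴ * w = 0 from hY]
    simp [sq]
  have h2 : sq Yᴴ u u = star (sq Y u u) := by
    rw [sq_adjoint, conjTranspose_conjTranspose, sq, star_dotProduct_swap]
  have h3 : sq (wᴴ * w) u u = (star u ⬝ᵥ ω) * star (star u ⬝ᵥ ω) := by
    rw [gram_eq, sq, vecMulVec_mulVec, op_smul_eq_smul, dotProduct_smul, star_dotProduct_swap, smul_eq_mul,
      mul_comm]
  rw [← h2, ← h3, ← h1]
  simp [sq, add_mulVec, dotProduct_add]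

/-- Realising a rank one change of the upper left block. -/
theorem realize {v w : Matrix κ ι F} {X Y : Matrix ι ι F} (hX : Rad v X) (hY : Rad w Y)
    (A : (Matrix ι ι F)ˣ) {μ : F} (hμ : μ * star μ = 1) (u : ι → F) (ρ s : F)
    (hs : s + star s + ρ * star ρ = 0) (hκ : IsEmpty κ → ρ = 0) :
    ∃ g', Equiv' (lo v X hX * dg A μ hμ * up w Y hY) g' ∧ m11 g' = (A : Matrix ι ι F) *
      (1 + vecMulVec (ρ • (wᴴ *ᵥ fun _ => 1) + s • (Y *ᵥ u)) (star u)) := by
  set t : Matrix κ ι F := Matrix.of fun _ => -ρ • star u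
  set S : Matrix ι ι F := s • vecMulVec u (star u)
  have h : Rad t S := by
    show S + Sᴴ + tᴴ * t = 0
    ext x y
    simp only [S, t, Matrix.add_apply, Matrix.smul_apply, conjTranspose_apply, vecMulVec_apply, Matrix.mul_apply,
      Matrix.of_apply, Pi.smul_apply, Pi.star_apply, smul_eq_mul, star_mul', star_neg, star_star, Matrix.zero_apply]
    rcases isEmpty_or_nonempty κ with hk | ⟨⟨j⟩⟩
    · have h0 := hκ hk
      rw [h0] at hs
      simp
      linear_combination (u x * star (u y)) * hs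
    · rw [Fintype.sum_subsingleton _ j]
      linear_combination (u x * star (u y)) * hs
  refine ⟨_, (Equiv'.refl _).conj' (lo t S h), ?_⟩
  rw [m11_conj_lo hX hY A hμ t S h]
  congr 1
  rw [row_mul, Matrix.mul_smul, mul_vecMulVec, add_vecMulVec, smul_vecMulVec, smul_vecMulVec,
    neg_smul, vecMulVec_neg, vecMulVec_smul, sub_neg_eq_add, add_assoc]

/-- Realising a change by a skew Hermitian matrix. -/
theorem realize_skew {v w : Matrix κ ι F} {X Y : Matrix ι ι F} (hX : Rad v X) (hY : Rad w Y)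
    (A : (Matrix ι ι F)ˣ) {μ : F} (hμ : μ * star μ = 1) {S : Matrix ι ι F} (hS : Sᴴ = -S) :
    ∃ g', Equiv' (lo v X hX * dg A μ hμ * up w Y hY) g' ∧
      m11 g' = (A : Matrix ι ι F) * (1 + Y * S) := by
  have h : Rad (0 : Matrix κ ι F) S := by
    show S + Sᴴ + (0 : Matrix κ ι F)ᴴ * 0 = 0
    simp [hS]
  refine ⟨_, (Equiv'.refl _).conj' (lo 0 S h), ?_⟩
  rw [m11_conj_lo hX hY A hμ 0 S h, Matrix.mul_zero, sub_zero]

/-- What is required of a change `1 + vecMulVec a (star u)`. -/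
def GoodShift (p q₀ a u : ι → F) : Prop :=
  star u ⬝ᵥ a = 0 ∧ a ≠ 0 ∧ u ≠ 0 ∧
    (((∀ t : F, a ≠ t • p) ∧ ∀ t : F, u ≠ t • q₀) ∨ (a = -p ∧ u = q₀))

theorem goodShift_of_off {p q₀ a u : ι → F} (hpq : (p = 0 ∧ q₀ = 0) ∨ (p ≠ 0 ∧ q₀ ≠ 0 ∧ star q₀ ⬝ᵥ p = 0))
    (h0 : star u ⬝ᵥ a = 0) (ha : a ≠ 0) (hu : u ≠ 0) (hp : p ≠ 0 → star u ⬝ᵥ p ≠ 0) : GoodShift p q₀ a u := by
  refine ⟨h0, ha, hu, Or.inl ?_⟩
  rcases hpq with ⟨rfl, rfl⟩ | ⟨hp0, hq, hqp⟩
  · exact ⟨fun t h => ha (by rw [h, smul_zero]), fun t h => hu (by rw [h, smul_zero])⟩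
  · refine ⟨fun t h => ?_, fun t h => hp hp0 (by rw [h, star_smul, smul_dotProduct, hqp, smul_zero])⟩
    rw [h, dotProduct_smul, smul_eq_mul, mul_eq_zero] at h0
    exact ha (by rw [h, h0.resolve_right (hp hp0), zero_smul])

theorem exists_orth [Nontrivial ι] {p q₀ : ι → F}
    (hpq : (p = 0 ∧ q₀ = 0) ∨ (p ≠ 0 ∧ q₀ ≠ 0 ∧ star q₀ ⬝ᵥ p = 0)) {y : ι → F} (hy : y ≠ 0) :
    ∃ (t : F) (u : ι → F), t ≠ 0 ∧ GoodShift p q₀ (t • y) u := by
  by_cases hp0 : p = 0
  · obtain ⟨u, hu, hu0⟩ := exists_ne_zero_of_dual_zero (pairing y)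
    refine ⟨1, u, one_ne_zero, goodShift_of_off hpq ?_ (by rwa [one_smul]) hu fun h => absurd hp0 h⟩
    rw [one_smul, ← star_dotProduct_swap, ← pairing_apply, hu0, star_zero]
  obtain ⟨hp, hq, hqp⟩ := hpq.resolve_left fun h => hp0 h.1
  by_cases hyp : ∃ t : F, p = t • y
  · obtain ⟨t, ht⟩ := hyp
    have ht0 : t ≠ 0 := fun h => hp0 (by rw [ht, h, zero_smul])
    refine ⟨-t, q₀, neg_ne_zero.2 ht0, ?_, ?_, hq, Or.inr ⟨by rw [neg_smul, ht], rfl⟩⟩
    · rw [neg_smul, ← ht, dotProduct_neg, hqp, neg_zero]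
    · rw [neg_smul, ← ht]; exact neg_ne_zero.2 hp
  push Not at hyp
  obtain ⟨z, h1, h2⟩ := LevCover.exists_dual_zero (v := star y) (w := star p) (fun t ht => hyp (star t) (by
    have h3 := congrArg star ht
    rwa [star_star, star_smul, star_star] at h3))
  rw [dotProduct_comm] at h1 h2
  refine ⟨1, z, one_ne_zero, goodShift_of_off hpq ?_ (by rwa [one_smul]) ?_ fun _ => ?_⟩
  · rw [one_smul, ← star_dotProduct_swap, h1, star_zero]
  · exact fun h => h2 (by rw [h, dotProduct_zero])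
  · rw [← star_dotProduct_swap, star_ne_zero]; exact h2

/-- A rank one change with zero trace that moves the given data. -/
theorem exists_shift [Fintype F] [Nontrivial ι] (SD : StarData F) (h4 : 4 ≤ Fintype.card F)
    {v w : Matrix κ ι F} {X Y : Matrix ι ι F} (hX : Rad v X) (hY : Rad w Y)
    (A : (Matrix ι ι F)ˣ) {μ : F} (hμ : μ * star μ = 1) (hY0 : Y ≠ 0) {p q₀ : ι → F}
    (hpq : (p = 0 ∧ q₀ = 0) ∨ (p ≠ 0 ∧ q₀ ≠ 0 ∧ star q₀ ⬝ᵥ p = 0)) :
    ∃ (g' : gu F ι κ) (a u : ι → F), Equiv' (lo v X hX * dg A μ hμ * up w Y hY) g' ∧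
      GoodShift p q₀ a u ∧ m11 g' = (A : Matrix ι ι F) * (1 + vecMulVec a (star u)) := by
  classical
  set ω := wᴴ *ᵥ fun _ => (1 : F) with hω
  obtain ⟨θ, hθ⟩ := SD.trace
  have hsolve : ∀ ρ : F, ∃ s : F, s + star s + ρ * star ρ = 0 := fun ρ => ⟨-(ρ * star ρ) * θ, by
    rw [star_mul', star_neg, star_mul', star_star]
    linear_combination (-(ρ * star ρ)) * hθ⟩
  have avoidp : ∃ L : (ι → F) →ₗ[F] F, L ≠ 0 ∧ ∀ u, L u ≠ 0 → (p ≠ 0 → star u ⬝ᵥ p ≠ 0) ∧ u ≠ 0 := by
    by_cases hp : p = 0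
    · obtain ⟨i, -, -⟩ := exists_pair_ne ι
      refine ⟨pairing (Pi.single i 1), pairing_ne (fun h => by simpa using congrFun h i), fun u hu =>
        ⟨fun h => absurd hp h, fun h => hu (by rw [h, map_zero])⟩⟩
    · refine ⟨pairing p, pairing_ne hp, fun u hu => ⟨fun _ h => hu ?_, fun h => hu (by rw [h, map_zero])⟩⟩
      rw [pairing_apply, ← star_dotProduct_swap, h, star_zero]
  obtain ⟨Lp, hLp, hLp'⟩ := avoidp
  have hsq : ∀ v₀, Y *ᵥ v₀ ≠ 0 → ∃ L : (ι → F) →ₗ[F] F, L ≠ 0 ∧ ∀ u, L u ≠ 0 → Y *ᵥ u ≠ 0 := fun v₀ hv₀ => by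
    obtain ⟨i, hi⟩ := Function.ne_iff.1 hv₀
    exact ⟨(LinearMap.proj i).comp (Matrix.mulVecLin Y), fun h => hi (LinearMap.congr_fun h v₀),
      fun u hu h => hu (by simp [h])⟩
  by_cases hω0 : ω = 0
  · have hw : w = 0 := vec_eq_zero hω0
    have hskew : Yᴴ = -Y := rad_skew (by simpa [Rad, hw] using hY)
    obtain ⟨δ, hδ, hδ0⟩ := SD.skew
    rcases isotropic_or_rank_one SD hskew with ⟨x, hx, hYx⟩ | ⟨c, y, hcy⟩
    · obtain ⟨L₁, hL₁, hL₁'⟩ := hsq x hYx
      obtain ⟨u, hu, hu1, hu2⟩ := exists_isotropic_two SD hskew hx hYx hL₁ hLp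
      obtain ⟨g', hg', hm⟩ := realize hX hY A hμ u 0 δ (by rw [hδ]; ring) (fun _ => rfl)
      rw [zero_smul, zero_add] at hm
      refine ⟨g', δ • (Y *ᵥ u), u, hg', goodShift_of_off hpq ?_ ?_ (hLp' u hu2).2 (hLp' u hu2).1, hm⟩
      · rw [dotProduct_smul, show star u ⬝ᵥ (Y *ᵥ u) = 0 from hu, smul_zero]
      · exact smul_ne_zero hδ0 (hL₁' u hu1)
    · have hc : c ≠ 0 := fun h => hY0 (by rw [hcy, h, zero_smul])
      have hy : y ≠ 0 := fun h => hY0 (by rw [hcy, h, zero_vecMulVec, smul_zero])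
      obtain ⟨t, r, ht, hgood⟩ := exists_orth hpq hy
      have hry : star r ⬝ᵥ y = 0 := by
        have := hgood.1
        rw [dotProduct_smul, smul_eq_mul] at this
        exact (mul_eq_zero.1 this).resolve_left ht
      obtain ⟨u₁, hu₁⟩ : ∃ u, star y ⬝ᵥ u ≠ 0 := by
        obtain ⟨i, hi⟩ := Function.ne_iff.1 hy
        exact ⟨Pi.single i 1, by simpa using hi⟩
      set u := (t / (c * (star y ⬝ᵥ u₁))) • u₁
      have hS : (vecMulVec u (star r) - vecMulVec r (star u))ᴴ = -(vecMulVec u (star r) - vecMulVec r (star u)) := by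
        rw [conjTranspose_sub, conjTranspose_vecMulVec, conjTranspose_vecMulVec, star_star, star_star, neg_sub]
      obtain ⟨g', hg', hm⟩ := realize_skew hX hY A hμ hS
      refine ⟨g', t • y, r, hg', hgood, ?_⟩
      rw [hm, Matrix.mul_sub, mul_vecMulVec, mul_vecMulVec]
      have hYr : Y *ᵥ r = 0 := by
        rw [hcy, smul_mulVec, vecMulVec_mulVec, op_smul_eq_smul, ← star_dotProduct_swap, hry, star_zero,
          zero_smul, smul_zero]
      have hYu : Y *ᵥ u = t • y := by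
        rw [hcy, smul_mulVec, vecMulVec_mulVec, op_smul_eq_smul, dotProduct_smul, smul_smul, smul_eq_mul]
        congr 1
        field_simp
      rw [hYr, hYu, zero_vecMulVec, sub_zero]
  · have hne : ¬ IsEmpty κ := fun h => hω0 (by funext x; simp [hω, Matrix.mulVec, dotProduct])
    by_cases hJ : ∀ v₀, ∃ t : F, Y *ᵥ v₀ = t • ω
    · obtain ⟨t, u, ht, hgood⟩ := exists_orth hpq hω0
      obtain ⟨s, hs⟩ := hsolve t
      obtain ⟨g', hg', hm⟩ := realize hX hY A hμ u t s hs (fun h => absurd h hne)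
      have huω : star u ⬝ᵥ ω = 0 := by
        have := hgood.1
        rw [dotProduct_smul, smul_eq_mul] at this
        exact (mul_eq_zero.1 this).resolve_left ht
      have hYu : Y *ᵥ u = 0 := by
        obtain ⟨r, hr⟩ := hJ u
        obtain ⟨i, hi⟩ := Function.ne_iff.1 hω0
        -- evaluate the form between a vector and `u`
        have hp : ∀ x, sq Y x u + star (sq Y u x) = 0 := fun x => by
          have h1 : sq (Y + Yᴴ + wᴴ * w) x u = 0 := by
            rw [show Y + Yᴴ + wᴴ * w = 0 from hY]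
            simp [sq]
          simp only [sq, add_mulVec, dotProduct_add] at h1
          rw [gram_eq, vecMulVec_mulVec, op_smul_eq_smul, dotProduct_smul, ← hω,
            ← star_dotProduct_swap u ω, huω, star_zero, zero_smul, add_zero] at h1
          have h2 : star x ⬝ᵥ (Yᴴ *ᵥ u) = star (sq Y u x) := by
            rw [sq_adjoint Y u x, star_dotProduct_swap]
          rw [h2] at h1
          exact h1
        have h3 := hp (Pi.single i 1)
        obtain ⟨r', hr'⟩ := hJ (Pi.single i 1)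
        have e1 : sq Y u (Pi.single i 1) = 0 := by rw [sq, hr', dotProduct_smul, huω, smul_zero]
        rw [e1, star_zero, add_zero, sq, hr, dotProduct_smul, smul_eq_mul, mul_eq_zero] at h3
        rw [hr, h3.resolve_right (by simpa using hi), zero_smul]
      rw [hYu, smul_zero, add_zero] at hm
      exact ⟨g', t • ω, u, hg', hgood, hm⟩
    push Not at hJ
    obtain ⟨v₀, hv₀⟩ := hJ
    obtain ⟨ζ, hζω, hζ⟩ := exists_sep hv₀
    set L₁ := ζ.comp (Matrix.mulVecLin Y)
    have hL₁ : L₁ ≠ 0 := fun h => hζ (LinearMap.congr_fun h v₀)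
    obtain ⟨u, hu, hav⟩ := exists_affine_avoid h4 (pairing_ne hω0) ![L₁, Lp, Lp] (by
      intro s; fin_cases s <;> assumption)
    have hu1 : L₁ u ≠ 0 := hav 0
    have hu2 : Lp u ≠ 0 := hav 1
    have hγ : star u ⬝ᵥ ω = 1 := by rw [← star_dotProduct_swap, ← pairing_apply, hu, star_one]
    set β := sq Y u u with hβ
    have hrad : β + star β + 1 = 0 := by
      have := rad_sq hY u
      rw [← hω, hγ, star_one, mul_one] at this
      exact this
    have hβ0 : β ≠ 0 := fun h => by simp [h] at hrad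
    have hβs : star β ≠ 0 := star_ne_zero.2 hβ0
    obtain ⟨s₁, hs₁⟩ := hsolve 1
    have hs0 : s₁ ≠ 0 := fun h => by simp [h] at hs₁
    have hs₁s : star s₁ ≠ 0 := star_ne_zero.2 hs0
    set ρ := -1 / (star s₁ * star β) with hρ
    set s := s₁ * (ρ * star ρ) with hs
    have hρ' : star ρ = -1 / (s₁ * β) := by
      rw [hρ, star_div₀, star_neg, star_one, star_mul', star_star, star_star]
    have hsv : s + star s + ρ * star ρ = 0 := by
      rw [star_one, mul_one] at hs₁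
      have e : star (ρ * star ρ) = ρ * star ρ := by rw [star_mul', star_star, mul_comm]
      rw [hs, star_mul', e]
      linear_combination (ρ * star ρ) * hs₁
    obtain ⟨g', hg', hm⟩ := realize hX hY A hμ u ρ s hsv (fun h => absurd h hne)
    have hρ0 : ρ ≠ 0 := div_ne_zero (neg_ne_zero.2 one_ne_zero) (mul_ne_zero hs₁s hβs)
    refine ⟨g', ρ • ω + s • (Y *ᵥ u), u, hg', goodShift_of_off hpq ?_ ?_ (hLp' u hu2).2 (hLp' u hu2).1, hm⟩
    · rw [dotProduct_add, dotProduct_smul, dotProduct_smul, hγ, show star u ⬝ᵥ (Y *ᵥ u) = β from rfl,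
        smul_eq_mul, smul_eq_mul, hs, hρ']
      field_simp
      ring
    · intro h
      have h' := congrArg ζ h
      rw [map_add, map_smul, map_smul, hζω, smul_zero, zero_add, map_zero, smul_eq_mul, mul_eq_zero] at h'
      refine h'.elim (fun h1 => ?_) hu1
      rw [hs] at h1
      rcases mul_eq_zero.1 h1 with h1 | h1
      · exact hs0 h1
      · exact mul_ne_zero hρ0 (star_ne_zero.2 hρ0) h1

end Subsingleton

end CfsgLib.OreSU
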