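import Mathlib
import Cfsg.Prelude.Def_Classical

/-!
# Scalar elements of special unitary groups are commutators

For a scalar `c` of order `d` the block `shiftMat * powDiag` construction gives `A * B = c • (B * A)`;
when both natural determinants are `-1` one block is corrected by a unitary matrix commuting with the
shift, supported on two isotropic eigenvectors.
-/

set_option autoImplicit false

namespace CfsgLib.OreSU.ScalarCase

open Matrix

variable {F : Type*} [Field F] {ι κ : Type*} [Fintype ι] [DecidableEq ι] [Fintype κ] [DecidableEq κ]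

/-- Invariance of the standard sesquilinear form. -/
def IsU (σ : F →+* F) (M : Matrix ι ι F) : Prop := Mᵀ * M.map σ = 1

theorem IsU.mul {σ : F →+* F} {M N : Matrix ι ι F} (hM : IsU σ M) (hN : IsU σ N) : IsU σ (M * N) := by
  rw [IsU, transpose_mul, Matrix.map_mul, Matrix.mul_assoc, ← Matrix.mul_assoc Mᵀ, hM, Matrix.one_mul, hN]

theorem isU_one (σ : F →+* F) : IsU σ (1 : Matrix ι ι F) := by
  rw [IsU, transpose_one, Matrix.map_one σ σ.map_zero σ.map_one, Matrix.one_mul]

theorem IsU.smul {σ : F →+* F} {M : Matrix ι ι F} (hM : IsU σ M) {a : F} (ha : a * σ a = 1) :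
    IsU σ (a • M) := by
  have e : (a • M).map σ = σ a • M.map σ := Matrix.ext fun i j => by simp
  rw [IsU, transpose_smul, e, Matrix.smul_mul, Matrix.mul_smul, hM, smul_smul, ha, one_smul]

theorem isU_blockDiagonal {σ : F →+* F} {f : κ → Matrix ι ι F} (h : ∀ j, IsU σ (f j)) :
    IsU σ (blockDiagonal f) := by
  rw [IsU, blockDiagonal_transpose, blockDiagonal_map _ _ σ.map_zero, ← blockDiagonal_mul,
    show (fun j => (f j)ᵀ * (f j).map σ) = (1 : κ → Matrix ι ι F) from funext h, blockDiagonal_one]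

theorem isU_diagonal {σ : F →+* F} {w : ι → F} (h : ∀ i, w i * σ (w i) = 1) :
    IsU σ (diagonal w) := by
  rw [IsU, diagonal_transpose, diagonal_map σ.map_zero, diagonal_mul_diagonal, ← diagonal_one]
  exact congrArg diagonal (funext h)

theorem isU_reindex {σ : F →+* F} (e : ι ≃ κ) {M : Matrix ι ι F} (h : IsU σ M) :
    IsU σ (reindex e e M) := by
  rw [IsU, reindex_apply, transpose_submatrix, ← submatrix_map, submatrix_mul_equiv, h, submatrix_one_equiv]

variable {e : ℕ}

/-- The cyclic shift with wrap-around entry `s`. -/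
def shiftMat (e : ℕ) (s : F) : Matrix (Fin (e + 1)) (Fin (e + 1)) F :=
  Matrix.of fun i r => if i = r + 1 then (if i = 0 then s else 1) else 0

theorem shiftMat_eq (s : F) : shiftMat e s =
    diagonal (fun i : Fin (e + 1) => if i = 0 then s else 1) * (finRotate (e + 1))⁻¹.permMatrix F := by
  ext i r
  rw [diagonal_mul, Equiv.Perm.permMatrix, PEquiv.toMatrix_apply, shiftMat, Matrix.of_apply]
  have h : (finRotate (e + 1))⁻¹ i = r ↔ i = r + 1 := by
    rw [Equiv.Perm.inv_def, Equiv.symm_apply_eq, finRotate_apply]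
  simp only [Equiv.toPEquiv_apply, Option.mem_def, Option.some.injEq, h, mul_ite, mul_one, mul_zero]

theorem det_shiftMat (s : F) : (shiftMat e s).det = s * (-1) ^ e := by
  rw [shiftMat_eq, det_mul, det_diagonal, det_permutation, Equiv.Perm.sign_inv, sign_finRotate]
  simp

theorem isU_shiftMat {σ : F →+* F} {s : F} (hs : s * σ s = 1) : IsU σ (shiftMat e s) := by
  rw [shiftMat_eq]
  refine IsU.mul (isU_diagonal fun i => ?_) ?_
  · split <;> simp [hs]
  · rw [IsU, Equiv.Perm.permMatrix, ← PEquiv.toMatrix_symm]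
    have e1 : ((Equiv.toPEquiv ((finRotate (e + 1))⁻¹)).toMatrix : Matrix _ _ F).map σ =
        (Equiv.toPEquiv ((finRotate (e + 1))⁻¹)).toMatrix := by
      ext i j
      simp [PEquiv.toMatrix_apply, apply_ite σ]
    rw [e1, ← PEquiv.toMatrix_trans, ← Equiv.toPEquiv_symm, ← Equiv.toPEquiv_trans, Equiv.symm_trans_self,
      Equiv.toPEquiv_refl, PEquiv.toMatrix_refl]

/-- The diagonal of powers of `μ`. -/
def powDiag (e : ℕ) (μ : F) : Matrix (Fin (e + 1)) (Fin (e + 1)) F :=
  diagonal fun r => μ ^ (r : ℕ)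

theorem pow_val_add_one {μ : F} (hμ : μ ^ (e + 1) = 1) (r : Fin (e + 1)) :
    μ ^ ((r + 1 : Fin (e + 1)) : ℕ) = μ * μ ^ (r : ℕ) := by
  rw [Fin.val_add_one]
  split
  · next h => rw [h, Fin.val_last, ← pow_succ', hμ, pow_zero]
  · rw [pow_succ']

theorem shiftMat_mul_powDiag {c μ : F} (hcμ : c * μ = 1) (hμ : μ ^ (e + 1) = 1) (s : F) :
    shiftMat e s * powDiag e μ = c • (powDiag e μ * shiftMat e s) := by
  ext i r
  rw [Matrix.smul_apply, powDiag, mul_diagonal, diagonal_mul, shiftMat, Matrix.of_apply]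
  split
  · next h =>
    rw [smul_eq_mul, h, pow_val_add_one hμ]
    linear_combination (-((if r + 1 = 0 then s else 1) * μ ^ (r : ℕ))) * hcμ
  · simp

theorem det_powDiag (μ : F) : (powDiag e μ).det = μ ^ ∑ r ∈ Finset.range (e + 1), r := by
  rw [powDiag, det_diagonal, Finset.prod_pow_eq_pow_sum, Fin.sum_univ_eq_sum_range (fun r => r)]

theorem det_powDiag_of_odd {μ : F} (hμ : μ ^ (e + 1) = 1) (he : Even e) : (powDiag e μ).det = 1 := by
  obtain ⟨t, rfl⟩ := he
  have h : ∑ r ∈ Finset.range (t + t + 1), r = (t + t + 1) * t := by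
    have h2 := Finset.sum_range_id_mul_two (t + t + 1)
    simp only [Nat.add_sub_cancel] at h2
    nlinarith
  rw [det_powDiag, h, pow_mul, hμ, one_pow]

theorem det_powDiag_of_even {μ : F} (hord : orderOf μ = e + 1) (he : Odd e) :
    (powDiag e μ).det = -1 := by
  obtain ⟨t, rfl⟩ := he
  have h : ∑ r ∈ Finset.range (2 * t + 1 + 1), r = (t + 1) * (2 * t + 1) := by
    have h2 := Finset.sum_range_id_mul_two (2 * t + 1 + 1)
    simp only [Nat.add_sub_cancel] at h2
    nlinarith
  have h1 : μ ^ (t + 1) * μ ^ (t + 1) = 1 := by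
    rw [← pow_add, show t + 1 + (t + 1) = orderOf μ by omega, pow_orderOf_eq_one]
  have h2 : μ ^ (t + 1) ≠ 1 := fun h => by
    have := Nat.le_of_dvd (by omega) (orderOf_dvd_of_pow_eq_one h)
    omega
  rw [det_powDiag, h, pow_mul, (mul_self_eq_one_iff.1 h1).resolve_left h2, Odd.neg_one_pow ⟨t, rfl⟩]

/-- The geometric vector of ratio `z⁻¹`. -/
def geomVec (e : ℕ) (z : F) : Fin (e + 1) → F := fun r => z⁻¹ ^ (r : ℕ)

theorem shiftMat_geomVec {z : F} (hz0 : z ≠ 0) (hz : z ^ (e + 1) = -1) :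
    shiftMat e (-1) *ᵥ geomVec e z = z • geomVec e z := by
  funext i
  rw [mulVec, dotProduct, Finset.sum_eq_single (i - 1), Pi.smul_apply, smul_eq_mul]
  · rw [shiftMat, Matrix.of_apply, if_pos (sub_add_cancel i 1).symm]
    rcases eq_or_ne i 0 with rfl | hi
    · have hl : (((0 : Fin (e + 1)) - 1 : Fin (e + 1)) : ℕ) = e := by
        rw [zero_sub, Fin.coe_neg_one]
      rw [pow_succ] at hz
      rw [if_pos rfl, geomVec, geomVec, hl, Fin.val_zero, pow_zero, mul_one, inv_pow]
      field_simp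
      linear_combination -hz
    · rw [if_neg hi, one_mul, geomVec, geomVec]
      obtain ⟨m, hm⟩ : ∃ m : ℕ, (i : ℕ) = m + 1 :=
        Nat.exists_eq_succ_of_ne_zero fun h => hi (Fin.ext h)
      have hv : ((i - 1 : Fin (e + 1)) : ℕ) = m := by
        rw [Fin.val_sub_one_of_ne_zero hi]; omega
      rw [hv, hm, pow_succ', ← mul_assoc, mul_inv_cancel₀ hz0, one_mul]
  · intro b _ hb
    rw [shiftMat, Matrix.of_apply, if_neg (fun h => hb (by rw [h, add_sub_cancel_right])), zero_mul]
  · simp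

/-- A unitary matrix of determinant `-1` commuting with the signed shift. -/
theorem exists_correction {σ : F →+* F} (hσ : ∀ x, σ (σ x) = x) (hd : ((e + 1 : ℕ) : F) ≠ 0)
    (he : Odd e) {η s : F} (hη : η ^ (e + 1) = -1) (hη' : η * σ η = -1) (hs0 : s ≠ 0) (hs : σ s = -s) :
    ∃ Y : Matrix (Fin (e + 1)) (Fin (e + 1)) F,
      IsU σ Y ∧ Y.det = -1 ∧ shiftMat e (-1) * Y = Y * shiftMat e (-1) := by
  set d : F := ((e + 1 : ℕ) : F) with hd'
  have hη0 : η ≠ 0 := fun h => by simp [h] at hη'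
  have hev : Even (e + 1) := he.add_one
  have hη2 : (-η) ^ (e + 1) = -1 := by rw [hev.neg_pow, hη]
  set A := shiftMat e (-1 : F)
  set v := geomVec e η
  set w := geomVec e (-η)
  set sv : Fin (e + 1) → F := σ ∘ v
  set sw : Fin (e + 1) → F := σ ∘ w
  have hsum : ∀ {x : F}, x = -1 → ∑ r : Fin (e + 1), x ^ (r : ℕ) = 0 := fun {x} hx => by
    rw [Fin.sum_univ_eq_sum_range (fun r => x ^ r), hx, neg_one_geom_sum, if_pos hev]
  have hgram : ∀ {y z : F}, y⁻¹ * σ z⁻¹ = 1 → geomVec e y ⬝ᵥ (σ ∘ geomVec e z) = d := fun {y z} h => by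
    rw [dotProduct, Finset.sum_congr rfl fun r _ => show geomVec e y r * (σ ∘ geomVec e z) r = 1 by
      rw [geomVec, Function.comp_apply, geomVec, map_pow, ← mul_pow, h, one_pow]]
    simp [hd']
  have hnull : ∀ {y : F}, y⁻¹ * σ y⁻¹ = -1 → geomVec e y ⬝ᵥ (σ ∘ geomVec e y) = 0 := fun {y} h => by
    rw [dotProduct, ← hsum h]
    refine Finset.sum_congr rfl fun r _ => ?_
    rw [geomVec, Function.comp_apply, geomVec, map_pow, ← mul_pow]
  have hvv : v ⬝ᵥ sv = 0 := hnull (by rw [map_inv₀, ← mul_inv, hη']; norm_num)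
  have hww : w ⬝ᵥ sw = 0 := hnull (by rw [map_inv₀, ← mul_inv, map_neg, neg_mul_neg, hη']; norm_num)
  have hvw : v ⬝ᵥ sw = d := hgram (by rw [map_inv₀, ← mul_inv, map_neg, mul_neg, hη']; norm_num)
  have hwv : w ⬝ᵥ sv = d := hgram (by rw [map_inv₀, ← mul_inv, neg_mul, hη']; norm_num)
  have hσd : σ d = d := map_natCast σ _
  have hssv : σ ∘ sv = v := funext fun i => hσ _
  have hssw : σ ∘ sw = w := funext fun i => hσ _
  set a := (s - 1) / d with ha
  set b := ((σ s)⁻¹ - 1) / d with hb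
  set Y := 1 + a • vecMulVec v sw + b • vecMulVec w sv with hY
  have hσmap : ∀ (u u' : Fin (e + 1) → F) (r : F),
      (r • vecMulVec u u').map σ = σ r • vecMulVec (σ ∘ u) (σ ∘ u') := fun u u' r => by
    ext i j; simp [vecMulVec_apply]
  refine ⟨Y, ?_, ?_, ?_⟩
  · have hYt : Yᵀ = 1 + a • vecMulVec sw v + b • vecMulVec sv w := by
      rw [hY, transpose_add, transpose_add, transpose_one, transpose_smul, transpose_smul,
        transpose_vecMulVec, transpose_vecMulVec]
    have hYs : Y.map σ = 1 + σ a • vecMulVec sv w + σ b • vecMulVec sw v := by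
      rw [hY, Matrix.map_add σ σ.map_add, Matrix.map_add σ σ.map_add,
        Matrix.map_one σ σ.map_zero σ.map_one, hσmap, hσmap, hssw, hssv]
    have e1 : a + σ b + a * σ b * d = 0 := by
      rw [hb, map_div₀, map_sub, map_inv₀, hσ, map_one, hσd, ha]
      field_simp
      ring
    have e2 : b + σ a + b * σ a * d = 0 := by
      rw [ha, map_div₀, map_sub, map_one, hσd, hb]
      have : σ s ≠ 0 := by simp [hs, hs0]
      field_simp
      ring
    rw [IsU, hYt, hYs]
    simp only [Matrix.add_mul, Matrix.mul_add, Matrix.one_mul, Matrix.mul_one, Matrix.smul_mul,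
      Matrix.mul_smul, vecMulVec_mul_vecMulVec, hvv, hww, hvw, hwv,
      vecMulVec_smul, zero_smul, vecMulVec_zero, smul_zero, add_zero, smul_smul]
    linear_combination (norm := module) e1 • vecMulVec sw v + e2 • vecMulVec sv w
  · let U : Matrix (Fin (e + 1)) (Fin 2) F := Matrix.of fun i t => if t = 0 then v i else w i
    let W : Matrix (Fin 2) (Fin (e + 1)) F := Matrix.of fun t i => if t = 0 then a * sw i else b * sv i
    have hUW : Y = 1 + U * W := by
      ext i j
      simp [hY, U, W, Matrix.mul_apply, Fin.sum_univ_two, vecMulVec_apply]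
      ring
    have e00 : (W * U) 0 0 = a * d := by
      rw [← hvw, dotProduct, Finset.mul_sum]
      simp [Matrix.mul_apply, U, W]; congr 1; ext i; ring
    have e11 : (W * U) 1 1 = b * d := by
      rw [← hwv, dotProduct, Finset.mul_sum]
      simp [Matrix.mul_apply, U, W]; congr 1; ext i; ring
    have e01 : (W * U) 0 1 = 0 := by
      rw [← mul_zero a, ← hww, dotProduct, Finset.mul_sum]
      simp [Matrix.mul_apply, U, W]; congr 1; ext i; ring
    have e10 : (W * U) 1 0 = 0 := by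
      rw [← mul_zero b, ← hvv, dotProduct, Finset.mul_sum]
      simp [Matrix.mul_apply, U, W]; congr 1; ext i; ring
    rw [hUW, det_one_add_mul_comm, det_fin_two]
    simp only [Matrix.add_apply, e00, e01, e10, e11, Matrix.one_apply_eq,
      Matrix.one_apply_ne (show (0 : Fin 2) ≠ 1 by decide), Matrix.one_apply_ne (show (1 : Fin 2) ≠ 0 by decide)]
    rw [ha, hb, div_mul_cancel₀ _ hd, div_mul_cancel₀ _ hd, hs]
    field_simp
    ring
  · have hAU : IsU σ A := isU_shiftMat (by simp)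
    have hleft : ∀ {z : F}, z ≠ 0 → z ^ (e + 1) = -1 →
        (σ ∘ geomVec e z) ᵥ* A = (σ z)⁻¹ • (σ ∘ geomVec e z) := fun {z} hz0 hz => by
      have h := congrArg (fun u => Aᵀ *ᵥ (σ ∘ u)) (shiftMat_geomVec (e := e) hz0 hz)
      have e1 : σ ∘ (A *ᵥ geomVec e z) = A.map σ *ᵥ (σ ∘ geomVec e z) := funext (σ.map_mulVec A _)
      have e2 : σ ∘ (z • geomVec e z) = σ z • (σ ∘ geomVec e z) := by ext i; simp
      change Aᵀ *ᵥ (σ ∘ (A *ᵥ geomVec e z)) = Aᵀ *ᵥ (σ ∘ (z • geomVec e z)) at h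
      rw [e1, e2, mulVec_mulVec, show Aᵀ * A.map σ = 1 from hAU, one_mulVec, mulVec_smul,
        mulVec_transpose] at h
      calc (σ ∘ geomVec e z) ᵥ* A
          = (σ z)⁻¹ • σ z • ((σ ∘ geomVec e z) ᵥ* A) := by
            rw [smul_smul, inv_mul_cancel₀ ((map_ne_zero σ).2 hz0), one_smul]
        _ = _ := by rw [← h]
    have hv1 : A *ᵥ v = η • v := shiftMat_geomVec hη0 hη
    have hw1 : A *ᵥ w = (-η) • w := shiftMat_geomVec (neg_ne_zero.2 hη0) hη2
    have hv2 : sv ᵥ* A = (-η) • sv := by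
      have h : (σ η)⁻¹ = -η := inv_eq_of_mul_eq_one_left (by rw [neg_mul, hη', neg_neg])
      rw [hleft hη0 hη, h]
    have hw2 : sw ᵥ* A = η • sw := by
      have h : (σ (-η))⁻¹ = η := inv_eq_of_mul_eq_one_left (by rw [map_neg, mul_neg, hη', neg_neg])
      rw [hleft (neg_ne_zero.2 hη0) hη2, h]
    simp only [hY, Matrix.mul_add, Matrix.add_mul, Matrix.mul_one, Matrix.one_mul, Matrix.mul_smul,
      Matrix.smul_mul, mul_vecMulVec, vecMulVec_mul, hv1, hw1, hv2, hw2, smul_vecMulVec, vecMulVec_smul,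
      smul_smul]

/-- The determinant one pair on the block index type. -/
theorem exists_pair [Fintype F] {σ : F →+* F} {q : ℕ} (hσ : ∀ x, σ x = x ^ q)
    (hF : Fintype.card F = q ^ 2) {c : F} {k : ℕ} (hord : orderOf c = e + 1)
    (hcq : c ^ (q + 1) = 1) :
    ∃ A B : Matrix (Fin (e + 1) × Fin k) (Fin (e + 1) × Fin k) F,
      IsU σ A ∧ IsU σ B ∧ A.det = 1 ∧ B.det = 1 ∧ A * B = c • (B * A) := by
  set d := e + 1 with hd
  have hc0 : c ≠ 0 := fun h => by simp [h] at hcq
  set μ := c⁻¹ with hμ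
  have hcd : c ^ d = 1 := hord ▸ pow_orderOf_eq_one c
  have hμd : μ ^ (e + 1) = 1 := by rw [hμ, inv_pow, ← hd, hcd, inv_one]
  have hμord : orderOf μ = e + 1 := by
    refine Nat.dvd_antisymm (orderOf_dvd_of_pow_eq_one hμd) ?_
    have h := pow_orderOf_eq_one μ
    rw [hμ, inv_pow, inv_eq_one] at h
    have h2 := orderOf_dvd_of_pow_eq_one h
    rwa [hord] at h2
  have hcs : c * σ c = 1 := by rw [hσ, ← pow_succ', hcq]
  have hμs : ∀ r : ℕ, μ ^ r * σ (μ ^ r) = 1 := fun r => by
    rw [map_pow, ← mul_pow, hμ, map_inv₀, ← mul_inv, hcs, inv_one, one_pow]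
  have hcμ : c * μ = 1 := mul_inv_cancel₀ hc0
  set P := powDiag e μ
  have hPU : IsU σ P := isU_diagonal fun r => hμs _
  have hpair : ∀ (s : F) (Y : Fin k → Matrix (Fin (e + 1)) (Fin (e + 1)) F),
      (∀ j, shiftMat e s * Y j = Y j * shiftMat e s) →
      blockDiagonal (fun _ : Fin k => shiftMat e s) * blockDiagonal (fun j => Y j * P) =
        c • (blockDiagonal (fun j => Y j * P) * blockDiagonal (fun _ : Fin k => shiftMat e s)) := by
    intro s Y hY
    rw [← blockDiagonal_mul, ← blockDiagonal_mul, ← blockDiagonal_smul]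
    refine congrArg blockDiagonal (funext fun j => ?_)
    rw [Pi.smul_apply, ← Matrix.mul_assoc, hY, Matrix.mul_assoc, shiftMat_mul_powDiag hcμ hμd,
      Matrix.mul_smul, Matrix.mul_assoc]
  have hAU : ∀ s : F, s * σ s = 1 → IsU σ (blockDiagonal (fun _ : Fin k => shiftMat e s)) :=
    fun s h => isU_blockDiagonal fun _ => isU_shiftMat h
  have hAd : ∀ s : F, (blockDiagonal (fun _ : Fin k => shiftMat e s)).det = (s * (-1) ^ e) ^ k :=
    fun s => by simp [det_blockDiagonal, det_shiftMat]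
  have hBd : ∀ Y : Fin k → Matrix (Fin (e + 1)) (Fin (e + 1)) F,
      (blockDiagonal (fun j => Y j * P)).det = (∏ j, (Y j).det) * P.det ^ k :=
    fun Y => by simp [det_blockDiagonal, det_mul]
  rcases Nat.even_or_odd e with he | he
  · refine ⟨_, _, hAU 1 (by simp), isU_blockDiagonal fun _ => IsU.mul (isU_one σ) hPU, ?_, ?_,
      hpair 1 (fun _ => 1) fun _ => by simp⟩
    · rw [hAd, he.neg_one_pow, one_mul, one_pow]
    · rw [hBd, det_powDiag_of_odd hμd he]; simp
  rcases Nat.even_or_odd k with hk | hk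
  · refine ⟨_, _, hAU 1 (by simp), isU_blockDiagonal fun _ => IsU.mul (isU_one σ) hPU, ?_, ?_,
      hpair 1 (fun _ => 1) fun _ => by simp⟩
    · rw [hAd, he.neg_one_pow, one_mul, hk.neg_one_pow]
    · rw [hBd, det_powDiag_of_even hμord he, hk.neg_one_pow]; simp
  -- both natural determinants are `-1`
  have hdq : d ∣ q + 1 := hord ▸ orderOf_dvd_of_pow_eq_one hcq
  obtain ⟨t, ht⟩ : ∃ t, q + 1 = 2 * t := by
    obtain ⟨r, hr⟩ := he
    obtain ⟨m, hm⟩ := hdq
    exact ⟨(r + 1) * m, by rw [hm, hd, hr]; ring⟩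
  have hq1 : 1 ≤ q := by
    by_contra h
    have h0 : q = 0 := by omega
    have := Fintype.one_lt_card (α := F)
    rw [hF, h0] at this
    simp at this
  classical
  obtain ⟨gu, hgu⟩ := IsCyclic.exists_generator (α := Fˣ)
  have hgo : orderOf (gu : F) = q ^ 2 - 1 := by
    rw [orderOf_units, orderOf_eq_card_of_forall_mem_zpowers hgu, Nat.card_eq_fintype_card,
      Fintype.card_units, hF]
  obtain ⟨r, hr⟩ := he
  obtain ⟨m, hm⟩ := hdq
  have hN : q ^ 2 - 1 = 2 * ((q - 1) * t) := by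
    rw [show q ^ 2 - 1 = (q + 1) * (q - 1) by rw [← Nat.sq_sub_sq], ht]; ring
  have hhalf : (gu : F) ^ ((q - 1) * t) = -1 := by
    have h1 : (gu : F) ^ ((q - 1) * t) * (gu : F) ^ ((q - 1) * t) = 1 := by
      rw [← pow_add, ← two_mul, ← hN, ← hgo, pow_orderOf_eq_one]
    refine (mul_self_eq_one_iff.1 h1).resolve_left fun h => ?_
    have hpos : 0 < (q - 1) * t := by
      refine Nat.pos_of_ne_zero fun h0 => ?_
      have := orderOf_pos_iff.2 (isOfFinOrder_of_finite gu)
      rw [← orderOf_units, hgo, hN, h0] at this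
      simp at this
    have := Nat.le_of_dvd hpos (orderOf_dvd_of_pow_eq_one h)
    rw [hgo, hN] at this
    omega
  have hq_odd : q - 1 = 2 * (t - 1) := by omega
  set η := (gu : F) ^ ((t - 1) * m) with hη
  have hηd : η ^ (e + 1) = -1 := by
    rw [hη, ← pow_mul, ← hhalf]
    congr 1
    have e1 : (t - 1) * m * (e + 1) = (t - 1) * (q + 1) := by rw [hm, hd]; ring
    rw [e1, ht, hq_odd]; ring
  have hη2 : η * σ η * (η * σ η) = 1 := by
    rw [hσ, ← pow_succ', ← pow_add, hm, hd]
    rw [show (e + 1) * m + (e + 1) * m = (e + 1) * (2 * m) by ring, pow_mul, hηd,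
      (even_two_mul m).neg_one_pow]
  have hsneg : (-1 : F) * σ (-1) = 1 := by simp
  have hA : (blockDiagonal (fun _ : Fin k => shiftMat e (-1 : F))).det = 1 := by
    rw [hAd, Odd.neg_one_pow (⟨r, hr⟩ : Odd e)]; simp
  have hP : P.det = -1 := det_powDiag_of_even hμord ⟨r, hr⟩
  rcases mul_self_eq_one_iff.1 hη2 with h1 | h1
  · refine ⟨_, η • blockDiagonal (fun _ : Fin k => 1 * P), hAU (-1) hsneg,
      (isU_blockDiagonal fun _ => IsU.mul (isU_one σ) hPU).smul h1, hA, ?_, ?_⟩
    · rw [det_smul, hBd, hP, Fintype.card_prod, Fintype.card_fin, Fintype.card_fin, pow_mul, hηd]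
      simp [hk.neg_one_pow]
    · rw [Matrix.mul_smul, hpair (-1) (fun _ => 1) fun _ => by simp, Matrix.smul_mul, smul_comm]
  · obtain ⟨p, hp⟩ := CharP.exists F
    have hdne : ((e + 1 : ℕ) : F) ≠ 0 := by
      intro h
      have h2 : ((q + 1 : ℕ) : F) = 0 := by rw [hm, Nat.cast_mul, hd, h, zero_mul]
      have h3 : ((q : ℕ) : F) = 0 := by
        have h4 := FiniteField.cast_card_eq_zero F
        rw [hF, Nat.cast_pow] at h4
        exact pow_eq_zero_iff (by norm_num) |>.1 h4
      rw [Nat.cast_add, h3, zero_add, Nat.cast_one] at h2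
      exact one_ne_zero h2
    set z := (gu : F) ^ t with hz
    have hz0 : z ≠ 0 := pow_ne_zero _ gu.ne_zero
    have hzs : σ z = -z := by
      rw [hσ, hz, ← pow_mul, show t * q = (q - 1) * t + t by
        conv_lhs => rw [show q = (q - 1) + 1 by omega]
        ring, pow_add, hhalf, neg_one_mul]
    obtain ⟨Y, hYU, hYd, hYc⟩ :=
      exists_correction (fun x => by rw [hσ, hσ, ← pow_mul, ← pow_two, ← hF, FiniteField.pow_card]) hdne
        ⟨r, hr⟩ hηd h1 hz0 hzs
    obtain ⟨j0⟩ : Nonempty (Fin k) := ⟨⟨0, hk.pos⟩⟩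
    let Z : Fin k → Matrix (Fin (e + 1)) (Fin (e + 1)) F := fun j => if j = j0 then Y else 1
    refine ⟨_, _, hAU (-1) hsneg, isU_blockDiagonal (f := fun j => Z j * P) fun j => ?_, hA, ?_,
      hpair (-1) Z fun j => ?_⟩
    · refine IsU.mul ?_ hPU
      simp only [Z]; split
      exacts [hYU, isU_one σ]
    · rw [hBd, hP, hk.neg_one_pow]
      simp [Z, apply_ite Matrix.det, hYd]
    · simp only [Z]; split
      exacts [hYc, by simp]

end CfsgLib.OreSU.ScalarCase

namespace CfsgLib.OreSU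

open Matrix ScalarCase

/-- Scalar elements of the special unitary group are commutators. -/
theorem scalar_isComm {F : Type*} [Field F] [Fintype F] (n q : ℕ) (hn : 3 ≤ n)
    (hF : Fintype.card F = q ^ 2) (g : Cfsg.SU n F q) (c : F)
    (hg : ((g : Matrix.SpecialLinearGroup (Fin n) F) : Matrix (Fin n) (Fin n) F) =
      c • (1 : Matrix (Fin n) (Fin n) F)) :
    ∃ a b : Cfsg.SU n F q, g = a * b * a⁻¹ * b⁻¹ := by
  obtain ⟨p, hp⟩ := CharP.exists F
  have : Fact p.Prime := ⟨CharP.char_is_prime F p⟩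
  obtain ⟨f, hq⟩ : ∃ f, q = p ^ f := by
    obtain ⟨m, hm, hcard⟩ := FiniteField.card F p
    have hdvd : q ∣ p ^ (m : ℕ) := ⟨q, by rw [← hcard, hF]; ring⟩
    obtain ⟨f, -, hf⟩ := (Nat.dvd_prime_pow hm).1 hdvd
    exact ⟨f, hf⟩
  set σ : F →+* F := iterateFrobenius F p f
  have hσ : ∀ x, σ x = x ^ q := fun x => by rw [hq]; exact iterateFrobenius_def p f x
  have hherm : ∀ u v : Fin n → F, Cfsg.hermForm n F q u v = u ⬝ᵥ (σ ∘ v) := fun u v => by
    simp [Cfsg.hermForm, dotProduct, hσ]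
  have hval : ∀ h : Matrix.SpecialLinearGroup (Fin n) F,
      Cfsg.slToMat n F h = (h : Matrix (Fin n) (Fin n) F) := fun h => rfl
  have hcn : c ^ n = 1 := by
    have h := (g : Matrix.SpecialLinearGroup (Fin n) F).2
    rw [hg, det_smul, det_one, mul_one, Fintype.card_fin] at h
    exact h
  have hcq : c ^ (q + 1) = 1 := by
    have h := g.2 (Pi.single ⟨0, by omega⟩ 1) (Pi.single ⟨0, by omega⟩ 1)
    rw [hval, hg, hherm, hherm, smul_mulVec, one_mulVec] at h
    simp [single_dotProduct, smul_dotProduct, hσ] at h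
    simpa [pow_succ', mul_assoc] using h
  have hfin : 0 < orderOf c := orderOf_pos_iff.2 (isOfFinOrder_iff_pow_eq_one.2 ⟨n, by omega, hcn⟩)
  obtain ⟨e, he⟩ := Nat.exists_eq_succ_of_ne_zero hfin.ne'
  obtain ⟨k, hk⟩ := orderOf_dvd_of_pow_eq_one hcn
  obtain ⟨A, B, hA, hB, hAd, hBd, hAB⟩ := exists_pair (e := e) (k := k) hσ hF (c := c) he hcq
  let E : Fin (e + 1) × Fin k ≃ Fin n := finProdFinEquiv.trans (finCongr (by rw [hk, he]))
  have mk : ∀ M : Matrix (Fin (e + 1) × Fin k) (Fin (e + 1) × Fin k) F, IsU σ M → (hd : M.det = 1) →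
      (⟨reindex E E M, by rw [det_reindex_self, hd]⟩ : Matrix.SpecialLinearGroup (Fin n) F) ∈
        Cfsg.SU n F q := by
    intro M hM hd u v
    simp only [hherm]
    show reindex E E M *ᵥ u ⬝ᵥ (σ ∘ (reindex E E M *ᵥ v)) = _
    rw [show σ ∘ (reindex E E M *ᵥ v) = (reindex E E M).map σ *ᵥ (σ ∘ v) from funext (σ.map_mulVec _ _),
      ← vecMul_transpose, ← dotProduct_mulVec, mulVec_mulVec,
      show (reindex E E M)ᵀ * (reindex E E M).map σ = 1 from isU_reindex E hM, one_mulVec]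
  refine ⟨⟨_, mk A hA hAd⟩, ⟨_, mk B hB hBd⟩, ?_⟩
  rw [eq_mul_inv_iff_mul_eq, eq_mul_inv_iff_mul_eq]
  refine Subtype.ext (Subtype.ext ?_)
  show ((g : Matrix.SpecialLinearGroup (Fin n) F) : Matrix (Fin n) (Fin n) F) * reindex E E B *
    reindex E E A = reindex E E A * reindex E E B
  rw [hg, Matrix.smul_mul, Matrix.smul_mul, Matrix.one_mul]
  simp only [reindex_apply, submatrix_mul_equiv, hAB]
  rfl

end CfsgLib.OreSU
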