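import Cfsg.Agent.OreSU.Polys
import Cfsg.Prelude.Def_Classical

/-!
# From the split form to the standard Hermitian form

`Cfsg.SU n F q` is isomorphic to the determinant one part of `gu F (Fin (n / 2)) (Fin (n % 2))`.
-/

set_option autoImplicit false
set_option linter.unusedSectionVars false
set_option linter.unusedSimpArgs false

namespace CfsgLib.OreSU

open Matrix

/-- A field with `q ^ 2` elements carries the involution `x ↦ x ^ q`. -/
theorem exists_starRing {F : Type*} [Field F] [Fintype F] (q : ℕ) (hF : Fintype.card F = q ^ 2) :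
    ∃ sr : StarRing F, letI := sr; FinData F q := by
  obtain ⟨p, hp⟩ := CharP.exists F
  have : Fact p.Prime := ⟨CharP.char_is_prime F p⟩
  obtain ⟨f, hq⟩ : ∃ f, q = p ^ f := by
    obtain ⟨m, hm, hcard⟩ := FiniteField.card F p
    have hdvd : q ∣ p ^ (m : ℕ) := ⟨q, by rw [← hcard, hF]; ring⟩
    obtain ⟨f, -, hf⟩ := (Nat.dvd_prime_pow hm).1 hdvd
    exact ⟨f, hf⟩
  have hinv : ∀ x : F, (x ^ q) ^ q = x := fun x => by
    rw [← pow_mul, ← pow_two, ← hF, FiniteField.pow_card]
  let sr : StarRing F :=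
    { star := fun x => x ^ q
      star_involutive := hinv
      star_mul := fun x y => by show (x * y) ^ q = y ^ q * x ^ q; rw [mul_pow, mul_comm]
      star_add := fun x y => by show (x + y) ^ q = x ^ q + y ^ q; rw [hq, add_pow_char_pow] }
  exact ⟨sr, @FinData.mk F _ sr _ q hF fun x => rfl⟩

variable {F : Type*} [Field F] [StarRing F] [Fintype F] {n q : ℕ}

theorem hermForm_mulVec (D : FinData F q) (M : Matrix (Fin n) (Fin n) F) (u v : Fin n → F) :
    Cfsg.hermForm n F q (M *ᵥ u) (M *ᵥ v) = star v ⬝ᵥ ((Mᴴ * M) *ᵥ u) := by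
  rw [← mulVec_mulVec, dotProduct_mulVec, ← star_mulVec]
  simp [Cfsg.hermForm, dotProduct, D.star_eq, mul_comm]

theorem mem_SU_iff (D : FinData F q) (M : Matrix.SpecialLinearGroup (Fin n) F) :
    M ∈ Cfsg.SU n F q ↔
      (M : Matrix (Fin n) (Fin n) F)ᴴ * (M : Matrix (Fin n) (Fin n) F) = 1 := by
  constructor
  · intro h
    ext i j
    have h1 := h (Pi.single j 1) (Pi.single i 1)
    change Cfsg.hermForm n F q ((M : Matrix (Fin n) (Fin n) F) *ᵥ _)
      ((M : Matrix (Fin n) (Fin n) F) *ᵥ _) = _ at h1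
    rw [hermForm_mulVec D] at h1
    have hq : q ≠ 0 := by have := D.two_le; omega
    have hstar : star (Pi.single i (1 : F) : Fin n → F) = Pi.single i 1 := by
      funext k
      simp [Pi.single_apply, apply_ite star]
    rw [hstar, single_dotProduct, one_mul, mulVec_single_one] at h1
    refine h1.trans ?_
    simp [Cfsg.hermForm, Pi.single_apply, Matrix.one_apply, hq]
  · intro h u v
    change Cfsg.hermForm n F q ((M : Matrix (Fin n) (Fin n) F) *ᵥ u)
      ((M : Matrix (Fin n) (Fin n) F) *ᵥ v) = _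
    rw [hermForm_mulVec D, h, one_mulVec]
    simp [Cfsg.hermForm, dotProduct, D.star_eq, mul_comm]

/-- A square root of the split form. -/
theorem exists_split (D : FinData F q) (ι κ : Type*) [Fintype ι] [DecidableEq ι] [Fintype κ]
    [DecidableEq κ] :
    ∃ S : Matrix (ι ⊕ κ ⊕ ι) (ι ⊕ κ ⊕ ι) F, Sᴴ * S = jj ι κ := by
  obtain ⟨α, hα⟩ := D.starData.norm (-1) (by simp)
  obtain ⟨t, ht⟩ := D.starData.trace
  refine ⟨b3 1 0 ((1 - t) • 1) 0 1 0 (α • 1) 0 ((-(t * α)) • 1), ?_⟩
  rw [b3_conjTranspose, b3_mul, jj, b3_inj]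
  simp only [conjTranspose_one, conjTranspose_zero, conjTranspose_smul, Matrix.mul_one, Matrix.one_mul,
    Matrix.mul_zero, Matrix.zero_mul, add_zero, zero_add, Matrix.smul_mul, Matrix.mul_smul, smul_smul,
    smul_zero]
  refine ⟨?_, trivial, ?_, trivial, trivial, trivial, ?_, trivial, ?_⟩
  · nth_rewrite 1 [← one_smul F (1 : Matrix ι ι F)]
    rw [← add_smul, show 1 + α * star α = 0 by rw [hα]; ring, zero_smul]
  · rw [← add_smul]
    convert one_smul F (1 : Matrix ι ι F) using 2
    linear_combination (-t) * hα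
  · rw [← add_smul]
    convert one_smul F (1 : Matrix ι ι F) using 2
    simp only [star_sub, star_one, star_neg, star_mul']
    linear_combination (-star t) * hα
  · rw [← add_smul]
    convert zero_smul F (1 : Matrix ι ι F) using 2
    simp only [star_sub, star_one, star_neg, star_mul']
    linear_combination t * star t * hα - ht

/-- The index type of the split form in dimension `n`. -/
abbrev SplitIdx (n : ℕ) : Type := Fin (n / 2) ⊕ Fin (n % 2) ⊕ Fin (n / 2)

/-- Commutators in the split unitary group give commutators in `SU n F q`. -/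
theorem transfer {F : Type*} [Field F] [StarRing F] [Fintype F] {n q : ℕ} (D : FinData F q)
    (H : ∀ g : gu F (Fin (n / 2)) (Fin (n % 2)), dt F (Fin (n / 2)) (Fin (n % 2)) g = 1 →
      ¬ IsScal g → IsComm g)
    (g : Cfsg.SU n F q)
    (hg : ∀ c : F, ((g : Matrix.SpecialLinearGroup (Fin n) F) : Matrix (Fin n) (Fin n) F) ≠ c • 1) :
    ∃ a b : Cfsg.SU n F q, g = a * b * a⁻¹ * b⁻¹ := by
  obtain ⟨S, hS⟩ := exists_split D (Fin (n / 2)) (Fin (n % 2))
  have e : Fin n ≃ Fin (n / 2) ⊕ Fin (n % 2) ⊕ Fin (n / 2) :=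
    Fintype.equivOfCardEq (by simp only [Fintype.card_sum, Fintype.card_fin]; omega)
  have hd : IsUnit S.det := isUnit_iff_ne_zero.2 fun h0 => by
    have := congrArg Matrix.det hS
    rw [det_mul, h0, mul_zero] at this
    exact jj_det_ne this.symm
  set G : Matrix (Fin n) (Fin n) F := ((g : Matrix.SpecialLinearGroup (Fin n) F) : Matrix (Fin n) (Fin n) F)
  set M : Matrix (SplitIdx n) (SplitIdx n) F := G.submatrix e.symm e.symm with hM
  have hGu : Gᴴ * G = 1 := (mem_SU_iff D _).1 g.2
  have hMu : Mᴴ * M = 1 := by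
    rw [hM, conjTranspose_submatrix, submatrix_mul_equiv, hGu, submatrix_one_equiv]
  have hMd : M.det = 1 := by
    rw [hM, det_submatrix_equiv_self]; exact (g : Matrix.SpecialLinearGroup (Fin n) F).2
  set N : Matrix (SplitIdx n) (SplitIdx n) F := S⁻¹ * M * S with hN
  have hNd : N.det = 1 := by
    rw [hN, det_conj' ((Matrix.isUnit_iff_isUnit_det S).2 hd), hMd]
  have hNu : IsUnit N := (Matrix.isUnit_iff_isUnit_det N).2 (by rw [hNd]; exact isUnit_one)
  have hSN : S * N = M * S := by
    rw [hN, ← Matrix.mul_assoc, ← Matrix.mul_assoc, Matrix.mul_nonsing_inv S hd, Matrix.one_mul]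
  have hmem : hNu.unit ∈ gu F (Fin (n / 2)) (Fin (n % 2)) := by
    show Nᴴ * jj _ _ * N = jj _ _
    rw [← hS]
    calc Nᴴ * (Sᴴ * S) * N = (S * N)ᴴ * (S * N) := by rw [conjTranspose_mul S N]; simp only [Matrix.mul_assoc]
      _ = Sᴴ * (Mᴴ * M) * S := by rw [hSN, conjTranspose_mul M S]; simp only [Matrix.mul_assoc]
      _ = Sᴴ * S := by rw [hMu, Matrix.mul_one]
  obtain ⟨a, b, ha, hb, hab⟩ := H ⟨hNu.unit, hmem⟩ hNd fun ⟨c, hc⟩ => hg c (by
    change N = c • 1 at hc
    have h1 : M * S = (c • 1 : Matrix (SplitIdx n) (SplitIdx n) F) * S := by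
      rw [← hSN, hc, Matrix.mul_smul, Matrix.mul_one, Matrix.smul_mul, Matrix.one_mul]
    have h2 := congrArg (· * S⁻¹) h1
    simp only [Matrix.mul_assoc, Matrix.mul_nonsing_inv S hd, Matrix.mul_one] at h2
    show G = _
    ext i j
    have := congrFun (congrFun h2 (e i)) (e j)
    simpa [hM, Matrix.one_apply] using this)
  let back : Matrix (SplitIdx n) (SplitIdx n) F → Matrix (Fin n) (Fin n) F := fun A => (S * A * S⁻¹).submatrix e e
  have hback : ∀ A B : Matrix (SplitIdx n) (SplitIdx n) F, back A * back B = back (A * B) := fun A B => by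
    simp only [back, submatrix_mul_equiv]
    congr 1
    simp only [Matrix.mul_assoc]
    rw [← Matrix.mul_assoc S⁻¹ S, Matrix.nonsing_inv_mul S hd, Matrix.one_mul]
  have hdet : ∀ A : Matrix (SplitIdx n) (SplitIdx n) F, (back A).det = A.det := fun A => by
    simp only [back, det_submatrix_equiv_self, det_conj ((Matrix.isUnit_iff_isUnit_det S).2 hd)]
  have mk : ∀ x : gu F (Fin (n / 2)) (Fin (n % 2)), (hx : dt F _ _ x = 1) →
      (⟨back (mat x), by rw [hdet]; exact hx⟩ : Matrix.SpecialLinearGroup (Fin n) F) ∈ Cfsg.SU n F q := by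
    intro x hx
    refine (mem_SU_iff D _).2 ?_
    have hSS : (S⁻¹)ᴴ * jj _ _ * S⁻¹ = 1 := by
      rw [← hS, ← Matrix.mul_assoc, ← conjTranspose_mul, Matrix.mul_nonsing_inv S hd, conjTranspose_one,
        Matrix.one_mul, Matrix.mul_nonsing_inv S hd]
    show (back (mat x))ᴴ * back (mat x) = 1
    simp only [back, conjTranspose_submatrix, submatrix_mul_equiv]
    rw [show (S * mat x * S⁻¹)ᴴ * (S * mat x * S⁻¹) = (S⁻¹)ᴴ * ((mat x)ᴴ * (Sᴴ * S) * mat x) * S⁻¹ by
      simp only [conjTranspose_mul, Matrix.mul_assoc], hS, mem_gu, hSS, submatrix_one_equiv]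
  have hG : back N = G := by
    simp only [back, hN, hM]
    rw [← Matrix.mul_assoc, ← Matrix.mul_assoc, Matrix.mul_nonsing_inv S hd, Matrix.one_mul,
      Matrix.mul_assoc, Matrix.mul_nonsing_inv S hd, Matrix.mul_one]
    exact Matrix.ext fun i j => by simp
  refine ⟨⟨_, mk a ha⟩, ⟨_, mk b hb⟩, ?_⟩
  rw [eq_mul_inv_iff_mul_eq, eq_mul_inv_iff_mul_eq]
  refine Subtype.ext (Subtype.ext ?_)
  rw [eq_mul_inv_iff_mul_eq, eq_mul_inv_iff_mul_eq] at hab
  have h := congrArg mat hab
  change N * mat b * mat a = mat a * mat b at h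
  show G * back (mat b) * back (mat a) = back (mat a) * back (mat b)
  rw [← hG, hback, hback, hback, h]

end CfsgLib.OreSU
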